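import Groth.Agent.AVRosati.SubAV
import Groth.Agent.IsogLib.Field
import Groth.Agent.GrpSchLib.FieldDim
import Groth.Agent.GrpSchLib.FieldAllComp
import Groth.Agent.GrpSchLib.HomFinite
import Groth.Agent.GrpSchLib.ImageFlat

/-!
Surjective homomorphisms of abelian varieties have quasi-sections, so every homomorphism is regular up
to a positive integer.
-/

noncomputable section

set_option autoImplicit false
set_option linter.style.haveILetI false
set_option linter.unusedSectionVars false
set_option backward.isDefEq.respectTransparency false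
set_option backward.isDefEq.respectTransparency.types false

universe u

open CategoryTheory CategoryTheory.Limits AlgebraicGeometry MonoidalCategory CartesianMonoidalCategory
open scoped MonObj

namespace Groth.Agent.AVRosati.QuasiSection

variable {k : Type u} [Field k]

/-- A group scheme over a field whose unit is a connected component is discrete. -/
theorem discreteTopology_of_component {M : Over (Spec (CommRingCat.of k))} [GrpObj M] [LocallyOfFiniteType M.hom]
    (h : connectedComponent (η[M].left (IsLocalRing.closedPoint k)) = {η[M].left (IsLocalRing.closedPoint k)}) :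
    DiscreteTopology M.left := by
  haveI : IsLocallyNoetherian M.left := LocallyOfFiniteType.isLocallyNoetherian M.hom
  set e := η[M].left (IsLocalRing.closedPoint k) with he
  have hec : IsClosed ({e} : Set M.left) := h ▸ isClosed_connectedComponent
  have hemax : GrpSchLib.IsMaxPt e := fun d hd => by
    have hd' : e ∈ closure ({d} : Set M.left) := specializes_iff_mem_closure.1 hd
    have : closure ({d} : Set M.left) ⊆ connectedComponent e :=
      isIrreducible_singleton.closure.isPreirreducible.isPreconnected.subset_connectedComponent hd'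
    have := this (subset_closure rfl)
    rw [h] at this
    exact this
  obtain ⟨n, hn⟩ := GrpSchLib.exists_height_isMaxPt M
  have hn0 : n = 0 := (hn e hemax).symm.trans ((VarDim.closedPoint_iff_deg_eq_zero M.hom e).1 hec)
  refine discreteTopology_iff_isOpen_singleton.2 fun x => ?_
  obtain ⟨c, hc, hcx⟩ := GrpSchLib.exists_isMaxPt x
  have hcc : IsClosed ({c} : Set M.left) :=
    (VarDim.closedPoint_iff_deg_eq_zero M.hom c).2 ((hn c hc).trans hn0)
  have hxc : x = c := by
    have := specializes_iff_mem_closure.1 hcx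
    rwa [hcc.closure_eq] at this
  subst hxc
  have hopen := GrpSchLib.isOpen_connectedComponent x
  rwa [GrpSchLib.connectedComponent_eq_closure hc hcx, hcc.closure_eq] at hopen

/-- A subgroup of an abelian variety contains an abelian subvariety with the space of its unit component. -/
theorem exists_component {X M : Over (Spec (CommRingCat.of k))} [GrpObj X] [IsProper X.hom]
    [GeometricallyIntegral X.hom] [GrpObj M] (i : M ⟶ X) [IsMonHom i] [IsClosedImmersion i.left] :
    ∃ (N : Over (Spec (CommRingCat.of k))) (_ : GrpObj N) (j : N ⟶ M), IsMonHom j ∧ IsClosedImmersion j.left ∧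
      IsProper N.hom ∧ GeometricallyIntegral N.hom ∧
      Set.range j.left = connectedComponent (η[M].left (IsLocalRing.closedPoint k)) := by
  obtain ⟨G₀, _, incl, hmon, hci, -, hr, hirr, -⟩ := GrpSchLib.exists_identityComponent (G := M)
  haveI := hci
  haveI := hirr
  haveI : IrreducibleSpace G₀.left := GeometricallyIrreducible.irreducibleSpace_of_subsingleton G₀.hom
  haveI : ConnectedSpace G₀.left := { toNonempty := inferInstance }
  haveI : IsClosedImmersion (incl ≫ i).left := by rw [Over.comp_left]; infer_instance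
  obtain ⟨N, hNG, j, hj, hjc, hjs, hNp, hNi⟩ := SubAV.exists_abelian_sub_of_connected (incl ≫ i)
  haveI := hj
  haveI := hjc
  haveI := hjs
  refine ⟨N, hNG, j ≫ incl, inferInstance, by rw [Over.comp_left]; infer_instance, hNp, hNi, ?_⟩
  rw [← hr, Over.comp_left]
  refine Set.Subset.antisymm (Set.range_comp_subset_range j.left incl.left) ?_
  rintro _ ⟨y, rfl⟩
  obtain ⟨z, rfl⟩ := Scheme.Hom.surjective j.left y
  exact ⟨z, rfl⟩

variable {A B : Over (Spec (CommRingCat.of k))} [GrpObj A] [IsProper A.hom] [GeometricallyIntegral A.hom]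
  [GrpObj B] [IsProper B.hom] [GeometricallyIntegral B.hom]

omit [IsProper A.hom] [GeometricallyIntegral A.hom] in
theorem exists_kernel (f : A ⟶ B) [IsMonHom f] :
    ∃ (M : Over (Spec (CommRingCat.of k))) (_ : GrpObj M) (i : M ⟶ A), IsMonHom i ∧ IsClosedImmersion i.left ∧
      IsPullback i (toUnit M) f η[B] := by
  have hF : IsPullback (pullback.fst f η[B]) (toUnit (pullback f η[B])) f η[B] := by
    have h := IsPullback.of_hasPullback f η[B]
    rwa [toUnit_unique (pullback.snd f η[B]) (toUnit _)] at h
  generalize pullback.fst f η[B] = incl at hF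
  generalize pullback f η[B] = F at incl hF
  obtain ⟨hFG, hincl⟩ := IsogLib.exists_grpObj_kernel f hF
  have h : IsPullback incl.left (toUnit F).left f.left η[B].left := hF.map (Over.forget _)
  haveI : IsClosedImmersion η[B].left := by
    haveI : IsClosedImmersion (η[B].left ≫ B.hom) := by
      rw [Over.w]
      exact inferInstanceAs (IsClosedImmersion (𝟙 (Spec (CommRingCat.of k))))
    exact IsClosedImmersion.of_comp η[B].left B.hom
  exact ⟨F, hFG, incl, hincl, MorphismProperty.of_isPullback (P := @IsClosedImmersion) h.flip inferInstance, hF⟩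

/-- A surjective homomorphism is an isogeny on a complement of the unit component of its kernel. -/
theorem exists_complement (τ : A ⟶ B) [IsMonHom τ] [Surjective τ.left] :
    ∃ (H : Over (Spec (CommRingCat.of k))) (_ : GrpObj H) (iH : H ⟶ A) (Kab : Over (Spec (CommRingCat.of k)))
      (_ : GrpObj Kab) (j₀ : Kab ⟶ H) (u : A ⟶ Kab) (n : ℕ) (C : Over (Spec (CommRingCat.of k))) (_ : GrpObj C)
      (c : C ⟶ A) (e' : A ⟶ C),
      IsMonHom iH ∧ IsClosedImmersion iH.left ∧ IsPullback iH (toUnit H) τ η[B] ∧
      IsMonHom j₀ ∧ IsClosedImmersion j₀.left ∧ IsProper Kab.hom ∧ GeometricallyIntegral Kab.hom ∧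
      Set.range j₀.left = connectedComponent (η[H].left (IsLocalRing.closedPoint k)) ∧
      IsMonHom u ∧ 0 < n ∧ (j₀ ≫ iH) ≫ u = 𝟙 Kab ^ n ∧
      IsMonHom c ∧ IsClosedImmersion c.left ∧ IsProper C.hom ∧ GeometricallyIntegral C.hom ∧ c ≫ u = 1 ∧
      (u ≫ j₀ ≫ iH) * (e' ≫ c) = 𝟙 A ^ n ∧ Surjective e'.left ∧
      Surjective (c ≫ τ).left ∧ IsFinite (c ≫ τ).left := by
  haveI : IsCommMonObj A := isCommMonObj_of_isProper_of_geometricallyIntegral A
  haveI : IsCommMonObj B := isCommMonObj_of_isProper_of_geometricallyIntegral B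
  obtain ⟨H, hHG, iH, hiH, hiHc, hH⟩ := exists_kernel τ
  haveI := hiH
  haveI := hiHc
  obtain ⟨Kab, hKG, j₀, hj₀, hj₀c, hKp, hKi, hj₀r⟩ := exists_component iH
  haveI := hj₀
  haveI := hj₀c
  haveI := hKp
  haveI := hKi
  haveI : IsClosedImmersion (j₀ ≫ iH).left := by rw [Over.comp_left]; infer_instance
  obtain ⟨j, hj⟩ : ∃ j : Kab ⟶ A, j = j₀ ≫ iH := ⟨_, rfl⟩
  haveI : IsMonHom j := hj ▸ inferInstance
  haveI : IsClosedImmersion j.left := hj ▸ inferInstance
  have hjτ : j ≫ τ = 1 := by rw [hj, Category.assoc, IsogLib.kernel_comp τ hH, MonObj.comp_one]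
  obtain ⟨v, n, hn, hv, hjv⟩ := SubAV.exists_retraction j
  haveI := hv
  obtain ⟨e, he⟩ : ∃ e : A ⟶ A, e = 𝟙 A ^ n * (v ≫ j)⁻¹ := ⟨_, rfl⟩
  haveI : IsMonHom e := by
    refine GrpSchLib.RigidHom.isMonHom_of_one e ?_
    simp only [he, MonObj.comp_mul, MonObj.comp_pow, GrpObj.comp_inv, Category.comp_id,
      IsMonHom.one_hom (v ≫ j)]
    rw [MonObj.one_eq_one, one_pow, inv_one, _root_.one_mul]
  have hev : e ≫ v = 1 := by
    rw [he, MonObj.mul_comp, MonObj.pow_comp, GrpObj.inv_comp, Category.id_comp, Category.assoc, hjv,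
      MonObj.comp_pow, Category.comp_id, mul_inv_cancel]
  have heτ : e ≫ τ = τ ^ n := by
    rw [he, MonObj.mul_comp, MonObj.pow_comp, GrpObj.inv_comp, Category.id_comp, Category.assoc, hjτ,
      MonObj.comp_one, inv_one, _root_.mul_one]
  obtain ⟨C, hCG, c, hc, hcc, hCp, hCi, hcr⟩ := IsogLib.exists_image e
  haveI := hc
  haveI := hcc
  haveI := hCp
  haveI := hCi
  haveI : IsIntegral A.left := H23.MaxAbelian.isIntegral_of_geometricallyIntegral
  haveI : IsIntegral C.left := H23.MaxAbelian.isIntegral_of_geometricallyIntegral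
  haveI : IsIntegral B.left := H23.MaxAbelian.isIntegral_of_geometricallyIntegral
  obtain ⟨e', he'⟩ := SubAV.exists_lift_over e c hcr.ge
  haveI : Surjective e'.left := SubAV.surjective_of_range e' c (by rw [he', hcr])
  haveI : IsDominant e'.left := inferInstance
  have hcv : c ≫ v = 1 := by
    refine Over.OverMorphism.ext (ext_of_isDominant_of_isSeparated Kab.hom (by rw [Over.w, Over.w]) e'.left ?_)
    rw [← Over.comp_left, ← Over.comp_left, ← Category.assoc, he', hev, MonObj.comp_one]
  -- the complement maps onto `B`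
  haveI : Surjective (c ≫ τ).left := by
    haveI : Surjective (τ ^ n).left := by
      have : τ ^ n = τ ≫ (𝟙 B ^ n) := by rw [MonObj.comp_pow, Category.comp_id]
      rw [this, Over.comp_left]
      haveI := AVMulN.surjective_pow (A := B) n hn
      infer_instance
    haveI : Surjective (e'.left ≫ (c ≫ τ).left) := by
      rw [← Over.comp_left, ← Category.assoc, he', heτ]; infer_instance
    exact Surjective.of_comp e'.left (c ≫ τ).left
  -- with finite kernel
  obtain ⟨M, _, iM, hiM, hiMc, hM⟩ := exists_kernel (c ≫ τ)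
  haveI := hiM
  haveI := hiMc
  haveI : IsProper M.hom := by rw [← Over.w iM]; infer_instance
  obtain ⟨N, _, jN, hjN, hjNc, hNp, hNi, hjNr⟩ := exists_component iM
  haveI := hjN
  haveI := hjNc
  haveI := hNp
  haveI := hNi
  haveI : IsIntegral N.left := H23.MaxAbelian.isIntegral_of_geometricallyIntegral
  haveI : IsClosedImmersion (jN ≫ iM).left := by rw [Over.comp_left]; infer_instance
  haveI : IsClosedImmersion ((jN ≫ iM) ≫ c).left := by rw [Over.comp_left]; infer_instance
  obtain ⟨x, hx⟩ : ∃ x : N ⟶ A, x = (jN ≫ iM) ≫ c := ⟨_, rfl⟩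
  haveI : IsMonHom x := hx ▸ inferInstance
  haveI : IsClosedImmersion x.left := hx ▸ inferInstance
  have hxτ : x ≫ τ = 1 := by
    rw [hx]
    simp only [Category.assoc]
    rw [IsogLib.kernel_comp (c ≫ τ) hM, MonObj.comp_one]
  have hxv : x ≫ v = 1 := by rw [hx, Category.assoc, hcv, MonObj.comp_one]
  obtain ⟨l, hl⟩ := IsogLib.exists_kernel_lift τ hH x hxτ
  haveI : IrreducibleSpace N.left := inferInstance
  have hlone : η[N] ≫ l = η[H] := by
    haveI := SubAV.mono_of_closed iH
    rw [← cancel_mono iH, Category.assoc, hl, IsMonHom.one_hom x, IsMonHom.one_hom iH]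
  have hlr : Set.range x.left ⊆ Set.range j.left := by
    rw [hj, ← hl, Over.comp_left, Over.comp_left, Scheme.Hom.comp_base, Scheme.Hom.comp_base,
      TopCat.coe_comp, TopCat.coe_comp, Set.range_comp, Set.range_comp, hj₀r]
    refine Set.image_mono ((IsIrreducible.image (IrreducibleSpace.isIrreducible_univ _) l.left
      l.left.continuous.continuousOn).isPreirreducible.isPreconnected.subset_connectedComponent
        (x := η[H].left (IsLocalRing.closedPoint k)) ⟨η[N].left (IsLocalRing.closedPoint k), trivial, ?_⟩ |>.trans'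
          (by rw [Set.image_univ]))
    rw [← hlone, Over.comp_left, Scheme.Hom.comp_apply]
  obtain ⟨w, hw⟩ := SubAV.exists_lift_over x j hlr
  haveI : IsMonHom w := by
    haveI := SubAV.mono_of_closed j
    haveI : IsMonHom (w ≫ j) := hw ▸ inferInstance
    exact SubAV.isMonHom_of_comp_mono w j
  have hwn : w ^ n = 1 := by
    rw [← hxv, ← hw, Category.assoc, hjv, MonObj.comp_pow, Category.comp_id]
  have hNn : (𝟙 N ^ n : N ⟶ N) = 1 := by
    haveI := SubAV.mono_of_closed x
    rw [← cancel_mono x, MonObj.pow_comp, Category.id_comp, ← hw, ← MonObj.pow_comp, hwn, MonObj.one_comp,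
      MonObj.one_comp]
  have hsub : Subsingleton N.left := by
    haveI := AVMulN.surjective_pow (A := N) n hn
    refine ⟨fun a b => ?_⟩
    obtain ⟨a', rfl⟩ := Scheme.Hom.surjective (𝟙 N ^ n : N ⟶ N).left a
    obtain ⟨b', rfl⟩ := Scheme.Hom.surjective (𝟙 N ^ n : N ⟶ N).left b
    simp only [hNn, Hom.one_def, Over.comp_left, Scheme.Hom.comp_apply]
    exact congrArg _ (Subsingleton.elim (α := PrimeSpectrum k) _ _)
  have hMc : connectedComponent (η[M].left (IsLocalRing.closedPoint k)) = {η[M].left (IsLocalRing.closedPoint k)} := by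
    refine Set.Subsingleton.eq_singleton_of_mem ?_ mem_connectedComponent
    rw [← hjNr]
    rintro _ ⟨a, rfl⟩ _ ⟨b, rfl⟩
    rw [Subsingleton.elim a b]
  haveI : DiscreteTopology M.left := discreteTopology_of_component hMc
  haveI : IsProper ((c ≫ τ).left ≫ B.hom) := by rw [Over.w]; infer_instance
  haveI : IsProper (c ≫ τ).left := IsProper.of_comp _ B.hom
  haveI : IsFinite (c ≫ τ).left := by
    refine GrpSchLib.HomFinite.isFinite_of_discrete_ker (A := k) (c ≫ τ) ?_
    have h : IsPullback iM.left (toUnit M).left (c ≫ τ).left η[B].left := hM.map (Over.forget _)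
    exact h.isoPullback.inv.homeomorph.isEmbedding.discreteTopology
  refine ⟨H, hHG, iH, Kab, hKG, j₀, v, n, C, hCG, c, e', hiH, hiHc, hH, hj₀, hj₀c, hKp, hKi, hj₀r, hv, hn,
    hj ▸ hjv, hc, hcc, hCp, hCi, hcv, ?_, inferInstance, inferInstance, inferInstance⟩
  rw [he', ← hj, he, mul_comm (𝟙 A ^ n), mul_inv_cancel_left]

/-- A surjective homomorphism has a quasi-section. -/
theorem exists_quasi_section (τ : A ⟶ B) [IsMonHom τ] [Surjective τ.left] :
    ∃ (σ : B ⟶ A) (m : ℕ), 0 < m ∧ IsMonHom σ ∧ σ ≫ τ = 𝟙 B ^ m := by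
  haveI : IsCommMonObj A := isCommMonObj_of_isProper_of_geometricallyIntegral A
  haveI : IsCommMonObj B := isCommMonObj_of_isProper_of_geometricallyIntegral B
  haveI : IsIntegral B.left := H23.MaxAbelian.isIntegral_of_geometricallyIntegral
  obtain ⟨H, _, iH, Kab, _, j₀, u, n, C, _, c, e', -, -, -, -, -, -, -, -, -, -, -, hc, -, hCp, hCi, -, -, -,
    hsur, hfin⟩ := exists_complement τ
  haveI := hc
  haveI := hCp
  haveI := hCi
  haveI := hsur
  haveI := hfin
  haveI : IsSchemeTheoreticallyDominant (c ≫ τ).left := IsSchemeTheoreticallyDominant.of_isDominant _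
  haveI : Flat (c ≫ τ).left := (GrpSchLib.ImageFlat.flat_surjective_of_dominant (c ≫ τ)).1
  obtain ⟨m, g, hm, hg, -, hgf, -⟩ := IsogLib.exists_quasiInverse (c ≫ τ)
  haveI := hg
  exact ⟨g ≫ c, m, hm, inferInstance, by rw [Category.assoc, hgf]⟩

/-- Every homomorphism of abelian varieties is regular up to a positive integer. -/
theorem exists_regular (f : A ⟶ B) [IsMonHom f] :
    ∃ (y : B ⟶ A) (N : ℕ), 0 < N ∧ IsMonHom y ∧ f ≫ y ≫ f = f ^ N := by
  haveI : IsCommMonObj A := isCommMonObj_of_isProper_of_geometricallyIntegral A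
  haveI : IsCommMonObj B := isCommMonObj_of_isProper_of_geometricallyIntegral B
  obtain ⟨C, _, i, hi, hic, hCp, hCi, hir⟩ := IsogLib.exists_image f
  haveI := hi
  haveI := hic
  haveI := hCp
  haveI := hCi
  haveI : IsIntegral A.left := H23.MaxAbelian.isIntegral_of_geometricallyIntegral
  obtain ⟨τ, hτ⟩ := SubAV.exists_lift_over f i hir.ge
  haveI : Surjective τ.left := SubAV.surjective_of_range τ i (by rw [hτ, hir])
  haveI := SubAV.mono_of_closed i
  haveI : IsMonHom (τ ≫ i) := hτ ▸ inferInstance
  haveI : IsMonHom τ := SubAV.isMonHom_of_comp_mono τ i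
  obtain ⟨σ, m, hm, hσ, hστ⟩ := exists_quasi_section τ
  haveI := hσ
  obtain ⟨u, n, hn, hu, hiu⟩ := SubAV.exists_retraction i
  haveI := hu
  refine ⟨u ≫ σ, n * m, Nat.mul_pos hn hm, inferInstance, ?_⟩
  rw [← hτ]
  simp only [Category.assoc]
  rw [reassoc_of% hiu, ← Category.assoc σ τ i, hστ]
  simp only [MonObj.pow_comp, MonObj.comp_pow, Category.id_comp, Category.comp_id]
  rw [← pow_mul]

end Groth.Agent.AVRosati.QuasiSection
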