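import Groth.Agent.AVRosati.SubAV
import Groth.Agent.AVRosati.QuasiSection
import Groth.Agent.AlgSpDec.ActQuotient
import Groth.Agent.FpqcDescLib.Group
import Groth.Agent.IsogLib.Field
import Groth.Agent.S19556
import Groth.Agent.S5236
import Groth.Agent.FBaseLib.Basic
import Mathlib.RingTheory.Adjoin.Tower

/-!
The quotient of an abelian variety by a finite subgroup scheme.
-/

noncomputable section

set_option autoImplicit false
set_option linter.style.haveILetI false
set_option linter.unusedSectionVars false
set_option backward.isDefEq.respectTransparency false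
set_option backward.isDefEq.respectTransparency.types false

universe u

open CategoryTheory CategoryTheory.Limits AlgebraicGeometry MonoidalCategory CartesianMonoidalCategory
open scoped MonObj

namespace Groth.Agent.AVRosati.FinQuot

variable {k : Type u} [Field k]

/-- Translation by points of a subgroup. -/
def translation {F X : Over (Spec (CommRingCat.of k))} [GrpObj F] [GrpObj X] (i : F ⟶ X) [IsMonHom i] :
    AlgGrp.Action F X where
  act := (fst F X ≫ i) * snd F X
  one_act := by
    rw [MonObj.comp_mul, whiskerRight_fst_assoc, whiskerRight_snd, leftUnitor_hom, IsMonHom.one_hom i,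
      toUnit_unique (fst (𝟙_ (Over (Spec (CommRingCat.of k)))) X) (toUnit _)]
    exact _root_.one_mul _
  mul_act := by
    simp only [MonObj.comp_mul, whiskerRight_fst_assoc, whiskerRight_snd, whiskerLeft_fst_assoc,
      whiskerLeft_snd_assoc, associator_hom_fst_assoc, associator_hom_snd_fst_assoc, associator_hom_snd_snd]
    rw [MonObj.mul_eq_mul]
    simp only [MonObj.mul_comp, MonObj.comp_mul, whiskerLeft_snd, associator_hom_snd_fst_assoc,
      associator_hom_snd_snd, Category.assoc, _root_.mul_assoc]

/-- Finite type descends along finite surjections onto reduced schemes. -/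
theorem locallyOfFiniteType_of_finite {X Y : Scheme.{u}} (p : X ⟶ Y) [IsFinite p] [Surjective p] [IsReduced Y]
    (q : Y ⟶ Spec (CommRingCat.of k)) [LocallyOfFiniteType (p ≫ q)] : LocallyOfFiniteType q := by
  haveI : IsSchemeTheoreticallyDominant p := IsSchemeTheoreticallyDominant.of_isDominant _
  constructor
  intro W hW U hU e
  have hA : IsAffineOpen (p ⁻¹ᵁ U) := hU.preimage p
  letI := (q.appLE W U e).hom.toAlgebra
  letI := (p.app U).hom.toAlgebra
  letI := ((p.app U).hom.comp (q.appLE W U e).hom).toAlgebra
  haveI : IsScalarTower Γ(Spec (CommRingCat.of k), W) Γ(Y, U) Γ(X, p ⁻¹ᵁ U) := IsScalarTower.of_algebraMap_eq' rfl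
  haveI : IsNoetherianRing Γ(Spec (CommRingCat.of k), W) := IsLocallyNoetherian.component_noetherian ⟨W, hW⟩
  have h1 := (p ≫ q).finiteType_appLE hW hA
    (show p ⁻¹ᵁ U ≤ (p ≫ q) ⁻¹ᵁ W from p.preimage_mono e)
  rw [← Scheme.Hom.appLE_comp_appLE p q W U (p ⁻¹ᵁ U) e le_rfl, ← Scheme.Hom.app_eq_appLE] at h1
  have h2 : Algebra.FiniteType Γ(Spec (CommRingCat.of k), W) Γ(X, p ⁻¹ᵁ U) := h1
  have h3 : Module.Finite Γ(Y, U) Γ(X, p ⁻¹ᵁ U) := p.finite_app U hU
  exact (⟨fg_of_fg_of_fg Γ(Spec (CommRingCat.of k), W) Γ(Y, U) Γ(X, p ⁻¹ᵁ U) h2.out h3.fg_top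
    (p.app_injective U)⟩ : Algebra.FiniteType Γ(Spec (CommRingCat.of k), W) Γ(Y, U))

theorem exists_scheme_quotient {X F : Over (Spec (CommRingCat.of k))} [GrpObj X] [IsProper X.hom]
    [GeometricallyIntegral X.hom] [GrpObj F] (i : F ⟶ X) [IsMonHom i] [IsClosedImmersion i.left] [IsFinite F.hom] :
    ∃ (M : Over (Spec (CommRingCat.of k))) (q : X ⟶ M), IsFinite q.left ∧ RedSub.IsQuotient i q := by
  haveI : IsCommMonObj X := isCommMonObj_of_isProper_of_geometricallyIntegral X
  haveI := SubAV.mono_of_closed i
  haveI : IsCommMonObj F := SubAV.isCommMonObj_of_mono i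
  haveI : Subsingleton ↥(Spec (CommRingCat.of k)) := inferInstanceAs (Subsingleton (PrimeSpectrum k))
  haveI : Flat F.hom := inferInstance
  haveI : LocallyOfFinitePresentation F.hom := inferInstance
  have hF : Mor2.IsFinLocFree F.hom := ⟨inferInstance, inferInstance, inferInstance⟩
  let n : ℕ := Scheme.Hom.finrank F.hom (IsLocalRing.closedPoint k)
  have hn : 0 < n := by
    haveI : Surjective F.hom := ⟨fun y => ⟨η[F].left (IsLocalRing.closedPoint k), Subsingleton.elim _ _⟩⟩
    exact (Scheme.Hom.one_le_finrank_iff_surjective F.hom).2 inferInstance _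
  let a := translation i
  have hin : i ^ n = 1 := by
    have h := S7782.result F n (fun s => congrArg _ (Subsingleton.elim s _)) F (𝟙 F)
    rw [← Category.id_comp i, ← MonObj.pow_comp, h, MonObj.one_comp]
  have hfree : ∀ (T : Over (Spec (CommRingCat.of k))) (g : T ⟶ F) (x : T ⟶ X),
      lift g x ≫ a.act = x → g = toUnit T ≫ η[F] := by
    intro T g x h
    simp only [a, translation, MonObj.comp_mul, lift_fst_assoc, lift_snd, mul_eq_right] at h
    rw [← cancel_mono i, h, Category.assoc, IsMonHom.one_hom i]
    rfl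
  have hs : Mor2.IsFinLocFree (AlgSpDec.ActGroupoid.gpd a).s :=
    ⟨MorphismProperty.pullback_snd (P := @IsFinite) _ _ hF.1,
      MorphismProperty.pullback_snd (P := @Flat) _ _ hF.2.1,
      MorphismProperty.pullback_snd (P := @LocallyOfFinitePresentation) _ _ hF.2.2⟩
  have hcomp : a.act ≫ (𝟙 X ^ n : X ⟶ X) = snd F X ≫ (𝟙 X ^ n : X ⟶ X) := by
    simp only [a, translation, MonObj.comp_pow, Category.comp_id, mul_pow]
    rw [← MonObj.comp_pow, hin, MonObj.comp_one, _root_.one_mul]
  obtain ⟨M, m, hm, hsurj, hpb, -⟩ := AlgSpDec.FinLocFreeQuot.exists_quotient (AlgSpDec.ActGroupoid.gpd a) hs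
    (AlgSpDec.ActQuotient.isEqvRel a hfree) (by
      rintro Z - ⟨z, hz⟩
      haveI := AVMulN.isFinite_pow (A := X) n hn
      obtain ⟨V, hV, hzV⟩ := GrpdLib.exists_affineOpen_mem ((𝟙 X ^ n : X ⟶ X).left z)
      refine ⟨z, hz, (𝟙 X ^ n : X ⟶ X).left ⁻¹ᵁ V, hV.preimage _, fun r hr => ?_⟩
      show (𝟙 X ^ n : X ⟶ X).left (a.act.left r) ∈ V
      have h1 := congr(($hcomp).left r)
      simp only [Over.comp_left, Scheme.Hom.comp_apply] at h1
      rw [h1, show (snd F X).left r = z from hr]
      exact hzV)
  let q : X ⟶ M := m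
  refine ⟨M, q, hm.1, hsurj, hm.2.1, hm.2.2, ?_⟩
  have hp : IsPullback a.act.left (snd F X).left q.left q.left := hpb
  have h2 : IsPullback (snd F X) a.act q q :=
    IsPullback.of_map (Over.forget _) (Over.OverMorphism.ext hp.flip.w) hp.flip
  refine h2.of_iso (β_ F X) (Iso.refl _) (Iso.refl _) (Iso.refl _) ?_ ?_ (by simp) (by simp)
  · simp
  · simp only [Iso.refl_hom, Category.comp_id, a, translation, MonObj.comp_mul, whiskerLeft_fst,
      Hom.mul_def, BraidedCategory.braiding_naturality_left]
    rw [← Category.assoc]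
    have : (β_ F X).hom ≫ (X ◁ i) ≫ μ[X] = (fst F X ≫ i) * snd F X := by
      rw [mul_comm, Hom.mul_def, ← Category.assoc]
      congr 1
      ext <;> simp
    rw [Hom.mul_def] at this
    simpa using this.symm

/-- The quotient of an abelian variety by a finite subgroup scheme is an abelian variety. -/
theorem exists_quotient {X F : Over (Spec (CommRingCat.of k))} [GrpObj X] [IsProper X.hom]
    [GeometricallyIntegral X.hom] [GrpObj F] (i : F ⟶ X) [IsMonHom i] [IsClosedImmersion i.left] [IsFinite F.hom] :
    ∃ (Q : Over (Spec (CommRingCat.of k))) (_ : GrpObj Q) (q : X ⟶ Q), IsMonHom q ∧ IsFinite q.left ∧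
      Flat q.left ∧ Surjective q.left ∧ IsProper Q.hom ∧ GeometricallyIntegral Q.hom ∧
      IsPullback i (toUnit F) q η[Q] := by
  haveI : IsCommMonObj X := isCommMonObj_of_isProper_of_geometricallyIntegral X
  haveI := SubAV.mono_of_closed i
  obtain ⟨M, q, hqf, hq⟩ := exists_scheme_quotient i
  haveI := hqf
  haveI := hq.1
  haveI := hq.2.1
  haveI := hq.2.2.1
  have hcov : FpqcDescLib.Covers q.left :=
    FpqcDescLib.covers_of_isCovering (FpqcDescLib.isCovering_of_lfp q.left)
  have hn : AlgGrp.IsNormalHom i := fun T g x => ⟨x, by rw [mul_comm g, mul_inv_cancel_right]⟩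
  have hcoset := FpqcDescLib.isCosetMap_of_isPullback hq.2.2.2
  obtain ⟨sG, hs⟩ := FpqcDescLib.exists_grpObj hcov hcoset hn
  letI := sG
  haveI := hs
  haveI : IsSeparated M.hom := S19556.result X.hom M.hom q.left (Over.w q)
  haveI : IsIntegral X.left := H23.MaxAbelian.isIntegral_of_geometricallyIntegral
  haveI : IsReduced M.left := FBaseLib.isReduced_of_flat_surjective q.left
  haveI : LocallyOfFiniteType M.hom := by
    haveI : LocallyOfFiniteType (q.left ≫ M.hom) := by rw [Over.w]; infer_instance
    exact locallyOfFiniteType_of_finite q.left M.hom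
  haveI : IsProper M.hom := by
    haveI : UniversallyClosed (q.left ≫ M.hom) := by rw [Over.w]; infer_instance
    haveI : UniversallyClosed M.hom := UniversallyClosed.of_comp_surjective q.left M.hom
    exact {}
  haveI : GeometricallyIntegral M.hom := by
    haveI : GeometricallyConnected X.hom :=
      AVTorsLib.geometricallyConnected_of_geometricallyIntegral X.hom
    haveI : GeometricallyIrreducible M.hom := by
      constructor
      intro K _ y S f g hsq
      let hY := IsPullback.of_hasPullback q.left f
      have hbig : IsPullback (pullback.fst q.left f) (pullback.snd q.left f ≫ g) (q.left ≫ M.hom) y :=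
        hY.paste_vert hsq
      rw [Over.w] at hbig
      haveI : IrreducibleSpace ↥(pullback q.left f) :=
        GeometricallyIrreducible.geometrically_irreducibleSpace (f := X.hom) _ _ _ hbig
      haveI : Surjective (pullback.snd q.left f) :=
        MorphismProperty.pullback_snd (P := @Surjective) _ _ inferInstance
      exact FBaseLib.irreducibleSpace_of_surjective (pullback.snd q.left f)
    haveI : GeometricallyReduced M.hom := by
      constructor
      intro K _ y S f g hsq
      have hbig : IsPullback (pullback.fst q.left f) (pullback.snd q.left f ≫ g) (q.left ≫ M.hom) y :=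
        (IsPullback.of_hasPullback q.left f).paste_vert hsq
      rw [Over.w] at hbig
      haveI : IsReduced (pullback q.left f) :=
        GeometricallyReduced.geometrically_isReduced (f := X.hom) _ _ _ hbig
      haveI : Flat (pullback.snd q.left f) := MorphismProperty.pullback_snd (P := @Flat) _ _ inferInstance
      haveI : Surjective (pullback.snd q.left f) :=
        MorphismProperty.pullback_snd (P := @Surjective) _ _ inferInstance
      exact FBaseLib.isReduced_of_flat_surjective (pullback.snd q.left f)
    exact GeometricallyIntegral.of_geometricallyReduced_of_geometricallyIrreducible _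
  refine ⟨M, sG, q, hs, hqf, hq.2.1, hq.1, inferInstance, inferInstance, ?_⟩
  have hw : i ≫ q = 1 := by
    have h1 := (hcoset F 1 i).2 ⟨𝟙 F, by simp⟩
    rw [← h1, MonObj.one_comp]
  have hcone : ∀ s : PullbackCone q η[M], (1 : s.pt ⟶ X) ≫ q = s.fst ≫ q := fun s => by
    rw [MonObj.one_comp, s.condition, toUnit_unique s.snd (toUnit _)]
    rfl
  refine ⟨⟨hw⟩, ⟨PullbackCone.IsLimit.mk hw
    (fun s => ((hcoset s.pt 1 s.fst).1 (hcone s)).choose)
    (fun s => ?_) (fun s => toUnit_unique _ _) (fun s m h₁ _ => ?_)⟩⟩
  · have h := ((hcoset s.pt 1 s.fst).1 (hcone s)).choose_spec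
    rw [_root_.one_mul] at h
    exact h.symm
  · have h := ((hcoset s.pt 1 s.fst).1 (hcone s)).choose_spec
    rw [_root_.one_mul] at h
    rw [← cancel_mono i, ← h]
    exact h₁

end Groth.Agent.AVRosati.FinQuot
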