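import Groth.Agent.AVRosati.ReducAlg
import Groth.Agent.H23.RatExt
import Groth.Agent.GrpSchLib.SmoothRegular
import Groth.Agent.GrpSchLib.AntiAffineHom
import Mathlib.AlgebraicGeometry.Group.Abelian
import Mathlib.FieldTheory.Galois.Infinite
import Mathlib.FieldTheory.IsSepClosed
import Mathlib.FieldTheory.PrimitiveElement

/-!
Poincaré reducibility over an arbitrary field: for an abelian variety `A` inside a smooth connected
group `G` there are `φ : G → A` and `n ≥ 1` with `φ (g a) = φ g + n a`.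
-/

noncomputable section

set_option linter.style.haveILetI false
set_option linter.unusedSectionVars false
set_option backward.isDefEq.respectTransparency false
set_option backward.isDefEq.respectTransparency.types false

universe u

open CategoryTheory CategoryTheory.Limits AlgebraicGeometry MonoidalCategory CartesianMonoidalCategory
open scoped MonObj TensorProduct

namespace Groth.Agent.AVRosati.Reduc

open ReducAlg

variable {k : Type u} [Field k]

/-- The spectrum of an algebra, over the base field. -/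
abbrev ov (B : Type u) [CommRing B] [Algebra k B] : Over (Spec (CommRingCat.of k)) :=
  Over.mk (Spec.map (CommRingCat.ofHom (algebraMap k B)))

instance isIntegral_ov_left {B : Type u} [CommRing B] [IsDomain B] [Algebra k B] : IsIntegral (ov (k := k) B).left :=
  (affine_isIntegral_iff (CommRingCat.of B)).2 inferInstance

instance locallyOfFiniteType_ov_hom {B : Type u} [CommRing B] [Algebra k B] [Algebra.FiniteType k B] :
    LocallyOfFiniteType (ov (k := k) B).hom :=
  (HasRingHomProperty.Spec_iff (P := @LocallyOfFiniteType)).2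
    (RingHom.finiteType_algebraMap.2 inferInstance)

variable {B B' B'' : Type u} [CommRing B] [Algebra k B] [CommRing B'] [Algebra k B'] [CommRing B''] [Algebra k B'']

/-- The morphism given by an algebra map. -/
def ovMap (f : B →ₐ[k] B') : ov (k := k) B' ⟶ ov B :=
  Over.homMk (Spec.map (CommRingCat.ofHom f.toRingHom)) (by
    show Spec.map _ ≫ Spec.map _ = Spec.map _
    rw [← Spec.map_comp]
    congr 1
    ext x
    exact f.commutes x)

theorem ovMap_left (f : B →ₐ[k] B') : (ovMap f).left = Spec.map (CommRingCat.ofHom f.toRingHom) := rfl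

theorem ovMap_comp (f : B →ₐ[k] B') (g : B' →ₐ[k] B'') : ovMap (g.comp f) = ovMap g ≫ ovMap f := by
  ext1
  show Spec.map _ = Spec.map _ ≫ Spec.map _
  rw [← Spec.map_comp]
  rfl

theorem ovMap_injective : Function.Injective (ovMap : (B →ₐ[k] B') → _) := by
  intro f g h
  have h' := Spec.map_injective (congrArg CommaMorphism.left h)
  ext x
  exact congr($h' x)

theorem mono_of_open {X : Over (Spec (CommRingCat.of k))} (j : ov B ⟶ X) [IsOpenImmersion j.left] : Mono j :=
  (Over.forget _).mono_of_mono_map (inferInstanceAs (Mono j.left))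

theorem ovMap_comp_injective {X : Over (Spec (CommRingCat.of k))} (j : ov B ⟶ X) [IsOpenImmersion j.left]
    {f g : B →ₐ[k] B'} (h : ovMap f ≫ j = ovMap g ≫ j) : f = g := by
  have := mono_of_open j
  exact ovMap_injective ((cancel_mono j).1 h)

theorem exists_lift {X : Over (Spec (CommRingCat.of k))} (j : ov B ⟶ X) [IsOpenImmersion j.left]
    (f : ov B' ⟶ X) (hf : Set.range f.left ⊆ Set.range j.left) :
    ∃ φ : B →ₐ[k] B', ovMap φ ≫ j = f := by
  let l : Spec (CommRingCat.of B') ⟶ Spec (CommRingCat.of B) := IsOpenImmersion.lift j.left f.left hf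
  have hl : l ≫ j.left = f.left := IsOpenImmersion.lift_fac _ _ _
  have hk : CommRingCat.ofHom (algebraMap k B) ≫ Spec.preimage l = CommRingCat.ofHom (algebraMap k B') := by
    apply Spec.map_injective
    rw [Spec.map_comp, Spec.map_preimage]
    show l ≫ (ov B).hom = (ov B').hom
    rw [← Over.w j, ← Category.assoc, hl, Over.w]
  refine ⟨{ (Spec.preimage l).hom with commutes' := fun c => congr($hk c) }, ?_⟩
  ext1
  show Spec.map (Spec.preimage l) ≫ j.left = f.left
  rw [Spec.map_preimage, hl]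

theorem range_subset_of_closedPoint [IsLocalRing B'] {X : Scheme.{u}} (f : Spec (CommRingCat.of B') ⟶ X)
    (U : X.Opens) (h : f (IsLocalRing.closedPoint B') ∈ U) : Set.range f ⊆ U := by
  rintro _ ⟨q, rfl⟩
  exact ((IsLocalRing.specializes_closedPoint q).map f.continuous).mem_open U.2 h

/-- The point of a field-valued morphism. -/
abbrev pt {Ω : Type u} [Field Ω] [Algebra k Ω] {X : Over (Spec (CommRingCat.of k))} (f : ov Ω ⟶ X) : X.left :=
  f.left (IsLocalRing.closedPoint Ω)

theorem exists_lift_field {X : Over (Spec (CommRingCat.of k))} (j : ov B ⟶ X) [IsOpenImmersion j.left]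
    {Ω : Type u} [Field Ω] [Algebra k Ω] (f : ov Ω ⟶ X) (hf : pt f ∈ Set.range j.left) :
    ∃ φ : B →ₐ[k] Ω, ovMap φ ≫ j = f :=
  exists_lift j f (range_subset_of_closedPoint f.left j.left.opensRange hf)

theorem asIdeal_ovMap_closedPoint {Ω : Type u} [Field Ω] [Algebra k Ω] (φ : B →ₐ[k] Ω) :
    PrimeSpectrum.asIdeal ((ovMap φ).left (IsLocalRing.closedPoint Ω)) = RingHom.ker φ := by
  show (IsLocalRing.maximalIdeal Ω).comap φ.toRingHom = RingHom.ker φ
  rw [IsLocalRing.maximalIdeal_eq_bot]
  rfl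

/-- An affine chart. -/
theorem exists_chart (X : Over (Spec (CommRingCat.of k))) [LocallyOfFiniteType X.hom] (x : X.left) :
    ∃ (C : Type u) (_ : CommRing C) (_ : Algebra k C) (_ : Algebra.FiniteType k C) (j : ov C ⟶ X),
      IsOpenImmersion j.left ∧ x ∈ Set.range j.left := by
  obtain ⟨U, hU, hx, -⟩ := exists_isAffineOpen_mem_and_subset (x := x) (U := ⊤) trivial
  let φ := Spec.preimage (hU.fromSpec ≫ X.hom)
  letI : Algebra k Γ(X.left, U) := φ.hom.toAlgebra
  have he : Spec.map (CommRingCat.ofHom (algebraMap k Γ(X.left, U))) = hU.fromSpec ≫ X.hom :=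
    Spec.map_preimage (hU.fromSpec ≫ X.hom)
  have hft : Algebra.FiniteType k Γ(X.left, U) := by
    refine RingHom.finiteType_algebraMap.1 ?_
    refine (HasRingHomProperty.Spec_iff (P := @LocallyOfFiniteType)
      (φ := CommRingCat.ofHom (algebraMap k Γ(X.left, U)))).1 ?_
    rw [he]
    infer_instance
  refine ⟨Γ(X.left, U), inferInstance, inferInstance, hft, Over.homMk hU.fromSpec he.symm,
    inferInstanceAs (IsOpenImmersion hU.fromSpec), ?_⟩
  show x ∈ Set.range hU.fromSpec
  rw [hU.range_fromSpec]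
  exact hx

theorem isDomain_of_chart {X : Over (Spec (CommRingCat.of k))} [IsIntegral X.left] (j : ov B ⟶ X)
    [IsOpenImmersion j.left] [Nonempty (Spec (CommRingCat.of B))] : IsDomain B := by
  have : IsIntegral (Spec (CommRingCat.of B)) := isIntegral_of_isOpenImmersion j.left
  exact (affine_isIntegral_iff (CommRingCat.of B)).1 this

/-- The trace of a chart on a closed subscheme. -/
theorem exists_closed_chart {G A : Over (Spec (CommRingCat.of k))} (i : A ⟶ G) [IsClosedImmersion i.left]
    (j : ov B ⟶ G) [IsOpenImmersion j.left] :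
    ∃ (I : Ideal B) (jA : ov (B ⧸ I) ⟶ A), IsOpenImmersion jA.left ∧
      jA ≫ i = ovMap (Ideal.Quotient.mkₐ k I) ≫ j ∧ Set.range jA.left = i.left ⁻¹' Set.range j.left := by
  have hcl : IsClosedImmersion (pullback.snd i.left j.left) := inferInstance
  obtain ⟨I, e, he⟩ := (IsClosedImmersion.Spec_iff (R := CommRingCat.of B)
    (f := pullback.snd i.left j.left)).1 hcl
  have hsnd : e.inv ≫ pullback.snd i.left j.left =
      Spec.map (CommRingCat.ofHom (Ideal.Quotient.mk I)) := by
    rw [he, e.inv_hom_id_assoc]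
  have hw : (e.inv ≫ pullback.fst i.left j.left) ≫ A.hom = (ov (k := k) (B ⧸ I)).hom := by
    rw [← Over.w i, Category.assoc, pullback.condition_assoc, reassoc_of% hsnd, Over.w j]
    show Spec.map _ ≫ Spec.map _ = Spec.map _
    rw [← Spec.map_comp]
    rfl
  refine ⟨I, Over.homMk (e.inv ≫ pullback.fst i.left j.left) hw,
    inferInstanceAs (IsOpenImmersion (e.inv ≫ pullback.fst i.left j.left)), ?_, ?_⟩
  · ext1
    show (e.inv ≫ pullback.fst i.left j.left) ≫ i.left = Spec.map _ ≫ j.left
    rw [Category.assoc, pullback.condition, reassoc_of% hsnd]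
    rfl
  · show Set.range (e.inv ≫ pullback.fst i.left j.left) = _
    rw [← Scheme.Pullback.range_fst]
    ext y
    constructor
    · rintro ⟨z, rfl⟩
      exact ⟨e.inv z, rfl⟩
    · rintro ⟨z, rfl⟩
      exact ⟨e.hom z, by rw [← Scheme.Hom.comp_apply, e.hom_inv_id_assoc]⟩

theorem deg_genericPoint {X : Over (Spec (CommRingCat.of k))} [LocallyOfFiniteType X.hom] [IsIntegral X.left]
    (j : ov B ⟶ X) [IsOpenImmersion j.left] [IsDomain B] [Algebra.FiniteType k B] {n : ℕ}
    (hn : ringKrullDim B = n) :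
    VarDim.deg X.hom (genericPoint X.left) = n := by
  have : IsIntegral (Spec (CommRingCat.of B)) := (affine_isIntegral_iff (CommRingCat.of B)).2 inferInstance
  have hl : LocallyOfFiniteType (j.left ≫ X.hom) := by rw [Over.w]; infer_instance
  have h := VarDim.topologicalKrullDim_eq_deg_genericPoint (j.left ≫ X.hom)
  have h1 : topologicalKrullDim (Spec (CommRingCat.of B)) = ringKrullDim B :=
    PrimeSpectrum.topologicalKrullDim_eq_ringKrullDim B
  erw [h1, hn] at h
  rw [← genericPoint_eq_of_isOpenImmersion j.left, ← VarDim.deg_comp X.hom j.left]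
  exact_mod_cast h.symm

theorem ker_eq_bot_of_genericPoint [IsDomain B] {X : Over (Spec (CommRingCat.of k))} [IsIntegral X.left]
    (j : ov B ⟶ X) [IsOpenImmersion j.left] {Ω : Type u} [Field Ω] [Algebra k Ω] (φ : B →ₐ[k] Ω)
    (h : pt (ovMap φ ≫ j) = genericPoint X.left) : RingHom.ker φ = ⊥ := by
  have : IsIntegral (Spec (CommRingCat.of B)) := (affine_isIntegral_iff (CommRingCat.of B)).2 inferInstance
  have h1 : (ovMap φ).left (IsLocalRing.closedPoint Ω) = genericPoint (Spec (CommRingCat.of B)) := by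
    refine j.left.isOpenEmbedding.injective ?_
    erw [genericPoint_eq_of_isOpenImmersion j.left]
    exact h
  have h2 := congrArg PrimeSpectrum.asIdeal
    (h1.trans (genericPoint_eq_bot_of_affine (CommRingCat.of B)))
  rw [asIdeal_ovMap_closedPoint] at h2
  exact h2

/-- The fraction field point. -/
abbrev jK {C : Type u} [CommRing C] [IsDomain C] [Algebra k C] {X : Over (Spec (CommRingCat.of k))} (j : ov C ⟶ X) :
    ov (FractionRing C) ⟶ X :=
  ovMap (IsScalarTower.toAlgHom k C (FractionRing C)) ≫ j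

theorem isRegularLocalRing_of_chart {X : Over (Spec (CommRingCat.of k))} [Smooth X.hom] (j : ov B ⟶ X)
    [IsOpenImmersion j.left] (p : Ideal B) [hp : p.IsPrime] :
    IsRegularLocalRing (Localization.AtPrime p) := by
  have hs : Smooth (ov (k := k) B).hom := by rw [← Over.w j]; infer_instance
  have : IsRegularLocalRing ((Spec (CommRingCat.of B)).presheaf.stalk (⟨p, hp⟩ : PrimeSpectrum B)) :=
    GrpSchLib.isRegularLocalRing_stalk_of_smooth (ov (k := k) B).hom (⟨p, hp⟩ : PrimeSpectrum B)
  let e : Localization.AtPrime p ≃+* (Spec (CommRingCat.of B)).presheaf.stalk (⟨p, hp⟩ : PrimeSpectrum B) :=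
    (StructureSheaf.stalkIso B (⟨p, hp⟩ : PrimeSpectrum B)).toRingEquiv
  exact IsRegularLocalRing.of_ringEquiv e.symm

/-- The chart of a product. -/
def prodChart {C₁ D : Type u} [CommRing C₁] [Algebra k C₁] [CommRing D] [Algebra k D]
    {A : Over (Spec (CommRingCat.of k))} (jA : ov D ⟶ A) : ov (C₁ ⊗[k] D) ⟶ ov C₁ ⊗ A :=
  lift (ovMap Algebra.TensorProduct.includeLeft) (ovMap Algebra.TensorProduct.includeRight ≫ jA)

theorem isOpenImmersion_prodChart {C₁ D : Type u} [CommRing C₁] [Algebra k C₁] [CommRing D] [Algebra k D]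
    {A : Over (Spec (CommRingCat.of k))} (jA : ov D ⟶ A) [IsOpenImmersion jA.left] :
    IsOpenImmersion (prodChart (C₁ := C₁) jA).left := by
  let f : Spec (CommRingCat.of C₁) ⟶ Spec (CommRingCat.of k) := Spec.map (CommRingCat.ofHom (algebraMap k C₁))
  let g : Spec (CommRingCat.of D) ⟶ Spec (CommRingCat.of k) := Spec.map (CommRingCat.ofHom (algebraMap k D))
  let a : Spec (CommRingCat.of D) ⟶ A.left := jA.left
  have ha : IsOpenImmersion a := inferInstanceAs (IsOpenImmersion jA.left)
  have e₁ : f = 𝟙 _ ≫ f := (Category.id_comp f).symm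
  have e₂ : g = a ≫ A.hom := (Over.w jA).symm
  have hm : IsOpenImmersion (pullback.map f g f A.hom (𝟙 _) a (𝟙 _)
      ((Category.comp_id _).trans e₁) ((Category.comp_id _).trans e₂)) :=
    MorphismProperty.pullbackMap (P := @IsOpenImmersion) inferInstance ha e₁ e₂
  have hc : (prodChart (C₁ := C₁) jA).left = (pullbackSpecIso k C₁ D).inv ≫ pullback.map f g f A.hom (𝟙 _) a (𝟙 _)
      ((Category.comp_id _).trans e₁) ((Category.comp_id _).trans e₂) := by
    have h1 : (prodChart (C₁ := C₁) jA).left ≫ pullback.fst f A.hom =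
        Spec.map (CommRingCat.ofHom Algebra.TensorProduct.includeLeftRingHom) := by
      refine (Over.comp_left (f := prodChart (C₁ := C₁) jA) (g := fst (ov C₁) A)).symm.trans ?_
      rw [prodChart, lift_fst]
      rfl
    have h2 : (prodChart (C₁ := C₁) jA).left ≫ pullback.snd f A.hom =
        Spec.map (CommRingCat.ofHom (Algebra.TensorProduct.includeRight : D →ₐ[k] C₁ ⊗[k] D).toRingHom) ≫ a := by
      refine (Over.comp_left (f := prodChart (C₁ := C₁) jA) (g := snd (ov C₁) A)).symm.trans ?_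
      rw [prodChart, lift_snd]
      rfl
    apply pullback.hom_ext
    · refine h1.trans ?_
      rw [Category.assoc, pullback.map]
      erw [pullback.lift_fst]
      rw [Category.comp_id]
      exact (pullbackSpecIso_inv_fst k C₁ D).symm
    · refine h2.trans ?_
      rw [Category.assoc, pullback.map]
      erw [pullback.lift_snd]
      rw [← Category.assoc]
      congr 1
      exact (pullbackSpecIso_inv_snd k C₁ D).symm
  rw [hc]
  infer_instance

section Cover

variable {G A : Over (Spec (CommRingCat.of k))} [GrpObj G] [GrpObj A] [LocallyOfFiniteType G.hom]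
  [IsIntegral G.left] [GeometricallyIntegral A.hom] [Smooth A.hom] (i : A ⟶ G) [IsMonHom i]

/-- The local ring of the chart is unramified over the chart of `G`. -/
theorem cover_unramified {C : Type u} [CommRing C] [IsDomain C] [Algebra k C] [Algebra.FiniteType k C]
    {C₁ D : Type u} [CommRing C₁] [IsDomain C₁] [Algebra k C₁] [Algebra.FiniteType k C₁]
    [CommRing D] [IsDomain D] [Algebra k D] [Algebra.FiniteType k D]
    (j : ov C ⟶ G) [IsOpenImmersion j.left] (h1G : pt (1 : ov (k := k) k ⟶ G) ∈ Set.range j.left)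
    (jA : ov D ⟶ A) [IsOpenImmersion jA.left] (p₁ : C →ₐ[k] C₁) (π : C →ₐ[k] D) (hjA : jA ≫ i = ovMap π ≫ j)
    (hp₁ : Function.Surjective p₁) (e₁ : C₁ →ₐ[k] k) (e₂ : D →ₐ[k] k)
    (hcompat : ∀ x, e₁ (p₁ x) = e₂ (π x)) (he₂ : ovMap e₂ ≫ jA = 1)
    (hgen : ∀ d, e₂ d = 0 → ∃ s, e₂ s ≠ 0 ∧ s * d ∈ (RingHom.ker p₁).map π) :
    ∃ hS : C →ₐ[k] LocS e₁ e₂, (ovMap hS ≫ j = ovMap (IsScalarTower.toAlgHom k (C₁ ⊗[k] D) (LocS e₁ e₂)) ≫
        prodChart jA ≫ ((fst (ov C₁) A ≫ ovMap p₁ ≫ j) * (snd (ov C₁) A ≫ i))) ∧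
      (letI := hS.toRingHom.toAlgebra; Algebra.FormallyUnramified C (LocS e₁ e₂)) := by
  let W : Over (Spec (CommRingCat.of k)) := ov C₁
  let w : W ⟶ G := ovMap p₁ ≫ j
  let hh : W ⊗ A ⟶ G := (fst W A ≫ w) * (snd W A ≫ i)
  have hone₁ : ovMap e₁ ≫ w = 1 := by
    have h : e₁.comp p₁ = e₂.comp π := AlgHom.ext hcompat
    rw [← Category.assoc, ← ovMap_comp, h, ovMap_comp, Category.assoc, ← hjA, ← Category.assoc, he₂,
      MonObj.one_comp]
  have hone₂ : ovMap e₂ ≫ jA ≫ i = 1 := by rw [← Category.assoc, he₂, MonObj.one_comp]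
  let c : ov (C₁ ⊗[k] D) ⟶ W ⊗ A := prodChart jA
  have hv : ∀ {B : Type u} [CommRing B] [Algebra k B] (r : C₁ ⊗[k] D →ₐ[k] B), ovMap r ≫ c ≫ hh
      = (ovMap (r.comp Algebra.TensorProduct.includeLeft) ≫ w)
        * (ovMap (r.comp Algebra.TensorProduct.includeRight) ≫ jA ≫ i) := by
    intro B _ _ r
    simp only [hh, MonObj.comp_mul, c, prodChart, W]
    rw [lift_fst_assoc, lift_snd_assoc, ← Category.assoc (ovMap r), ← ovMap_comp, Category.assoc,
      ← Category.assoc (ovMap r), ← ovMap_comp]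
  have hψ1r : (psi1 e₂ : C₁ ⊗[k] D →ₐ[k] C₁).comp Algebra.TensorProduct.includeRight
      = (Algebra.ofId k C₁).comp e₂ := AlgHom.ext fun b => by simp
  have hψ2l : (psi2 e₁ : C₁ ⊗[k] D →ₐ[k] D).comp Algebra.TensorProduct.includeLeft
      = (Algebra.ofId k D).comp e₁ := AlgHom.ext fun b => by simp
  have hψ1l : (psi1 e₂ : C₁ ⊗[k] D →ₐ[k] C₁).comp Algebra.TensorProduct.includeLeft
      = AlgHom.id k C₁ := AlgHom.ext fun b => by simp
  have hψ2r : (psi2 e₁ : C₁ ⊗[k] D →ₐ[k] D).comp Algebra.TensorProduct.includeRight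
      = AlgHom.id k D := AlgHom.ext fun b => by simp
  let ιS := IsScalarTower.toAlgHom k (C₁ ⊗[k] D) (LocS e₁ e₂)
  have hS0 : ((ovMap ιS ≫ c ≫ hh).left) (IsLocalRing.closedPoint (LocS e₁ e₂)) ∈ Set.range j.left := by
    have hp : (ovMap ιS).left (IsLocalRing.closedPoint (LocS e₁ e₂)) =
        (ovMap (eps0 e₁ e₂)).left (IsLocalRing.closedPoint k) := by
      refine PrimeSpectrum.ext ?_
      rw [asIdeal_ovMap_closedPoint]
      exact IsLocalization.AtPrime.comap_maximalIdeal (LocS e₁ e₂) (M0 e₁ e₂)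
    have h1 : ovMap (eps0 e₁ e₂) ≫ c ≫ hh = 1 := by
      have hl : (eps0 e₁ e₂).comp Algebra.TensorProduct.includeLeft = e₁ := AlgHom.ext fun a => by simp
      have hr : (eps0 e₁ e₂).comp Algebra.TensorProduct.includeRight = e₂ := AlgHom.ext fun a => by simp
      rw [hv, hl, hr, hone₁, hone₂, one_mul]
    have h2 := congr(($h1).left (IsLocalRing.closedPoint k))
    rw [Over.comp_left (f := ovMap (eps0 e₁ e₂)), Scheme.Hom.comp_apply, ← hp] at h2
    rw [Over.comp_left (f := ovMap ιS), Scheme.Hom.comp_apply]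
    exact h2 ▸ h1G
  obtain ⟨hS, hhS⟩ := exists_lift j (ovMap ιS ≫ c ≫ hh)
    (range_subset_of_closedPoint _ j.left.opensRange hS0)
  letI : Algebra C (LocS e₁ e₂) := hS.toRingHom.toAlgebra
  have : IsScalarTower k C (LocS e₁ e₂) := IsScalarTower.of_algebraMap_eq fun x => (hS.commutes x).symm
  have hc1 : ∀ x, chi1 e₁ e₂ (algebraMap C _ x) = Ideal.Quotient.mk _ (p₁ x) := by
    let m1 : C₁ →ₐ[k] C₁ ⧸ RingHom.ker e₁ ^ 2 := Ideal.Quotient.mkₐ k _
    have h : (chi1 e₁ e₂).comp hS = m1.comp p₁ := by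
      apply ovMap_comp_injective j
      have hcomp : (chi1 e₁ e₂).comp ιS = m1.comp (psi1 e₂) :=
        AlgHom.ext fun r => chi1_algebraMap e₁ e₂ r
      rw [ovMap_comp, Category.assoc, hhS, ← Category.assoc, ← ovMap_comp, hcomp, hv, AlgHom.comp_assoc,
        AlgHom.comp_assoc, hψ1l, hψ1r, AlgHom.comp_id]
      rw [ovMap_comp _ m1, ovMap_comp e₂, Category.assoc, Category.assoc, hone₂, MonObj.comp_one,
        MonObj.comp_one, mul_one, ovMap_comp p₁ m1, Category.assoc]
    exact fun x => DFunLike.congr_fun h x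
  have hc2 : ∀ x, chi2 e₁ e₂ (algebraMap C _ x) = Ideal.Quotient.mk _ (π x) := by
    let m2 : D →ₐ[k] D ⧸ RingHom.ker e₂ ^ 2 := Ideal.Quotient.mkₐ k _
    have h : (chi2 e₁ e₂).comp hS = m2.comp π := by
      apply ovMap_comp_injective j
      have hcomp : (chi2 e₁ e₂).comp ιS = m2.comp (psi2 e₁) :=
        AlgHom.ext fun r => chi2_algebraMap e₁ e₂ r
      rw [ovMap_comp, Category.assoc, hhS, ← Category.assoc, ← ovMap_comp, hcomp, hv, AlgHom.comp_assoc,
        AlgHom.comp_assoc, hψ2l, hψ2r, AlgHom.comp_id]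
      rw [ovMap_comp _ m2, ovMap_comp e₁, Category.assoc, Category.assoc, hone₁, MonObj.comp_one,
        MonObj.comp_one, one_mul, hjA, ovMap_comp π m2, Category.assoc]
    exact fun x => DFunLike.congr_fun h x
  have hun : Algebra.FormallyUnramified C (LocS e₁ e₂) :=
    ReducAlg.formallyUnramified e₁ e₂ p₁ π hp₁ hcompat hgen hc1 hc2
  exact ⟨hS, hhS, hun⟩

/-- The function field of the cover is finite separable over that of `G`. -/
theorem field_part {C R S F : Type u} [CommRing C] [IsDomain C] [Algebra k C] [Algebra.FiniteType k C]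
    [CommRing R] [IsDomain R] [Algebra k R] [Algebra.FiniteType k R] [CommRing S] [Algebra k S] [Algebra R S]
    [IsScalarTower k R S] [Field F] [Algebra k F] [Algebra R F] [IsScalarTower k R F] [IsFractionRing R F]
    (M : Ideal R) [M.IsPrime] [IsLocalization.AtPrime S M] (σ : S →ₐ[k] F)
    (hσ : ∀ r, σ (algebraMap R S r) = algebraMap R F r) (hS : C →ₐ[k] S)
    (hun : letI := hS.toRingHom.toAlgebra; Algebra.FormallyUnramified C S)
    {g n : ℕ} (hg : ringKrullDim C = g) (hn : Algebra.trdeg k R = n) (hgn : g ≤ n) :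
    n = g ∧ ∃ θ : FractionRing C →ₐ[k] F, θ.comp (IsScalarTower.toAlgHom k C (FractionRing C)) = σ.comp hS ∧
      (letI := θ.toRingHom.toAlgebra; FiniteDimensional (FractionRing C) F) ∧
      (letI := θ.toRingHom.toAlgebra; Algebra.IsSeparable (FractionRing C) F) := by
  letI : Algebra C S := hS.toRingHom.toAlgebra
  have : Algebra.FormallyUnramified C S := hun
  have : IsScalarTower k C S := IsScalarTower.of_algebraMap_eq fun x => (hS.commutes x).symm
  have : IsDomain S := IsLocalization.isDomain_of_le_nonZeroDivisors S (Ideal.primeCompl_le_nonZeroDivisors M)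
  letI : Algebra S F := σ.toRingHom.toAlgebra
  have : IsScalarTower R S F := IsScalarTower.of_algebraMap_eq fun x => (hσ x).symm
  have : IsScalarTower k S F := IsScalarTower.of_algebraMap_eq fun x => (σ.commutes x).symm
  have hSF : IsFractionRing S F :=
    IsFractionRing.isFractionRing_of_isDomain_of_isLocalization M.primeCompl S F
  letI : Algebra C F := (σ.comp hS).toRingHom.toAlgebra
  have : IsScalarTower C S F := IsScalarTower.of_algebraMap_eq fun _ => rfl
  have : IsScalarTower k C F := IsScalarTower.of_algebraMap_eq fun x => ((σ.comp hS).commutes x).symm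
  have htrF : Algebra.trdeg k F = (n : Cardinal) := by rw [trdeg_eq_of_isFractionRing R F, hn]
  have : Algebra.FormallyUnramified S F :=
    Algebra.FormallyUnramified.of_isLocalization (nonZeroDivisors S)
  have : Algebra.FormallyUnramified C F := Algebra.FormallyUnramified.comp C S F
  have : Algebra.EssFiniteType R S := Algebra.EssFiniteType.of_isLocalization _ M.primeCompl
  have : Algebra.EssFiniteType k S := Algebra.EssFiniteType.comp k R S
  have : Algebra.EssFiniteType C S := Algebra.EssFiniteType.of_comp k C S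
  have : Algebra.EssFiniteType S F := Algebra.EssFiniteType.of_isLocalization _ (nonZeroDivisors S)
  have : Algebra.EssFiniteType C F := Algebra.EssFiniteType.comp C S F
  obtain ⟨g', hg', hgt⟩ := VarDim.exists_dim_eq_trdeg k C
  obtain rfl : g' = g := by exact_mod_cast hg'.symm.trans hg
  have hinj : Function.Injective (σ.comp hS) :=
    injective_of_unramified (k := k) (C := C) (F := F) hg (htrF ▸ Nat.cast_le.2 hgn)
  let θ : FractionRing C →ₐ[k] F := IsFractionRing.liftAlgHom hinj
  have hθ : θ.comp (IsScalarTower.toAlgHom k C (FractionRing C)) = σ.comp hS :=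
    AlgHom.ext fun x => IsFractionRing.lift_algebraMap hinj x
  letI : Algebra (FractionRing C) F := θ.toRingHom.toAlgebra
  have : IsScalarTower C (FractionRing C) F :=
    IsScalarTower.of_algebraMap_eq fun x => (IsFractionRing.lift_algebraMap hinj x).symm
  have : IsScalarTower k (FractionRing C) F := IsScalarTower.of_algebraMap_eq fun x => (θ.commutes x).symm
  have : Algebra.FormallyUnramified (FractionRing C) F :=
    Algebra.FormallyUnramified.of_restrictScalars C (FractionRing C) F
  have : Algebra.EssFiniteType (FractionRing C) F := Algebra.EssFiniteType.of_comp C (FractionRing C) F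
  have hfin : FiniteDimensional (FractionRing C) F :=
    Algebra.FormallyUnramified.finite_of_free (FractionRing C) F
  refine ⟨?_, θ, hθ, hfin, Algebra.FormallyUnramified.isSeparable (FractionRing C) F⟩
  have h := trdeg_add_eq k (FractionRing C) (A := F)
  rw [trdeg_eq_zero (R := FractionRing C) (A := F), add_zero, trdeg_eq_of_isFractionRing C (FractionRing C),
    hgt, htrF] at h
  exact_mod_cast h.symm

theorem cover_main {C : Type u} [CommRing C] [IsDomain C] [Algebra k C] [Algebra.FiniteType k C]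
    {C₁ D : Type u} [CommRing C₁] [IsDomain C₁] [Algebra k C₁] [Algebra.FiniteType k C₁]
    [CommRing D] [IsDomain D] [Algebra k D] [Algebra.FiniteType k D]
    (j : ov C ⟶ G) [IsOpenImmersion j.left] (h1G : pt (1 : ov (k := k) k ⟶ G) ∈ Set.range j.left)
    (jA : ov D ⟶ A) [IsOpenImmersion jA.left] (p₁ : C →ₐ[k] C₁) (π : C →ₐ[k] D) (hjA : jA ≫ i = ovMap π ≫ j)
    (hp₁ : Function.Surjective p₁) (e₁ : C₁ →ₐ[k] k) (e₂ : D →ₐ[k] k)
    (hcompat : ∀ x, e₁ (p₁ x) = e₂ (π x)) (he₂ : ovMap e₂ ≫ jA = 1)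
    (hgen : ∀ d, e₂ d = 0 → ∃ s, e₂ s ≠ 0 ∧ s * d ∈ (RingHom.ker p₁).map π)
    {g b w' : ℕ} (hg : ringKrullDim C = g) (hb : ringKrullDim D = b) (hw' : ringKrullDim C₁ = w')
    (hwb : g ≤ w' + b) :
    ∃ (W : Over (Spec (CommRingCat.of k))) (w : W ⟶ G) (F : Type u) (_ : Field F) (_ : Algebra k F)
      (_ : Algebra (FractionRing C) F) (_ : IsScalarTower k (FractionRing C) F)
      (_ : FiniteDimensional (FractionRing C) F) (_ : Algebra.IsSeparable (FractionRing C) F)
      (jF : ov F ⟶ W ⊗ A),
      jF ≫ ((fst W A ≫ w) * (snd W A ≫ i)) = ovMap (IsScalarTower.toAlgHom k (FractionRing C) F) ≫ jK j ∧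
      (∀ (Ω : Type u) [Field Ω] [Algebra k Ω] (v : ov Ω ⟶ W ⊗ A),
        pt (v ≫ ((fst W A ≫ w) * (snd W A ≫ i))) = genericPoint G.left → ∃ r : F →ₐ[k] Ω, ovMap r ≫ jF = v) ∧
      ∀ (Ω : Type u) [Field Ω] [Algebra k Ω] (r r' : F →ₐ[k] Ω), ovMap r ≫ jF = ovMap r' ≫ jF → r = r' := by
  classical
  have : LocallyOfFiniteType A.hom := inferInstance
  have : IsIntegral A.left := H23.MaxAbelian.isIntegral_of_geometricallyIntegral
  let W : Over (Spec (CommRingCat.of k)) := ov C₁
  let w : W ⟶ G := ovMap p₁ ≫ j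
  let hh : W ⊗ A ⟶ G := (fst W A ≫ w) * (snd W A ≫ i)
  have : LocallyOfFiniteType W.hom := locallyOfFiniteType_ov_hom
  have : LocallyOfFiniteType (W ⊗ A).hom := inferInstanceAs (LocallyOfFiniteType (pullback.fst W.hom A.hom ≫ W.hom))
  have : IsIntegral W.left := isIntegral_ov_left
  have : IsLocallyNoetherian W.left := LocallyOfFiniteType.isLocallyNoetherian W.hom
  have : IsIntegral (pullback A.hom W.hom) := inferInstance
  have : IsIntegral (W ⊗ A).left :=
    H23.MaxAbelian.isIntegral_of_iso (pullbackSymmetry W.hom A.hom)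
  let c : ov (C₁ ⊗[k] D) ⟶ W ⊗ A := prodChart jA
  have hco : IsOpenImmersion c.left := isOpenImmersion_prodChart jA
  let ιS := IsScalarTower.toAlgHom k (C₁ ⊗[k] D) (LocS e₁ e₂)
  obtain ⟨hS, hhS, hun⟩ := cover_unramified i j h1G jA p₁ π hjA hp₁ e₁ e₂ hcompat he₂ hgen
  letI : Algebra C (LocS e₁ e₂) := hS.toRingHom.toAlgebra
  have : IsScalarTower k C (LocS e₁ e₂) := IsScalarTower.of_algebraMap_eq fun x => (hS.commutes x).symm
  have : Algebra.FormallyUnramified C (LocS e₁ e₂) := hun
  have : Nonempty (Spec (CommRingCat.of (C₁ ⊗[k] D))) :=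
    ⟨(ovMap (eps0 e₁ e₂)).left (IsLocalRing.closedPoint k)⟩
  have : IsDomain (C₁ ⊗[k] D) := isDomain_of_chart c
  have : IsDomain (LocS e₁ e₂) :=
    IsLocalization.isDomain_localization (Ideal.primeCompl_le_nonZeroDivisors _)
  let F := FractionRing (C₁ ⊗[k] D)
  have hu : ∀ y : (M0 e₁ e₂).primeCompl, IsUnit (IsScalarTower.toAlgHom k (C₁ ⊗[k] D) F y) := fun y =>
    (map_ne_zero_iff _ (IsFractionRing.injective (C₁ ⊗[k] D) F)).2
      (fun h => y.2 (by rw [h]; exact zero_mem _)) |>.isUnit
  let σ : LocS e₁ e₂ →ₐ[k] F := IsLocalization.liftAlgHom hu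
  have hσ : ∀ r, σ (algebraMap (C₁ ⊗[k] D) (LocS e₁ e₂) r) = algebraMap (C₁ ⊗[k] D) F r :=
    fun r => IsLocalization.lift_eq hu r
  obtain ⟨hdimR, htrR⟩ := trdeg_tensor (k := k) hw' hb
  have hftR := finiteType_tensor (k := k) (C₁ := C₁) (D := D)
  obtain ⟨hwbg, θ, hθ, hfin, hsep⟩ := field_part (R := C₁ ⊗[k] D) (S := LocS e₁ e₂) (F := F) (M0 e₁ e₂) σ hσ hS hun hg htrR hwb
  letI algKF : Algebra (FractionRing C) F := θ.toRingHom.toAlgebra
  have : IsScalarTower k (FractionRing C) F := IsScalarTower.of_algebraMap_eq fun x => (θ.commutes x).symm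
  let jF : ov F ⟶ W ⊗ A := ovMap (IsScalarTower.toAlgHom k (C₁ ⊗[k] D) F) ≫ c
  refine ⟨W, w, F, inferInstance, inferInstance, inferInstance, inferInstance, hfin, hsep, jF, ?_, ?_, ?_⟩
  · have e1 : IsScalarTower.toAlgHom k (C₁ ⊗[k] D) F = σ.comp ιS := AlgHom.ext fun r => (hσ r).symm
    have e2 : σ.comp hS
        = (IsScalarTower.toAlgHom k (FractionRing C) F).comp (IsScalarTower.toAlgHom k C (FractionRing C)) :=
      hθ.symm
    show (_ ≫ c) ≫ hh = _
    rw [e1, ovMap_comp, Category.assoc, Category.assoc, ← hhS, ← Category.assoc, ← ovMap_comp, e2,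
      ovMap_comp, Category.assoc]
  · intro Ω _ _ v hvΩ
    have hx : genericPoint (W ⊗ A).left = pt v := by
      refine VarDim.eq_of_specializes_of_deg_le (W ⊗ A).hom (genericPoint_specializes _) ?_
      have hd := VarDim.deg_map_le hh.left G.hom (Over.w hh) (pt v)
      have hpt : hh.left (pt v) = genericPoint G.left := hvΩ
      rw [hpt, deg_genericPoint j hg] at hd
      have hnV : ringKrullDim (C₁ ⊗[k] D) = (g : ℕ) := by rw [hdimR, hwbg]
      rw [deg_genericPoint c hnV]
      exact hd
    have hmem : pt v ∈ Set.range c.left :=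
      ⟨_, (genericPoint_eq_of_isOpenImmersion c.left).trans hx⟩
    obtain ⟨r₀, hr₀⟩ := exists_lift_field c v hmem
    have hker : RingHom.ker r₀ = ⊥ := ker_eq_bot_of_genericPoint c r₀ (by rw [hr₀, hx])
    have hr₀inj : Function.Injective r₀ := (RingHom.injective_iff_ker_eq_bot _).2 hker
    refine ⟨IsFractionRing.liftAlgHom (K := F) hr₀inj, ?_⟩
    show _ ≫ _ ≫ c = v
    rw [← Category.assoc, ← ovMap_comp, ← hr₀]
    congr 2
    exact AlgHom.ext fun x => IsFractionRing.lift_algebraMap hr₀inj x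
  · intro Ω _ _ r r' hrr
    have h : r.comp (IsScalarTower.toAlgHom k (C₁ ⊗[k] D) F)
        = r'.comp (IsScalarTower.toAlgHom k (C₁ ⊗[k] D) F) := by
      apply ovMap_comp_injective c
      rw [ovMap_comp, ovMap_comp, Category.assoc, Category.assoc]
      exact hrr
    exact IsLocalization.algHom_ext (nonZeroDivisors (C₁ ⊗[k] D)) h

variable [IsClosedImmersion i.left]

/-- A finite separable cover of the function field of `G` on which the coset of `A` has a point. -/
theorem exists_cover {C : Type u} [CommRing C] [IsDomain C] [Algebra k C] [Algebra.FiniteType k C]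
    (j : ov C ⟶ G) [IsOpenImmersion j.left] (h1G : pt (1 : ov (k := k) k ⟶ G) ∈ Set.range j.left) :
    ∃ (W : Over (Spec (CommRingCat.of k))) (w : W ⟶ G) (F : Type u) (_ : Field F) (_ : Algebra k F)
      (_ : Algebra (FractionRing C) F) (_ : IsScalarTower k (FractionRing C) F)
      (_ : FiniteDimensional (FractionRing C) F) (_ : Algebra.IsSeparable (FractionRing C) F)
      (jF : ov F ⟶ W ⊗ A),
      jF ≫ ((fst W A ≫ w) * (snd W A ≫ i)) = ovMap (IsScalarTower.toAlgHom k (FractionRing C) F) ≫ jK j ∧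
      (∀ (Ω : Type u) [Field Ω] [Algebra k Ω] (v : ov Ω ⟶ W ⊗ A),
        pt (v ≫ ((fst W A ≫ w) * (snd W A ≫ i))) = genericPoint G.left → ∃ r : F →ₐ[k] Ω, ovMap r ≫ jF = v) ∧
      ∀ (Ω : Type u) [Field Ω] [Algebra k Ω] (r r' : F →ₐ[k] Ω), ovMap r ≫ jF = ovMap r' ≫ jF → r = r' := by
  classical
  have : IsIntegral A.left := H23.MaxAbelian.isIntegral_of_geometricallyIntegral
  obtain ⟨I, jA, hjAo, hjA, hrA⟩ := exists_closed_chart i j
  have h1A : pt (1 : ov (k := k) k ⟶ A) ∈ Set.range jA.left := by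
    rw [hrA, Set.mem_preimage]
    have h : ((1 : ov (k := k) k ⟶ A) ≫ i) = (1 : ov (k := k) k ⟶ G) := MonObj.one_comp i
    show ((1 : ov (k := k) k ⟶ A) ≫ i).left (IsLocalRing.closedPoint k) ∈ _
    rw [h]
    exact h1G
  obtain ⟨e₂, he₂⟩ := exists_lift_field jA (1 : ov (k := k) k ⟶ A) h1A
  have : Nonempty (Spec (CommRingCat.of (C ⧸ I))) := ⟨(ovMap e₂).left (IsLocalRing.closedPoint k)⟩
  have : IsDomain (C ⧸ I) := isDomain_of_chart jA
  obtain ⟨g, hg, -⟩ := VarDim.exists_dim_eq_trdeg k C
  obtain ⟨b, hb, -⟩ := VarDim.exists_dim_eq_trdeg k (C ⧸ I)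
  let π : C →ₐ[k] C ⧸ I := Ideal.Quotient.mkₐ k I
  have : (RingHom.ker e₂).IsPrime := RingHom.ker_isPrime _
  have := isRegularLocalRing_of_chart jA (RingHom.ker e₂)
  obtain ⟨P, hP, hPle, hgen, w', hw', hwb⟩ := exists_section π Ideal.Quotient.mk_surjective e₂ hg hb
  let e₁ : C ⧸ P →ₐ[k] k := Ideal.Quotient.liftₐ P (e₂.comp π) fun a ha => RingHom.mem_ker.1 (hPle ha)
  have hgen' : ∀ d, e₂ d = 0 → ∃ s, e₂ s ≠ 0 ∧ s * d ∈ (RingHom.ker (Ideal.Quotient.mkₐ k P)).map π := by
    intro d hd
    obtain ⟨s, hs, hsd⟩ := hgen d hd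
    have hk : RingHom.ker (Ideal.Quotient.mkₐ k P) = P := by
      ext x; simp [RingHom.mem_ker, Ideal.Quotient.eq_zero_iff_mem]
    exact ⟨s, hs, by rw [hk]; exact hsd⟩
  exact cover_main i j h1G jA (Ideal.Quotient.mkₐ k P) π hjA Ideal.Quotient.mk_surjective e₁ e₂
    (fun x => Ideal.Quotient.liftₐ_apply P _ _ _) he₂ hgen' hg hb hw' hwb

end Cover

/-- Precomposition is a monoid homomorphism. -/
def precomp {X Y M : Over (Spec (CommRingCat.of k))} [GrpObj M] (f : X ⟶ Y) : (Y ⟶ M) →* (X ⟶ M) where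
  toFun g := f ≫ g
  map_one' := MonObj.comp_one f
  map_mul' := MonObj.comp_mul f

/-- Galois descent of a point. -/
theorem exists_descend {K L : Type u} [Field K] [Field L] [Algebra k K] [Algebra k L] [Algebra K L]
    [IsScalarTower k K L] [IsGalois K L] {X : Over (Spec (CommRingCat.of k))} (p : ov L ⟶ X)
    (h : ∀ σ : L ≃ₐ[K] L, ovMap (σ.toAlgHom.restrictScalars k) ≫ p = p) :
    ∃ q : ov K ⟶ X, ovMap (IsScalarTower.toAlgHom k K L) ≫ q = p := by
  obtain ⟨⟨x, ψ⟩, hψ⟩ := (Scheme.SpecToEquivOfField L X.left).symm.surjective p.left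
  have hψ' : Spec.map ψ ≫ X.left.fromSpecResidueField x = p.left := hψ
  have hfix : ∀ (σ : L ≃ₐ[K] L) z, σ (ψ z) = ψ z := by
    intro σ z
    have h1 : Spec.map (CommRingCat.ofHom (σ.toAlgHom.restrictScalars k).toRingHom) ≫ p.left = p.left :=
      congrArg CommaMorphism.left (h σ)
    rw [← hψ', ← Category.assoc, cancel_mono, ← Spec.map_comp] at h1
    exact congr($(Spec.map_injective h1) z)
  have hmem : ∀ z, ψ z ∈ Set.range (algebraMap K L) := fun z =>
    (InfiniteGalois.mem_range_algebraMap_iff_fixed _).2 fun σ => hfix σ z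
  have hbij : Function.Bijective (algebraMap K L).rangeRestrict :=
    ⟨fun a b hab => (algebraMap K L).injective (congrArg Subtype.val hab), (algebraMap K L).rangeRestrict_surjective⟩
  let ψK : X.left.residueField x ⟶ CommRingCat.of K := CommRingCat.ofHom
    ((RingEquiv.ofBijective (algebraMap K L).rangeRestrict hbij).symm.toRingHom.comp
        (ψ.hom.codRestrict (algebraMap K L).range fun z => hmem z))
  have hψK : ψK ≫ CommRingCat.ofHom (algebraMap K L) = ψ := by
    ext z
    exact congrArg Subtype.val ((RingEquiv.ofBijective (algebraMap K L).rangeRestrict hbij).apply_symm_apply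
        ⟨ψ z, hmem z⟩)
  have hw : (Spec.map ψK ≫ X.left.fromSpecResidueField x) ≫ X.hom = (ov (k := k) K).hom := by
    obtain ⟨θ, hθ⟩ : ∃ θ, Spec.map θ = (Spec.map ψK ≫ X.left.fromSpecResidueField x) ≫ X.hom :=
      ⟨_, Spec.map_preimage _⟩
    rw [← hθ]
    show Spec.map θ = Spec.map (CommRingCat.ofHom (algebraMap k K))
    congr 1
    have h2 : θ ≫ CommRingCat.ofHom (algebraMap K L) = CommRingCat.ofHom (algebraMap k L) := by
      apply Spec.map_injective
      rw [Spec.map_comp, hθ, ← Category.assoc, ← Category.assoc, ← Spec.map_comp, hψK, hψ', Over.w]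
      rfl
    ext z
    apply (algebraMap K L).injective
    exact congr($h2 z).trans (IsScalarTower.algebraMap_apply k K L z)
  refine ⟨Over.homMk (Spec.map ψK ≫ X.left.fromSpecResidueField x) hw, ?_⟩
  ext1
  show Spec.map (CommRingCat.ofHom (algebraMap K L)) ≫ _ ≫ _ = p.left
  rw [← Category.assoc, ← Spec.map_comp, hψK, hψ']

theorem genericPoint_of_section {X Y : Scheme.{u}} [IrreducibleSpace X] [IrreducibleSpace Y] (f : X ⟶ Y)
    (s : Y ⟶ X) (hs : s ≫ f = 𝟙 Y) : f (genericPoint X) = genericPoint Y := by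
  refine ((genericPoint_specializes (f (genericPoint X))).antisymm ?_).eq.symm
  have : f (s (genericPoint Y)) = genericPoint Y := by rw [← Scheme.Hom.comp_apply, hs]; rfl
  conv_rhs => rw [← this]
  exact (genericPoint_specializes _).map f.continuous

/-- A point with values in the function field extends to a morphism to a proper group. -/
theorem exists_extension_jK {G A : Over (Spec (CommRingCat.of k))} [GrpObj A]
    [LocallyOfFiniteType G.hom] [Smooth G.hom] [IsSeparated G.hom] [GeometricallyIntegral G.hom]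
    [IsIntegral G.left] [IsProper A.hom] {C : Type u} [CommRing C] [IsDomain C] [Algebra k C]
    (j : ov C ⟶ G) [IsOpenImmersion j.left] (PK : ov (FractionRing C) ⟶ A) :
    ∃ φ : G ⟶ A, jK j ≫ φ = PK := by
  have : IsIntegral (G ⊗ G).left := H23.RatExt.isIntegral_sq
  have : IsIntegral (Spec (CommRingCat.of C)) := (affine_isIntegral_iff (CommRingCat.of C)).2 inferInstance
  letI algFF : Algebra k G.left.functionField :=
    (Spec.preimage (G.left.fromSpecStalk (genericPoint G.left) ≫ G.hom)).hom.toAlgebra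
  let genI : ov G.left.functionField ⟶ G := Over.homMk (G.left.fromSpecStalk (genericPoint G.left))
    (Spec.map_preimage _).symm
  have hgen : pt genI = genericPoint G.left := Scheme.fromSpecStalk_closedPoint
  obtain ⟨θ, hθ⟩ := exists_lift_field j genI
    ⟨_, (genericPoint_eq_of_isOpenImmersion j.left).trans hgen.symm⟩
  have hθi : Function.Injective θ := (RingHom.injective_iff_ker_eq_bot _).2
    (ker_eq_bot_of_genericPoint j θ (by rw [hθ, hgen]))
  let θK : FractionRing C →ₐ[k] G.left.functionField := IsFractionRing.liftAlgHom hθi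
  have hδ : ovMap θK ≫ jK j = genI := by
    rw [← Category.assoc, ← ovMap_comp, ← hθ]
    congr 2
    exact AlgHom.ext fun x => IsFractionRing.lift_algebraMap hθi x
  let φ₀ : H23.RatPoint.gen G ⟶ A := Over.homMk (ovMap θK ≫ PK).left (by
    refine (Over.w (ovMap θK ≫ PK)).trans ?_
    exact Spec.map_preimage _)
  have : G.left.IsSeparated := ⟨by rw [← terminal.comp_from G.hom]; exact inferInstance⟩
  have : A.left.IsSeparated := ⟨by rw [← terminal.comp_from A.hom]; exact inferInstance⟩
  obtain ⟨U, hgU, g, hTU, hg, hg₀⟩ := H23.RatExtend.extend G.hom A.hom φ₀.left (Over.w φ₀) Set.univ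
    fun y _ => by
      obtain ⟨χ, hχ⟩ := H23.RatExt.defAt_of_isProper φ₀ y
      exact ⟨χ.left, Over.w χ, congrArg CommaMorphism.left hχ⟩
  obtain rfl : U = ⊤ := top_unique fun y _ => hTU (Set.mem_univ y)
  refine ⟨Over.homMk (G.left.topIso.inv ≫ g)
    (by rw [Category.assoc, hg]; exact G.left.topIso.inv_hom_id_assoc G.hom), ?_⟩
  have hgφ : genI ≫ Over.homMk (G.left.topIso.inv ≫ g)
      (by rw [Category.assoc, hg]; exact G.left.topIso.inv_hom_id_assoc G.hom) = ovMap θK ≫ PK := by
    ext1
    show G.left.fromSpecStalk _ ≫ G.left.topIso.inv ≫ g = φ₀.left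
    rw [← hg₀, ← Category.assoc]
    congr 1
    rw [Iso.comp_inv_eq]
    exact (Scheme.Opens.fromSpecStalkOfMem_ι ⊤ _ hgU).symm
  have hx : (jK j).left (IsLocalRing.closedPoint (FractionRing C)) = genericPoint G.left := by
    show (_ ≫ j).left _ = _
    rw [Over.comp_left, Scheme.Hom.comp_apply]
    refine Eq.trans ?_ (genericPoint_eq_of_isOpenImmersion j.left)
    refine congrArg _ ?_
    refine Eq.trans ?_ (genericPoint_eq_bot_of_affine (CommRingCat.of C)).symm
    refine PrimeSpectrum.ext ?_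
    rw [asIdeal_ovMap_closedPoint]
    exact (RingHom.injective_iff_ker_eq_bot _).1 (IsFractionRing.injective C (FractionRing C))
  obtain ⟨ε, hε⟩ : ∃ ε : ov (FractionRing C) ⟶ ov G.left.functionField, ε ≫ genI = jK j := by
    let ψ : G.left.functionField ⟶ CommRingCat.of (FractionRing C) :=
      G.left.presheaf.stalkSpecializes (specializes_of_eq hx) ≫ Scheme.stalkClosedPointTo (jK j).left
    have hψ : Spec.map ψ ≫ G.left.fromSpecStalk (genericPoint G.left) = (jK j).left := by
      rw [Spec.map_comp, Category.assoc, Scheme.SpecMap_stalkSpecializes_fromSpecStalk]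
      exact Scheme.Spec_stalkClosedPointTo_fromSpecStalk (jK j).left
    refine ⟨Over.homMk (Spec.map ψ) ?_, Over.OverMorphism.ext hψ⟩
    show Spec.map ψ ≫ (ov G.left.functionField).hom = _
    rw [← Over.w genI, ← Category.assoc]
    show (Spec.map ψ ≫ G.left.fromSpecStalk (genericPoint G.left)) ≫ G.hom = _
    rw [hψ, Over.w]
  have hεδ : ε ≫ ovMap θK = 𝟙 _ := by
    obtain ⟨e, he⟩ : ∃ e : FractionRing C →ₐ[k] FractionRing C, ovMap e = ε ≫ ovMap θK :=
      exists_lift (𝟙 _) (ε ≫ ovMap θK) (by simp) |>.imp fun e he => by rwa [Category.comp_id] at he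
    have h1 : ovMap e ≫ jK j = jK j := by rw [he, Category.assoc, hδ, hε]
    have h2 : e.comp (IsScalarTower.toAlgHom k C (FractionRing C)) = IsScalarTower.toAlgHom k C (FractionRing C) := by
      apply ovMap_comp_injective j
      rw [ovMap_comp, Category.assoc]
      exact h1
    have h3 : e = AlgHom.id k (FractionRing C) := IsLocalization.algHom_ext (nonZeroDivisors C) h2
    rw [← he, h3]
    ext1
    exact Spec.map_id _
  rw [← hε, Category.assoc, hgφ, ← Category.assoc, hεδ, Category.id_comp]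

/-- **Poincaré reducibility over an arbitrary field.** -/
theorem exists_quasi_retraction {G A : Over (Spec (CommRingCat.of k))} [GrpObj G] [GrpObj A]
    [LocallyOfFiniteType G.hom] [Smooth G.hom] [GeometricallyIntegral G.hom] [IsProper A.hom]
    [GeometricallyIntegral A.hom] [Smooth A.hom] (i : A ⟶ G) [IsMonHom i] [IsClosedImmersion i.left] :
    ∃ (φ : G ⟶ A) (n : ℕ), 0 < n ∧
      ∀ (T : Over (Spec (CommRingCat.of k))) (g : T ⟶ G) (a : T ⟶ A), (g * (a ≫ i)) ≫ φ = (g ≫ φ) * a ^ n := by
  classical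
  have : IsCommMonObj A := isCommMonObj_of_isProper_of_geometricallyIntegral A
  have : IsIntegral G.left := H23.MaxAbelian.isIntegral_of_geometricallyIntegral
  have : IsSeparated G.hom := GrpSchLib.AntiAffine.isSeparated_grp G
  obtain ⟨C, _, _, _, j, hjo, h1G⟩ := exists_chart G (pt (1 : ov (k := k) k ⟶ G))
  have : Nonempty (Spec (CommRingCat.of C)) := ⟨h1G.choose⟩
  have : IsDomain C := isDomain_of_chart j
  obtain ⟨W, w, F, _, _, _, _, _, _, jF, hjF, hlift, hinj⟩ := exists_cover i j h1G
  let hh : W ⊗ A ⟶ G := (fst W A ≫ w) * (snd W A ≫ i)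
  let K := FractionRing C
  let L := SeparableClosure K
  have : Algebra.IsSeparable K L := inferInstance
  have : IsGalois K L := inferInstance
  let J := F →ₐ[K] L
  have : Fintype J := Fintype.ofFinite J
  have : Nonempty J := ⟨IsSepClosed.lift⟩
  let bj : J → (ov L ⟶ A) := fun e => ovMap (e.restrictScalars k) ≫ jF ≫ snd W A
  let PL : ov L ⟶ A := ∏ e, bj e
  have hPL : ∀ σ : L ≃ₐ[K] L, ovMap (σ.toAlgHom.restrictScalars k) ≫ PL = PL := by
    intro σ
    show precomp (ovMap (σ.toAlgHom.restrictScalars k)) (∏ e, bj e) = _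
    rw [map_prod]
    refine Fintype.prod_equiv
      { toFun := fun e => σ.toAlgHom.comp e
        invFun := fun e => σ.symm.toAlgHom.comp e
        left_inv := fun e => AlgHom.ext fun x => σ.symm_apply_apply _
        right_inv := fun e => AlgHom.ext fun x => σ.apply_symm_apply _ } _ _ fun e => ?_
    show ovMap _ ≫ ovMap _ ≫ _ = ovMap _ ≫ _
    rw [← Category.assoc, ← ovMap_comp]
    rfl
  obtain ⟨PK, hPK⟩ := exists_descend (K := K) (L := L) PL hPL
  obtain ⟨φ, hφ⟩ := exists_extension_jK j PK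
  refine ⟨φ, Fintype.card J, Fintype.card_pos, ?_⟩
  have key : ∀ (Ω : Type u) [Field Ω] [IsAlgClosed Ω] [Algebra k Ω] (g : ov Ω ⟶ G), pt g = genericPoint G.left →
      ∃ e : J → (ov Ω ⟶ W ⊗ A), Function.Injective e ∧ (∀ x, e x ≫ hh = g) ∧
        (∀ v, v ≫ hh = g → ∃ x, e x = v) ∧ g ≫ φ = ∏ x, e x ≫ snd W A := by
    intro Ω _ _ _ g hg
    have : IsIntegral (Spec (CommRingCat.of C)) := (affine_isIntegral_iff (CommRingCat.of C)).2 inferInstance
    obtain ⟨ρ, hρ⟩ := exists_lift_field j g
      ⟨_, (genericPoint_eq_of_isOpenImmersion j.left).trans hg.symm⟩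
    have hρi : Function.Injective ρ := (RingHom.injective_iff_ker_eq_bot _).2
      (ker_eq_bot_of_genericPoint j ρ (by rw [hρ, hg]))
    let ρK : K →ₐ[k] Ω := IsFractionRing.liftAlgHom hρi
    letI : Algebra K Ω := ρK.toRingHom.toAlgebra
    have : IsScalarTower k K Ω := IsScalarTower.of_algebraMap_eq fun x => (ρK.commutes x).symm
    have hρK : ρK.comp (IsScalarTower.toAlgHom k C K) = ρ :=
      AlgHom.ext fun x => IsFractionRing.lift_algebraMap hρi x
    have hgK : ovMap (IsScalarTower.toAlgHom k K Ω) ≫ jK j = g := by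
      rw [← Category.assoc, ← ovMap_comp, ← hρ]
      congr 2
    let σ : L →ₐ[K] Ω := IsAlgClosed.lift
    let e : J → (ov Ω ⟶ W ⊗ A) := fun x => ovMap ((σ.comp x).restrictScalars k) ≫ jF
    have hinje : Function.Injective e := fun x y hxy => by
      have h := hinj Ω _ _ hxy
      have h' : σ.comp x = σ.comp y := AlgHom.ext fun z => DFunLike.congr_fun h z
      exact AlgHom.ext fun z => σ.injective (DFunLike.congr_fun h' z)
    have hover : ∀ x, e x ≫ hh = g := fun x => by
      show (_ ≫ jF) ≫ hh = g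
      rw [Category.assoc, hjF, ← Category.assoc, ← ovMap_comp, ← hgK]
      congr 2
      exact AlgHom.ext fun z => (σ.comp x).commutes z
    refine ⟨e, hinje, hover, ?_, ?_⟩
    · intro v hv
      obtain ⟨r, hr⟩ := hlift Ω v (by rw [hv, hg])
      have hrK : r.comp (IsScalarTower.toAlgHom k K F) = IsScalarTower.toAlgHom k K Ω := by
        refine IsLocalization.algHom_ext (nonZeroDivisors C) ?_
        apply ovMap_comp_injective j
        rw [← hr, Category.assoc, hjF] at hv
        show ovMap ((r.comp _).comp (IsScalarTower.toAlgHom k C K)) ≫ j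
          = ovMap ((IsScalarTower.toAlgHom k K Ω).comp (IsScalarTower.toAlgHom k C K)) ≫ j
        rw [ovMap_comp, ovMap_comp, ovMap_comp, Category.assoc, Category.assoc, Category.assoc]
        exact hv.trans hgK.symm
      let r' : F →ₐ[K] Ω := { r.toRingHom with commutes' := fun z => DFunLike.congr_fun hrK z }
      have hb : Function.Bijective fun x : J => σ.comp x := by
        refine (Fintype.bijective_iff_injective_and_card _).2
          ⟨fun x y h => AlgHom.ext fun z => σ.injective (DFunLike.congr_fun h z), ?_⟩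
        rw [AlgHom.card K F Ω]
        convert AlgHom.card_of_splits K F L fun z =>
          IsSepClosed.splits_codomain _ (Algebra.IsSeparable.isSeparable K z)
      obtain ⟨x, hx⟩ := hb.2 r'
      refine ⟨x, ?_⟩
      show ovMap _ ≫ jF = v
      rw [← hr]
      congr 2
      exact AlgHom.ext fun z => DFunLike.congr_fun hx z
    · have hσ : ovMap (IsScalarTower.toAlgHom k K Ω) = ovMap (σ.restrictScalars k) ≫ ovMap (IsScalarTower.toAlgHom k K L) := by
        rw [← ovMap_comp]
        congr 1
        exact AlgHom.ext fun z => (σ.commutes z).symm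
      rw [← hgK, hσ, Category.assoc, Category.assoc, hφ, hPK]
      show precomp (ovMap (σ.restrictScalars k)) (∏ x, bj x) = _
      rw [map_prod]
      refine Finset.prod_congr rfl fun x _ => ?_
      show ovMap (σ.restrictScalars k) ≫ ovMap (x.restrictScalars k) ≫ jF ≫ snd W A
        = (ovMap ((σ.comp x).restrictScalars k) ≫ jF) ≫ snd W A
      rw [← Category.assoc, ← ovMap_comp, Category.assoc]
      rfl
  -- translation by `A`
  have htr : ∀ (Ω : Type u) [Field Ω] [IsAlgClosed Ω] [Algebra k Ω] (g : ov Ω ⟶ G) (a : ov Ω ⟶ A),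
      pt g = genericPoint G.left → pt (g * (a ≫ i)) = genericPoint G.left →
      (g * (a ≫ i)) ≫ φ = (g ≫ φ) * a ^ Fintype.card J := by
    intro Ω _ _ _ g a hg hga
    obtain ⟨e, he, heg, -, hp⟩ := key Ω g hg
    obtain ⟨e', he', -, hs', hp'⟩ := key Ω (g * (a ≫ i)) hga
    let τ : J → (ov Ω ⟶ W ⊗ A) := fun x => lift (e x ≫ fst W A) ((e x ≫ snd W A) * a)
    have hτ : ∀ x, τ x ≫ hh = g * (a ≫ i) := fun x => by
      rw [← heg x]
      simp only [τ, hh, MonObj.comp_mul, lift_fst_assoc, lift_snd_assoc, MonObj.mul_comp, Category.assoc]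
      exact (_root_.mul_assoc _ _ _).symm
    have hτi : Function.Injective τ := fun x y h => by
      refine he (CartesianMonoidalCategory.hom_ext _ _ ?_ ?_)
      · simpa only [τ, lift_fst] using congrArg (· ≫ fst W A) h
      · simpa only [τ, lift_snd, mul_left_inj] using congrArg (· ≫ snd W A) h
    choose π hπ using fun x => hs' (τ x) (hτ x)
    have hπb : Function.Bijective π := Finite.injective_iff_bijective.1 fun x y h => hτi (by rw [← hπ x, ← hπ y, h])
    rw [hp', hp, ← Fintype.prod_equiv (Equiv.ofBijective π hπb) (fun x => τ x ≫ snd W A) _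
      (fun x => congrArg (· ≫ snd W A) (hπ x).symm)]
    simp only [τ, lift_snd, Finset.prod_mul_distrib, Finset.prod_const, Finset.card_univ]
  -- the generic geometric point of `G ⊗ A`
  have := H23.RatExt.geometricallyIntegral_prod G A
  have : IsIntegral (G ⊗ A).left := H23.MaxAbelian.isIntegral_of_geometricallyIntegral
  have : IsIntegral A.left := H23.MaxAbelian.isIntegral_of_geometricallyIntegral
  let Z : Over (Spec (CommRingCat.of k)) := G ⊗ A
  letI algFF : Algebra k Z.left.functionField :=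
    (Spec.preimage (Z.left.fromSpecStalk (genericPoint Z.left) ≫ Z.hom)).hom.toAlgebra
  let t₀ : ov Z.left.functionField ⟶ Z := Over.homMk (Z.left.fromSpecStalk (genericPoint Z.left))
    (Spec.map_preimage _).symm
  let Ω := AlgebraicClosure Z.left.functionField
  let t : ov Ω ⟶ Z := ovMap (IsScalarTower.toAlgHom k Z.left.functionField Ω) ≫ t₀
  have ht : pt t = genericPoint Z.left := by
    show (_ ≫ t₀).left _ = _
    rw [Over.comp_left, Scheme.Hom.comp_apply]
    refine Eq.trans ?_ Scheme.fromSpecStalk_closedPoint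
    exact congrArg _ (Subsingleton.elim (α := PrimeSpectrum Z.left.functionField) _ _)
  have : IsDominant t.left := ⟨dense_iff_closure_eq.2 (Set.eq_univ_of_forall fun y =>
    closure_mono (show {genericPoint Z.left} ⊆ Set.range t.left from Set.singleton_subset_iff.2 ⟨_, ht⟩)
      (specializes_iff_mem_closure.1 (genericPoint_specializes y)))⟩
  let m : Z ⟶ G := fst G A * (snd G A ≫ i)
  have hs1 : (lift (𝟙 G) (1 : G ⟶ A)).left ≫ (fst G A).left = 𝟙 G.left := by
    rw [← Over.comp_left, lift_fst]; rfl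
  have hs2 : (lift (𝟙 G) (1 : G ⟶ A)).left ≫ m.left = 𝟙 G.left := by
    rw [← Over.comp_left, MonObj.comp_mul, lift_fst, lift_snd_assoc, MonObj.one_comp, mul_one]; rfl
  have hgen1 : pt (t ≫ fst G A) = genericPoint G.left := by
    show (t ≫ fst G A).left _ = _
    rw [Over.comp_left, Scheme.Hom.comp_apply]
    exact (congrArg _ ht).trans (genericPoint_of_section _ _ hs1)
  have hgen2 : pt ((t ≫ fst G A) * ((t ≫ snd G A) ≫ i)) = genericPoint G.left := by
    have : (t ≫ fst G A) * ((t ≫ snd G A) ≫ i) = t ≫ m := by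
      rw [Category.assoc t (snd G A) i, MonObj.comp_mul]
    rw [this]
    show (t ≫ m).left _ = _
    rw [Over.comp_left, Scheme.Hom.comp_apply]
    exact (congrArg _ ht).trans (genericPoint_of_section _ _ hs2)
  have hid : m ≫ φ = (fst G A ≫ φ) * snd G A ^ Fintype.card J := by
    have h := htr Ω (t ≫ fst G A) (t ≫ snd G A) hgen1 hgen2
    rw [Category.assoc t (snd G A) i, ← MonObj.comp_mul, Category.assoc, Category.assoc t (fst G A) φ,
      ← MonObj.comp_pow, ← MonObj.comp_mul] at h
    have : IsSeparated A.hom := inferInstance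
    ext1
    refine ext_of_isDominant_of_isSeparated A.hom ?_ t.left ?_
    · rw [Over.w, Over.w]
    · exact congrArg CommaMorphism.left h
  intro T g a
  have h := congrArg (lift g a ≫ ·) hid
  simpa only [m, MonObj.comp_mul, MonObj.comp_pow, MonObj.mul_comp, lift_fst_assoc, lift_snd_assoc, lift_fst,
    lift_snd, ← Category.assoc] using h

end Groth.Agent.AVRosati.Reduc
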