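import Groth.Agent.AVRosati.QuasiSection
import Groth.Agent.IsogLib.ChowDescent
import Groth.Agent.IsogLib.Product
import Groth.Agent.H23.BcComp
import Groth.Agent.H23.FinCondSch
import Groth.Prelude.Def_W4bk6langav68Chow
import Mathlib.AlgebraicGeometry.Sites.Fpqc

/-!
Abelian subvarieties descend along extensions with geometrically irreducible spectrum; Chow images exist.
-/

noncomputable section

set_option autoImplicit false
set_option linter.style.haveILetI false
set_option linter.unusedSectionVars false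
set_option backward.isDefEq.respectTransparency false
set_option backward.isDefEq.respectTransparency.types false

universe u

open CategoryTheory CategoryTheory.Limits AlgebraicGeometry MonoidalCategory CartesianMonoidalCategory
open scoped MonObj

namespace Groth.Agent.AVRosati.ChowImage

variable {k K : Type u} [Field k] [Field K] (σ : Spec (CommRingCat.of K) ⟶ Spec (CommRingCat.of k))

theorem bc_proper (B : Over (Spec (CommRingCat.of k))) [IsProper B.hom] : IsProper (Red.bc σ B).hom :=
  MorphismProperty.pullback_snd (P := @IsProper) B.hom σ inferInstance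

theorem bc_geomInt (B : Over (Spec (CommRingCat.of k))) [GeometricallyIntegral B.hom] :
    GeometricallyIntegral (Red.bc σ B).hom :=
  MorphismProperty.pullback_snd (P := @GeometricallyIntegral) B.hom σ inferInstance

theorem surjective_map {B C : Over (Spec (CommRingCat.of k))} (f : B ⟶ C) [Surjective f.left] :
    Surjective ((Over.pullback σ).map f).left :=
  MorphismProperty.baseChange_map (P := @Surjective) σ f inferInstance

/-- Two closed subvarieties of the same space are isomorphic over the ambient scheme. -/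
theorem exists_iso_of_range_eq {X Y Z : Over (Spec (CommRingCat.of K))} [IsReduced X.left] [IsReduced Y.left]
    (a : X ⟶ Z) (b : Y ⟶ Z) [IsClosedImmersion a.left] [IsClosedImmersion b.left]
    (h : Set.range a.left = Set.range b.left) : ∃ e : X ≅ Y, e.hom ≫ b = a := by
  obtain ⟨l, hl⟩ := SubAV.exists_lift_over a b h.subset
  obtain ⟨m, hm⟩ := SubAV.exists_lift_over b a h.symm.subset
  haveI := SubAV.mono_of_closed a
  haveI := SubAV.mono_of_closed b
  exact ⟨⟨l, m, by rw [← cancel_mono a, Category.assoc, hm, hl, Category.id_comp],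
    by rw [← cancel_mono b, Category.assoc, hl, hm, Category.id_comp]⟩, hl⟩

variable [GeometricallyIrreducible σ]

/-- An abelian subvariety of a base change is defined over the ground field. -/
theorem exists_descend_sub {A : Over (Spec (CommRingCat.of k))} [GrpObj A] [IsProper A.hom]
    [GeometricallyIntegral A.hom] {B' : Over (Spec (CommRingCat.of K))} [GrpObj B'] [IsProper B'.hom]
    [GeometricallyIntegral B'.hom] (i' : B' ⟶ Red.bc σ A) [IsMonHom i'] [IsClosedImmersion i'.left] :
    ∃ (B : Over (Spec (CommRingCat.of k))) (_ : GrpObj B) (i : B ⟶ A), IsProper B.hom ∧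
      GeometricallyIntegral B.hom ∧ IsMonHom i ∧ IsClosedImmersion i.left ∧
      ∃ e : Red.bc σ B ≅ B', e.hom ≫ i' = (Over.pullback σ).map i := by
  haveI := bc_proper σ A
  haveI := bc_geomInt σ A
  obtain ⟨u, n, hn, hu, hiu⟩ := SubAV.exists_retraction i'
  haveI := hu
  haveI : IsMonHom (u ≫ i') := inferInstance
  obtain ⟨f₀, hf₀, hf⟩ := IsogLib.exists_descent_of_geometricallyIrreducible σ A A (u ≫ i')
  haveI := hf₀
  haveI : IsCommMonObj A := isCommMonObj_of_isProper_of_geometricallyIntegral A
  obtain ⟨B, hBG, j, hj, hjc, hBp, hBi, hjr⟩ := IsogLib.exists_image f₀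
  haveI := hj
  haveI := hjc
  haveI := hBp
  haveI := hBi
  haveI : IsIntegral A.left := H23.MaxAbelian.isIntegral_of_geometricallyIntegral
  obtain ⟨τ, hτ⟩ := SubAV.exists_lift_over f₀ j hjr.ge
  haveI : Surjective τ.left := SubAV.surjective_of_range τ j (by rw [hτ, hjr])
  haveI := surjective_map σ τ
  haveI : Surjective u.left := by
    haveI : Surjective (i'.left ≫ u.left) := by
      rw [← Over.comp_left, hiu]
      exact AVMulN.surjective_pow (A := B') n hn
    exact Surjective.of_comp i'.left u.left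
  haveI := bc_proper σ B
  haveI := bc_geomInt σ B
  haveI : IsIntegral (Red.bc σ B).left := H23.MaxAbelian.isIntegral_of_geometricallyIntegral
  haveI : IsIntegral B'.left := H23.MaxAbelian.isIntegral_of_geometricallyIntegral
  haveI : IsClosedImmersion ((Over.pullback σ).map j).left :=
    MorphismProperty.baseChange_map (P := @IsClosedImmersion) σ j inferInstance
  have hr : Set.range ((Over.pullback σ).map j).left = Set.range i'.left := by
    have h : ((Over.pullback σ).map τ).left ≫ ((Over.pullback σ).map j).left = u.left ≫ i'.left := by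
      rw [← Over.comp_left, ← Functor.map_comp, hτ, hf, Over.comp_left]
    have h1 : Set.range (((Over.pullback σ).map τ).left ≫ ((Over.pullback σ).map j).left) =
        Set.range ((Over.pullback σ).map j).left := by
      rw [Scheme.Hom.comp_base, TopCat.coe_comp]
      exact (Scheme.Hom.surjective ((Over.pullback σ).map τ).left).range_comp _
    have h2 : Set.range (u.left ≫ i'.left) = Set.range i'.left := by
      rw [Scheme.Hom.comp_base, TopCat.coe_comp]
      exact (Scheme.Hom.surjective u.left).range_comp _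
    rw [← h1, h, h2]
  obtain ⟨e, he⟩ := exists_iso_of_range_eq _ i' hr
  exact ⟨B, hBG, j, hBp, hBi, hj, hjc, e, he⟩

/-- The image of a homomorphism into a base change is defined over the ground field. -/
theorem exists_descend_image {A : Over (Spec (CommRingCat.of K))} [GrpObj A] [IsProper A.hom]
    [GeometricallyIntegral A.hom] {B : Over (Spec (CommRingCat.of k))} [GrpObj B] [IsProper B.hom]
    [GeometricallyIntegral B.hom] (h : A ⟶ Red.bc σ B) [IsMonHom h] :
    ∃ (C : Over (Spec (CommRingCat.of k))) (_ : GrpObj C) (j : C ⟶ B) (t : A ⟶ Red.bc σ C), IsProper C.hom ∧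
      GeometricallyIntegral C.hom ∧ IsMonHom j ∧ IsMonHom t ∧ Surjective t.left ∧
      t ≫ (Over.pullback σ).map j = h := by
  haveI := bc_proper σ B
  haveI := bc_geomInt σ B
  haveI : IsIntegral A.left := H23.MaxAbelian.isIntegral_of_geometricallyIntegral
  haveI : IsCommMonObj A := isCommMonObj_of_isProper_of_geometricallyIntegral A
  obtain ⟨I, hIG, i', hi', hic, hIp, hIi, hir⟩ := IsogLib.exists_image h
  haveI := hi'
  haveI := hic
  haveI := hIp
  haveI := hIi
  obtain ⟨C, hCG, j, hCp, hCi, hj, hjc, e, he⟩ := exists_descend_sub σ i'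
  haveI := hj
  haveI := hjc
  obtain ⟨τ, hτ⟩ := SubAV.exists_lift_over h i' hir.ge
  haveI : Surjective τ.left := SubAV.surjective_of_range τ i' (by rw [hτ, hir])
  haveI : IsClosedImmersion ((Over.pullback σ).map j).left :=
    MorphismProperty.baseChange_map (P := @IsClosedImmersion) σ j inferInstance
  have ht : (τ ≫ e.inv) ≫ (Over.pullback σ).map j = h := by rw [← he, Category.assoc, Iso.inv_hom_id_assoc, hτ]
  refine ⟨C, hCG, j, τ ≫ e.inv, hCp, hCi, hj, ?_, ?_, ht⟩
  · haveI : Mono ((Over.pullback σ).map j : Red.bc σ C ⟶ Red.bc σ B) := SubAV.mono_of_closed _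
    haveI : IsMonHom ((Over.pullback σ).map j : Red.bc σ C ⟶ Red.bc σ B) := inferInstance
    haveI : IsMonHom ((τ ≫ e.inv) ≫ (Over.pullback σ).map j : A ⟶ Red.bc σ B) := by rw [ht]; infer_instance
    exact SubAV.isMonHom_of_comp_mono (Y := Red.bc σ C) (τ ≫ e.inv) ((Over.pullback σ).map j)
  · rw [Over.comp_left]
    haveI : IsIso e.inv.left := (Over.forget _).map_isIso e.inv
    infer_instance

/-- Morphisms into the base change of a product are detected by the two projections. -/
theorem hom_ext_bc {B C : Over (Spec (CommRingCat.of k))} {T : Over (Spec (CommRingCat.of K))}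
    (a b : T ⟶ (Over.pullback σ).obj (B ⊗ C))
    (h₁ : a ≫ (Over.pullback σ).map (fst B C) = b ≫ (Over.pullback σ).map (fst B C))
    (h₂ : a ≫ (Over.pullback σ).map (snd B C) = b ≫ (Over.pullback σ).map (snd B C)) : a = b := by
  rw [← cancel_mono (Functor.OplaxMonoidal.δ (Over.pullback σ) B C)]
  refine CartesianMonoidalCategory.hom_ext _ _ ?_ ?_
  · simpa only [Category.assoc, Functor.OplaxMonoidal.δ_fst] using h₁
  · simpa only [Category.assoc, Functor.OplaxMonoidal.δ_snd] using h₂

variable (A : Over (Spec (CommRingCat.of K))) [GrpObj A] [IsProper A.hom] [GeometricallyIntegral A.hom]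

/-- The ideal sheaves of the kernels of the surjective homomorphisms onto base changes. -/
def kernelIdeals : Set A.left.IdealSheafData :=
  {I | ∃ (B : Over (Spec (CommRingCat.of k))) (_ : GrpObj B) (_ : IsProper B.hom) (_ : GeometricallyIntegral B.hom)
    (l : A ⟶ Red.bc σ B) (_ : IsMonHom l) (H : Over (Spec (CommRingCat.of K))) (i : H ⟶ A),
    Surjective l.left ∧ IsClosedImmersion i.left ∧ IsPullback i (toUnit H) l η[Red.bc σ B] ∧ I = i.left.ker}

theorem kernelIdeals_nonempty : (kernelIdeals σ A).Nonempty := by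
  haveI := IsogLib.geometricallyIntegral_unit (k := k)
  haveI : IsProper (𝟙_ (Over (Spec (CommRingCat.of k)))).hom :=
    inferInstanceAs (IsProper (𝟙 (Spec (CommRingCat.of k))))
  haveI := bc_proper σ (𝟙_ (Over (Spec (CommRingCat.of k))))
  haveI := bc_geomInt σ (𝟙_ (Over (Spec (CommRingCat.of k))))
  let l : A ⟶ Red.bc σ (𝟙_ (Over (Spec (CommRingCat.of k)))) := 1
  haveI : IsCommMonObj (Red.bc σ (𝟙_ (Over (Spec (CommRingCat.of k))))) :=
    isCommMonObj_of_isProper_of_geometricallyIntegral _
  haveI : IsMonHom l := GrpSchLib.RigidHom.isMonHom_of_one l (MonObj.comp_one _)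
  obtain ⟨H, _, i, -, hic, hH⟩ := QuasiSection.exists_kernel l
  refine ⟨i.left.ker, _, inferInstance, inferInstance, inferInstance, l, inferInstance, H, i, ⟨fun y => ?_⟩,
    hic, hH, rfl⟩
  haveI : IsIso (Red.bc σ (𝟙_ (Over (Spec (CommRingCat.of k))))).hom :=
    inferInstanceAs (IsIso (pullback.snd (𝟙 (Spec (CommRingCat.of k))) σ))
  exact ⟨η[A].left (IsLocalRing.closedPoint K),
    (Red.bc σ (𝟙_ (Over (Spec (CommRingCat.of k))))).hom.homeomorph.injective
      (Subsingleton.elim (α := PrimeSpectrum K) _ _)⟩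

/-- Chow images exist. -/
theorem exists_image_bc :
    ∃ (A₀ : Over (Spec (CommRingCat.of k))) (_ : GrpObj A₀) (lam : A ⟶ Red.bc σ A₀), IsProper A₀.hom ∧
      GeometricallyIntegral A₀.hom ∧ IsMonHom lam ∧ Surjective lam.left ∧
      ∀ (B : Over (Spec (CommRingCat.of k))) [GrpObj B] [IsProper B.hom] [GeometricallyIntegral B.hom]
        (α : A ⟶ Red.bc σ B) [IsMonHom α],
        ∃ α₀ : A₀ ⟶ B, IsMonHom α₀ ∧ lam ≫ (Over.pullback σ).map α₀ = α := by
  haveI : IsLocallyNoetherian A.left := LocallyOfFiniteType.isLocallyNoetherian A.hom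
  haveI : CompactSpace A.left := QuasiCompact.compactSpace_of_compactSpace A.hom
  haveI : IsNoetherian A.left := {}
  haveI : IsIntegral A.left := H23.MaxAbelian.isIntegral_of_geometricallyIntegral
  obtain ⟨I, ⟨A₀, hG, hp, hi, lam, hlam, H, iH, hs, hic, hH, rfl⟩, hmax⟩ :=
    (H23.FinCondSch.wellFoundedGT (X := A.left)).wf.has_min _ (kernelIdeals_nonempty σ A)
  haveI := hs
  haveI := hic
  refine ⟨A₀, hG, lam, hp, hi, hlam, hs, fun B _ _ _ α _ => ?_⟩
  haveI := bc_proper σ A₀
  haveI := bc_geomInt σ A₀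
  haveI := bc_proper σ B
  haveI := bc_geomInt σ B
  haveI : GeometricallyIntegral (A₀ ⊗ B).hom := H23.MaxAbelian.geometricallyIntegral_tensor A₀ B
  haveI : IsProper (A₀ ⊗ B).hom := by rw [Over.tensorObj_hom]; infer_instance
  haveI := bc_proper σ (A₀ ⊗ B)
  haveI := bc_geomInt σ (A₀ ⊗ B)
  -- the pair
  obtain ⟨w, hw1, hw2⟩ : ∃ w : A ⟶ Red.bc σ (A₀ ⊗ B), w ≫ (Over.pullback σ).map (fst A₀ B) = lam ∧
      w ≫ (Over.pullback σ).map (snd A₀ B) = α :=
    ⟨lift lam α ≫ Functor.LaxMonoidal.μ (Over.pullback σ) A₀ B,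
      by rw [Category.assoc, Functor.Monoidal.μ_fst, lift_fst],
      by rw [Category.assoc, Functor.Monoidal.μ_snd, lift_snd]⟩
  haveI : IsCommMonObj A := isCommMonObj_of_isProper_of_geometricallyIntegral A
  haveI : IsCommMonObj (Red.bc σ (A₀ ⊗ B)) := isCommMonObj_of_isProper_of_geometricallyIntegral _
  haveI : IsMonHom w := by
    refine GrpSchLib.RigidHom.isMonHom_of_one w ?_
    rw [← MonObj.one_eq_one]
    refine hom_ext_bc σ _ _ ?_ ?_
    · rw [Category.assoc, hw1, IsMonHom.one_hom lam]
      exact (IsMonHom.one_hom ((Over.pullback σ).map (fst A₀ B) : Red.bc σ (A₀ ⊗ B) ⟶ Red.bc σ A₀)).symm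
    · rw [Category.assoc, hw2, IsMonHom.one_hom α]
      exact (IsMonHom.one_hom ((Over.pullback σ).map (snd A₀ B) : Red.bc σ (A₀ ⊗ B) ⟶ Red.bc σ B)).symm
  obtain ⟨C, hCG, j, t, hCp, hCi, hj, ht, hts, htj⟩ := exists_descend_image σ w
  haveI := hj
  haveI := ht
  haveI := hts
  haveI := bc_proper σ C
  haveI := bc_geomInt σ C
  obtain ⟨Ht, _, iT, hiT, hiTc, hT⟩ := QuasiSection.exists_kernel t
  haveI := hiTc
  have hTl : iT ≫ lam = 1 := by
    haveI : IsMonHom ((Over.pullback σ).map (j ≫ fst A₀ B) : Red.bc σ C ⟶ Red.bc σ A₀) := inferInstance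
    have h1 : t ≫ (Over.pullback σ).map (j ≫ fst A₀ B) = lam := by
      rw [Functor.map_comp, ← Category.assoc, htj, hw1]
    rw [← h1, ← Category.assoc, IsogLib.kernel_comp t hT]
    exact MonObj.one_comp _
  obtain ⟨d, hd⟩ := IsogLib.exists_kernel_lift lam hH iT hTl
  have hle : iH.left.ker ≤ iT.left.ker := by
    rw [← hd, Over.comp_left]
    exact Scheme.Hom.le_ker_comp d.left iH.left
  have hge : iT.left.ker ≤ iH.left.ker := by
    by_contra hcon
    exact hmax iT.left.ker ⟨C, hCG, hCp, hCi, t, ht, Ht, iT, hts, hiTc, hT, rfl⟩ (lt_of_le_not_ge hle hcon)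
  have hkill : ∀ {T : Over (Spec (CommRingCat.of K))} (g : T ⟶ A), g ≫ lam = 1 → g ≫ α = 1 := by
    intro T g hg
    obtain ⟨g₁, hg₁⟩ := IsogLib.exists_kernel_lift lam hH g hg
    let c : H ⟶ Ht := Over.homMk (IsClosedImmersion.lift iT.left iH.left hge) (by
      rw [← Over.w iT, ← Category.assoc, IsClosedImmersion.lift_fac, Over.w])
    have hc : c ≫ iT = iH := Over.OverMorphism.ext (IsClosedImmersion.lift_fac _ _ _)
    haveI : IsMonHom ((Over.pullback σ).map (j ≫ snd A₀ B) : Red.bc σ C ⟶ Red.bc σ B) := inferInstance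
    have h1 : t ≫ (Over.pullback σ).map (j ≫ snd A₀ B) = α := by
      rw [Functor.map_comp, ← Category.assoc, htj, hw2]
    rw [← h1, ← hg₁, ← hc]
    simp only [Category.assoc]
    rw [reassoc_of% (IsogLib.kernel_comp t hT), MonObj.one_comp, MonObj.comp_one, MonObj.comp_one]
  -- `α` factors through `lam`
  haveI : IsIntegral (Red.bc σ A₀).left := H23.MaxAbelian.isIntegral_of_geometricallyIntegral
  haveI : IsProper (lam.left ≫ (Red.bc σ A₀).hom) := by rw [Over.w]; infer_instance
  haveI : IsProper lam.left := IsProper.of_comp _ (Red.bc σ A₀).hom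
  haveI : IsSchemeTheoreticallyDominant lam.left := IsSchemeTheoreticallyDominant.of_isDominant _
  haveI : Flat lam.left := (GrpSchLib.ImageFlat.flat_surjective_of_dominant lam).1
  haveI : EffectiveEpi lam.left := inferInstance
  have hdesc : ∀ {Z : Scheme.{u}} (a b : Z ⟶ A.left), a ≫ lam.left = b ≫ lam.left → a ≫ α.left = b ≫ α.left := by
    intro Z a b hab
    have hbA : b ≫ A.hom = a ≫ A.hom := by rw [← Over.w lam, ← reassoc_of% hab]
    let a' : Over.mk (a ≫ A.hom) ⟶ A := Over.homMk a rfl
    let b' : Over.mk (a ≫ A.hom) ⟶ A := Over.homMk b hbA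
    have h1 : (a' * b'⁻¹) ≫ lam = 1 := by
      rw [MonObj.mul_comp, GrpObj.inv_comp, show a' ≫ lam = b' ≫ lam from Over.OverMorphism.ext hab,
        mul_inv_cancel]
    have h2 := hkill _ h1
    rw [MonObj.mul_comp, GrpObj.inv_comp, mul_inv_eq_one] at h2
    exact congrArg CommaMorphism.left h2
  let g : Red.bc σ A₀ ⟶ Red.bc σ B := Over.homMk (EffectiveEpi.desc lam.left α.left hdesc) (by
    rw [← cancel_epi lam.left, EffectiveEpi.fac_assoc, Over.w α, Over.w lam])
  have hg : lam ≫ g = α := Over.OverMorphism.ext (EffectiveEpi.fac _ _ hdesc)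
  haveI : IsMonHom g := by
    haveI : IsCommMonObj (Red.bc σ A₀) := isCommMonObj_of_isProper_of_geometricallyIntegral _
    refine GrpSchLib.RigidHom.isMonHom_of_one g ?_
    rw [← IsMonHom.one_hom lam, Category.assoc, hg, IsMonHom.one_hom α, MonObj.one_eq_one]
  obtain ⟨α₀, hα₀, hα⟩ := IsogLib.exists_descent_of_geometricallyIrreducible σ A₀ B g
  exact ⟨α₀, hα₀, by rw [hα, hg]⟩

end Groth.Agent.AVRosati.ChowImage
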