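import Groth.Agent.AVRosati.QuasiSection
import Groth.Agent.AVRosati.FinQuot
import Groth.Agent.AVRosati.ChowImage
import Groth.Agent.H23.MaxAbelian

/-!
Factoring through surjective homomorphisms, and the connected-kernel part of a homomorphism.
-/

noncomputable section

set_option autoImplicit false
set_option linter.style.haveILetI false
set_option linter.unusedSectionVars false
set_option backward.isDefEq.respectTransparency false
set_option backward.isDefEq.respectTransparency.types false

universe u

open CategoryTheory CategoryTheory.Limits AlgebraicGeometry MonoidalCategory CartesianMonoidalCategory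
open scoped MonObj

namespace Groth.Agent.AVRosati.Factor

variable {k : Type u} [Field k]

/-- A homomorphism killing the kernel of a surjective homomorphism factors through it. -/
theorem exists_factor {A B C : Over (Spec (CommRingCat.of k))} [GrpObj A] [IsProper A.hom]
    [GeometricallyIntegral A.hom] [GrpObj B] [IsProper B.hom] [GeometricallyIntegral B.hom] [GrpObj C]
    [IsSeparated C.hom] (lam : A ⟶ B) [IsMonHom lam] [Surjective lam.left] (h : A ⟶ C) [IsMonHom h]
    (hkill : ∀ (T : Over (Spec (CommRingCat.of k))) (g : T ⟶ A), g ≫ lam = 1 → g ≫ h = 1) :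
    ∃ g : B ⟶ C, IsMonHom g ∧ lam ≫ g = h := by
  haveI : IsIntegral B.left := H23.MaxAbelian.isIntegral_of_geometricallyIntegral
  haveI : IsProper (lam.left ≫ B.hom) := by rw [Over.w]; infer_instance
  haveI : IsProper lam.left := IsProper.of_comp _ B.hom
  haveI : IsSchemeTheoreticallyDominant lam.left := IsSchemeTheoreticallyDominant.of_isDominant _
  haveI : Flat lam.left := (GrpSchLib.ImageFlat.flat_surjective_of_dominant lam).1
  haveI : EffectiveEpi lam.left := inferInstance
  have hdesc : ∀ {Z : Scheme.{u}} (a b : Z ⟶ A.left), a ≫ lam.left = b ≫ lam.left → a ≫ h.left = b ≫ h.left := by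
    intro Z a b hab
    have hbA : b ≫ A.hom = a ≫ A.hom := by rw [← Over.w lam, ← reassoc_of% hab]
    let a' : Over.mk (a ≫ A.hom) ⟶ A := Over.homMk a rfl
    let b' : Over.mk (a ≫ A.hom) ⟶ A := Over.homMk b hbA
    have h1 : (a' * b'⁻¹) ≫ lam = 1 := by
      rw [MonObj.mul_comp, GrpObj.inv_comp, show a' ≫ lam = b' ≫ lam from Over.OverMorphism.ext hab,
        mul_inv_cancel]
    have h2 := hkill _ _ h1
    rw [MonObj.mul_comp, GrpObj.inv_comp, mul_inv_eq_one] at h2
    exact congrArg CommaMorphism.left h2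
  let g : B ⟶ C := Over.homMk (EffectiveEpi.desc lam.left h.left hdesc) (by
    rw [← cancel_epi lam.left, EffectiveEpi.fac_assoc, Over.w h, Over.w lam])
  have hg : lam ≫ g = h := Over.OverMorphism.ext (EffectiveEpi.fac _ _ hdesc)
  refine ⟨g, GrpSchLib.RigidHom.isMonHom_of_one g ?_, hg⟩
  rw [← IsMonHom.one_hom lam, Category.assoc, hg, IsMonHom.one_hom h, MonObj.one_eq_one]

/-- A homomorphism is determined on a surjection. -/
theorem cancel_surjective {A B C : Over (Spec (CommRingCat.of k))} [IsReduced B.left] [IsSeparated C.hom]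
    (lam : A ⟶ B) [Surjective lam.left] {f g : B ⟶ C} (h : lam ≫ f = lam ≫ g) : f = g := by
  refine Over.OverMorphism.ext (ext_of_isDominant_of_isSeparated C.hom (by rw [Over.w, Over.w]) lam.left ?_)
  rw [← Over.comp_left, ← Over.comp_left, h]

/-- The set of the kernel. -/
theorem range_kernel {X Y F : Over (Spec (CommRingCat.of k))} [GrpObj Y] (φ : X ⟶ Y) (i : F ⟶ X)
    (h : IsPullback i (toUnit F) φ η[Y]) :
    Set.range i.left = φ.left ⁻¹' {η[Y].left (IsLocalRing.closedPoint k)} := by
  have hs : IsPullback i.left (toUnit F).left φ.left η[Y].left := h.map (Over.forget _)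
  have h1 : Set.range i.left = Set.range (pullback.fst φ.left η[Y].left) := by
    rw [← hs.isoPullback_hom_fst, Scheme.Hom.comp_base, TopCat.coe_comp]
    exact (Scheme.Hom.surjective hs.isoPullback.hom).range_comp _
  rw [h1, Scheme.Pullback.range_fst]
  congr 1
  ext z
  constructor
  · rintro ⟨t, rfl⟩
    exact congrArg η[Y].left (Subsingleton.elim (α := PrimeSpectrum k) t _)
  · rintro rfl
    exact ⟨_, rfl⟩

/-- A surjective homomorphism is a homomorphism with connected kernel followed by an isogeny. -/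
theorem exists_connected_factor {A B : Over (Spec (CommRingCat.of k))} [GrpObj A] [IsProper A.hom]
    [GeometricallyIntegral A.hom] [GrpObj B] [IsProper B.hom] [GeometricallyIntegral B.hom]
    (lam : A ⟶ B) [IsMonHom lam] [Surjective lam.left] :
    ∃ (Q : Over (Spec (CommRingCat.of k))) (_ : GrpObj Q) (α : A ⟶ Q) (ρ : Q ⟶ B),
      IsProper Q.hom ∧ GeometricallyIntegral Q.hom ∧ IsMonHom α ∧ Surjective α.left ∧ IsMonHom ρ ∧
      IsFinite ρ.left ∧ Surjective ρ.left ∧ α ≫ ρ = lam ∧
      _root_.IsConnected (α.left ⁻¹' {η[Q].left (IsLocalRing.closedPoint k)}) := by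
  haveI : IsCommMonObj A := isCommMonObj_of_isProper_of_geometricallyIntegral A
  haveI : IsCommMonObj B := isCommMonObj_of_isProper_of_geometricallyIntegral B
  obtain ⟨H, _, iH, Kab, _, j₀, u, n, C, _, c, e', hiH, hiHc, hH, hj₀, hj₀c, hKp, hKi, -, hu, hn, hju, hc,
    hcc, hCp, hCi, hcu, hsum, hes, hsur, hfin⟩ := QuasiSection.exists_complement lam
  haveI := hiH
  haveI := hiHc
  haveI := hj₀
  haveI := hj₀c
  haveI := hKp
  haveI := hKi
  haveI := hu
  haveI := hc
  haveI := hcc
  haveI := hCp
  haveI := hCi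
  haveI := hsur
  haveI := hfin
  haveI : IsCommMonObj Kab := isCommMonObj_of_isProper_of_geometricallyIntegral Kab
  haveI : IsCommMonObj C := isCommMonObj_of_isProper_of_geometricallyIntegral C
  haveI : IsIntegral A.left := H23.MaxAbelian.isIntegral_of_geometricallyIntegral
  haveI : IsIntegral Kab.left := H23.MaxAbelian.isIntegral_of_geometricallyIntegral
  obtain ⟨j, hj⟩ : ∃ j : Kab ⟶ A, j = j₀ ≫ iH := ⟨_, rfl⟩
  haveI : IsMonHom j := hj ▸ inferInstance
  haveI : IsClosedImmersion j.left := by rw [hj, Over.comp_left]; infer_instance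
  rw [← hj] at hju
  have hsum' : (u ≫ j) * (e' ≫ c) = 𝟙 A ^ n := by rw [hj]; exact hsum
  have hjl : j ≫ lam = 1 := by rw [hj, Category.assoc, IsogLib.kernel_comp lam hH, MonObj.comp_one]
  haveI := SubAV.mono_of_closed j
  haveI := SubAV.mono_of_closed c
  -- the intersection of the two subvarieties
  have hsq : IsPullback (pullback.fst c j) (pullback.snd c j) c j := IsPullback.of_hasPullback c j
  generalize pullback.fst c j = pF at hsq
  generalize pullback.snd c j = pK at hsq
  generalize pullback c j = F at pF pK hsq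
  have hsl : IsPullback pF.left pK.left c.left j.left := hsq.map (Over.forget _)
  haveI : IsClosedImmersion pF.left := MorphismProperty.of_isPullback hsl.flip ‹IsClosedImmersion j.left›
  haveI : IsClosedImmersion pK.left := MorphismProperty.of_isPullback hsl ‹IsClosedImmersion c.left›
  haveI := SubAV.mono_of_closed pF
  obtain ⟨_, hpF⟩ := IsogLib.exists_grpObj_of_mono pF
    ⟨hsq.lift η[C] η[Kab] (by rw [IsMonHom.one_hom c, IsMonHom.one_hom j]), hsq.lift_fst _ _ _⟩
    ⟨hsq.lift ((fst F F ≫ pF) * (snd F F ≫ pF)) ((fst F F ≫ pK) * (snd F F ≫ pK))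
      (by simp only [MonObj.mul_comp, Category.assoc, hsq.w]), hsq.lift_fst _ _ _⟩
    ⟨hsq.lift pF⁻¹ pK⁻¹ (by rw [GrpObj.inv_comp, GrpObj.inv_comp, hsq.w]), hsq.lift_fst _ _ _⟩
  haveI := hpF
  have hpKn : pK ≫ (𝟙 Kab ^ n : Kab ⟶ Kab) = 1 := by
    rw [← hju, ← Category.assoc, ← hsq.w, Category.assoc, hcu, MonObj.comp_one]
  haveI : IsFinite F.hom := by
    haveI := AVMulN.isFinite_pow (A := Kab) n hn
    haveI : IsFinite (pK ≫ (𝟙 Kab ^ n : Kab ⟶ Kab)).left := by rw [Over.comp_left]; infer_instance
    haveI : IsFinite (F.hom ≫ η[Kab].left) := by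
      have e : (pK ≫ (𝟙 Kab ^ n : Kab ⟶ Kab)).left = F.hom ≫ η[Kab].left := by rw [hpKn]; rfl
      rw [← e]; infer_instance
    haveI : IsClosedImmersion η[Kab].left := by
      haveI : IsClosedImmersion (η[Kab].left ≫ Kab.hom) := by
        rw [Over.w]
        exact inferInstanceAs (IsClosedImmersion (𝟙 (Spec (CommRingCat.of k))))
      exact IsClosedImmersion.of_comp η[Kab].left Kab.hom
    exact IsFinite.of_comp F.hom η[Kab].left
  obtain ⟨Q, hQG, q, hq, hqf, hqfl, hqs, hQp, hQi, hQ⟩ := FinQuot.exists_quotient pF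
  haveI := hq
  haveI := hqf
  haveI := hqs
  haveI := hQp
  haveI := hQi
  haveI : IsCommMonObj Q := isCommMonObj_of_isProper_of_geometricallyIntegral Q
  -- addition
  haveI : GeometricallyIntegral (Kab ⊗ C).hom := H23.MaxAbelian.geometricallyIntegral_tensor Kab C
  haveI : IsProper (Kab ⊗ C).hom := by rw [Over.tensorObj_hom]; infer_instance
  haveI : IsIntegral (Kab ⊗ C).left := H23.MaxAbelian.isIntegral_of_geometricallyIntegral
  obtain ⟨m, hm⟩ : ∃ m : Kab ⊗ C ⟶ A, m = (fst Kab C ≫ j) * (snd Kab C ≫ c) := ⟨_, rfl⟩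
  haveI : IsMonHom m := by
    refine GrpSchLib.RigidHom.isMonHom_of_one m ?_
    rw [hm, MonObj.comp_mul, IsMonHom.one_hom (fst Kab C ≫ j), IsMonHom.one_hom (snd Kab C ≫ c),
      MonObj.one_eq_one, _root_.mul_one]
  haveI : Surjective m.left := by
    have e : lift u e' ≫ m = (𝟙 A ^ n : A ⟶ A) := by
      rw [hm, MonObj.comp_mul, lift_fst_assoc, lift_snd_assoc, hsum']
    haveI : Surjective ((lift u e').left ≫ m.left) := by
      rw [← Over.comp_left, e]
      exact AVMulN.surjective_pow (A := A) n hn
    exact Surjective.of_comp (lift u e').left m.left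
  obtain ⟨α, hα, hαm⟩ := exists_factor m (snd Kab C ≫ q) (fun T g hg => by
    rw [hm, MonObj.comp_mul, ← Category.assoc, ← Category.assoc, mul_eq_one_iff_eq_inv] at hg
    have h1 : (g ≫ snd Kab C) ≫ c = (g ≫ fst Kab C)⁻¹ ≫ j := by
      rw [GrpObj.inv_comp, hg, inv_inv]
    rw [← Category.assoc, ← hsq.lift_fst _ _ h1, Category.assoc, IsogLib.kernel_comp q hQ, MonObj.comp_one])
  haveI := hα
  obtain ⟨ρ, hρ, hqρ⟩ := exists_factor q (c ≫ lam) (fun T g hg => by
    obtain ⟨l, hl⟩ := IsogLib.exists_kernel_lift q hQ g hg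
    rw [← hl, Category.assoc, ← Category.assoc pF, hsq.w, Category.assoc, hjl, MonObj.comp_one, MonObj.comp_one])
  haveI := hρ
  have hαρ : α ≫ ρ = lam := by
    refine cancel_surjective m ?_
    rw [← Category.assoc, hαm, Category.assoc, hqρ, hm, MonObj.mul_comp]
    simp only [Category.assoc, hjl, MonObj.comp_one, _root_.one_mul]
  haveI : Surjective α.left := by
    haveI : Surjective (snd Kab C).left := by
      refine ⟨fun y => ?_⟩
      refine ⟨(lift (1 : C ⟶ Kab) (𝟙 C)).left y, ?_⟩
      rw [← Scheme.Hom.comp_apply, ← Over.comp_left, lift_snd]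
      rfl
    haveI : Surjective (m.left ≫ α.left) := by
      rw [← Over.comp_left, hαm, Over.comp_left]; infer_instance
    exact Surjective.of_comp m.left α.left
  haveI : Surjective ρ.left := by
    haveI : Surjective (q.left ≫ ρ.left) := by rw [← Over.comp_left, hqρ]; infer_instance
    exact Surjective.of_comp q.left ρ.left
  haveI : IsFinite ρ.left := by
    haveI : IsProper (ρ.left ≫ B.hom) := by rw [Over.w]; infer_instance
    haveI : IsProper ρ.left := IsProper.of_comp _ B.hom
    haveI : LocallyQuasiFinite ρ.left := by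
      refine LocallyQuasiFinite.of_finite_preimage_singleton _ fun y => ?_
      refine ((Scheme.Hom.finite_preimage_singleton (c ≫ lam).left y).image q.left).subset fun z hz => ?_
      obtain ⟨x, rfl⟩ := Scheme.Hom.surjective q.left z
      refine ⟨x, ?_, rfl⟩
      rw [Set.mem_preimage, ← hqρ, Over.comp_left, Scheme.Hom.comp_apply]
      exact hz
    exact IsFinite.of_isProper_of_locallyQuasiFinite ρ.left
  refine ⟨Q, hQG, α, ρ, hQp, hQi, hα, inferInstance, hρ, inferInstance, inferInstance, hαρ, ?_⟩
  have hset : α.left ⁻¹' {η[Q].left (IsLocalRing.closedPoint k)} = Set.range j.left := by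
    refine Set.Subset.antisymm (fun x hx => ?_) ?_
    · obtain ⟨z, rfl⟩ := Scheme.Hom.surjective m.left x
      have h1 : (snd Kab C).left z ∈ Set.range pF.left := by
        rw [range_kernel q pF hQ, Set.mem_preimage, ← Scheme.Hom.comp_apply, ← Over.comp_left, ← hαm,
          Over.comp_left, Scheme.Hom.comp_apply]
        exact hx
      have h2 : z ∈ Set.range (Kab ◁ pF).left := by
        have e : (Kab ◁ pF).left = pullback.map Kab.hom F.hom Kab.hom C.hom (𝟙 _) pF.left (𝟙 _)
            (by rw [Category.comp_id, Category.id_comp]) (by rw [Category.comp_id, Over.w pF]) :=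
          Over.whiskerLeft_left pF
        rw [e]
        exact (Scheme.Pullback.range_map _ _ _ _ _ _ _ _ _).ge
          ⟨⟨(fst Kab C).left z, rfl⟩, h1⟩
      obtain ⟨w, rfl⟩ := h2
      have h3 : (Kab ◁ pF) ≫ m = (fst Kab F * (snd Kab F ≫ pK)) ≫ j := by
        rw [hm, MonObj.comp_mul, whiskerLeft_fst_assoc, whiskerLeft_snd_assoc, hsq.w, MonObj.mul_comp,
          Category.assoc]
      rw [← Scheme.Hom.comp_apply, ← Over.comp_left, h3, Over.comp_left, Scheme.Hom.comp_apply]
      exact ⟨_, rfl⟩
    · rintro _ ⟨x, rfl⟩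
      have h4 : j ≫ α = 1 := by
        have e : lift (𝟙 Kab) (1 : Kab ⟶ C) ≫ m = j := by
          rw [hm, MonObj.comp_mul, lift_fst_assoc, lift_snd_assoc, Category.id_comp, MonObj.one_comp,
            _root_.mul_one]
        rw [← e, Category.assoc, hαm, lift_snd_assoc, MonObj.one_comp]
      rw [Set.mem_preimage, Set.mem_singleton_iff, ← Scheme.Hom.comp_apply, ← Over.comp_left, h4, Hom.one_def,
        Over.comp_left, Scheme.Hom.comp_apply]
      exact congrArg η[Q].left (Subsingleton.elim (α := PrimeSpectrum k) _ _)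
  rw [hset]
  exact isConnected_range j.left.continuous

end Groth.Agent.AVRosati.Factor
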