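import Groth.Agent.AVRosati.Rel
import Groth.Agent.H23.PosInvSOS
import Groth.Agent.AVHomLib.TateIndep
import Mathlib.RingTheory.Flat.Basic
import Mathlib.RingTheory.TensorProduct.Basic

/-!
Positive symmetric endomorphisms are the sums of squares.
-/

noncomputable section

set_option linter.style.haveILetI false
set_option linter.unusedSectionVars false
set_option backward.isDefEq.respectTransparency false
set_option backward.isDefEq.respectTransparency.types false

universe u

open CategoryTheory CategoryTheory.Limits AlgebraicGeometry MonoidalCategory CartesianMonoidalCategory TopologicalSpace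
open scoped MonObj TensorProduct

namespace Groth.Agent.AVRosati

open H23 H23.CubeAb AVDegPoly

open scoped Groth.Agent.H23.PicMul

attribute [local instance] AVDegPoly.overHom

/-- An element on which a positive functional is nonnegative is a sum of squares in its algebra. -/
theorem sumSq_of_nonneg {R : Type*} [Ring R] [Algebra ℚ R] [Module.Finite ℚ R] (x : R) (σ : R →ₗ[ℚ] ℚ) (h0 : x ≠ 0)
    (hpos : ∀ y ∈ Algebra.adjoin ℚ ({x} : Set R), y ≠ 0 → 0 < σ (y * y))
    (hnn : ∀ y ∈ Algebra.adjoin ℚ ({x} : Set R), 0 ≤ σ (y * x * y)) :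
    ∃ (n : ℕ) (y : Fin n → R), (∀ i, y i ∈ Algebra.adjoin ℚ ({x} : Set R)) ∧ x = ∑ i, y i ^ 2 := by
  letI : CommRing (Algebra.adjoin ℚ ({x} : Set R)) :=
    { (inferInstance : Ring (Algebra.adjoin ℚ ({x} : Set R))) with
      mul_comm := fun a b => Subtype.ext (Algebra.commute_of_mem_adjoin_singleton_of_commute b.2
        (Algebra.commute_of_mem_adjoin_self a.2).symm) }
  letI : StarRing (Algebra.adjoin ℚ ({x} : Set R)) := starRingOfComm
  haveI : StarModule ℚ (Algebra.adjoin ℚ ({x} : Set R)) := ⟨fun _ _ => rfl⟩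
  haveI : Module.Finite ℚ (Algebra.adjoin ℚ ({x} : Set R)) :=
    Module.Finite.of_injective (Algebra.adjoin ℚ ({x} : Set R)).val.toLinearMap Subtype.val_injective
  obtain ⟨n, y, -, hy⟩ := H23.PosInv.exists_sq_sum (R := Algebra.adjoin ℚ ({x} : Set R)) (σ := σ.comp (Algebra.adjoin ℚ ({x} : Set R)).val.toLinearMap)
    (x := (⟨x, Algebra.self_mem_adjoin_singleton ℚ x⟩ : Algebra.adjoin ℚ ({x} : Set R)))
    (fun a ha => hpos a a.2 fun h => ha (Subtype.ext h)) rfl (fun h => h0 (congrArg Subtype.val h))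
    (fun a _ => hnn a a.2)
  exact ⟨n, fun i => y i, fun i => (y i).2, by simpa using congrArg Subtype.val hy⟩

variable {k : Type u} [Field k] {A : Over (Spec (CommRingCat.of k))}
  [GrpObj A] [IsProper A.hom] [GeometricallyIntegral A.hom] [IsCommMonObj A]

theorem finite_End0 : Module.Finite ℚ (EndAV.End0 A) := by
  haveI : Module.Finite ℤ (EndAV.End A) := AVHomLib.hom_free.1
  infer_instance

theorem toEnd0_injective : Function.Injective (EndAV.toEnd0 (A := A)) := by
  haveI : Module.Free ℤ (EndAV.End A) := AVHomLib.hom_free.2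
  exact Algebra.TensorProduct.includeRight_injective (R := ℤ) (A := ℚ) (B := EndAV.End A) Int.cast_injective

/-- Elements of `ℚ[α]` have multiples in `ℤ[α]`. -/
theorem exists_scaled {α : EndAV.End A} {y : EndAV.End0 A} (hy : y ∈ EndAV.QAdj α) :
    ∃ (N : ℕ) (p : Polynomial ℤ), 0 < N ∧ (N : ℚ) • y = EndAV.toEnd0 (Polynomial.aeval α p) := by
  induction hy using Algebra.adjoin_induction with
  | mem z hz =>
    rw [Set.mem_singleton_iff] at hz
    exact ⟨1, Polynomial.X, one_pos, by rw [Nat.cast_one, one_smul, Polynomial.aeval_X, hz]⟩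
  | algebraMap q =>
    refine ⟨q.den, Polynomial.C q.num, q.den_pos, ?_⟩
    rw [Polynomial.aeval_C, eq_intCast, map_intCast, Algebra.algebraMap_eq_smul_one, smul_smul, Rat.den_mul_eq_num,
      ← Algebra.algebraMap_eq_smul_one, map_intCast]
  | add a b _ _ ha hb =>
    obtain ⟨N, p, hN, hp⟩ := ha
    obtain ⟨M, q, hM, hq⟩ := hb
    refine ⟨N * M, (M : Polynomial ℤ) * p + (N : Polynomial ℤ) * q, Nat.mul_pos hN hM, ?_⟩
    simp only [map_add, map_mul, map_natCast, ← hp, ← hq, smul_add]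
    simp only [← nsmul_eq_mul, Nat.cast_smul_eq_nsmul ℚ, smul_smul, _root_.mul_comm N M]
  | mul a b _ _ ha hb =>
    obtain ⟨N, p, hN, hp⟩ := ha
    obtain ⟨M, q, hM, hq⟩ := hb
    exact ⟨N * M, p * q, Nat.mul_pos hN hM, by rw [map_mul, map_mul, ← hp, ← hq, smul_mul_smul_comm, Nat.cast_mul]⟩

variable {L : A.left.Modules} (hL : CohB1.IsAmple L) {g : ℕ} (hg : topologicalKrullDim A.left = g)

/-- The trace form on the rational endomorphism algebra. -/
def trForm0 : EndAV.End0 A →ₗ[ℚ] ℚ := LinearMap.liftBaseChange ℚ (trForm hL hg).toIntLinearMap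

theorem trForm0_toEnd0 (φ : EndAV.End A) : trForm0 hL hg (EndAV.toEnd0 φ) = trForm hL hg φ :=
  (LinearMap.liftBaseChange_tmul ℚ _ (1 : ℚ) φ).trans (one_smul ℚ _)

variable [IsAlgClosed k]

include hg in
/-- A positive symmetric endomorphism is a sum of squares. -/
theorem sumSq_of_positive (α : EndAV.End A) (hα : α ≠ 0) (hsym : IsSym (unitOf hL.1) α) (m : ℕ) (hm : 1 ≤ m)
    {M : A.left.Modules} (hM : PicF.IsInvertible M) (s : Coh.structureModule A.left ⟶ M) (hs : s ≠ 0)
    (hrel : ∀ u v : A ⟶ A, pair (unitOf hM) u v = pair (unitOf hL.1) u (v ≫ EndAV.End.toHom α) ^ m) :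
    ∃ (n : ℕ) (y : Fin n → EndAV.End0 A), (∀ i, y i ∈ EndAV.QAdj α) ∧ EndAV.toEnd0 α = ∑ i, y i ^ 2 := by
  haveI : IsIntegral A.left := GeometricallyIntegral.isIntegral_of_subsingleton A.hom
  haveI := finite_End0 (A := A)
  have hc := inv_unitOf hL.1
  have hg1 := one_le_dim hα hg
  refine sumSq_of_nonneg _ (trForm0 hL hg) ((map_ne_zero_iff _ toEnd0_injective).2 hα) (fun y hy hy0 => ?_)
    (fun y hy => ?_)
  · obtain ⟨N, p, hN, hp⟩ := exists_scaled hy
    have hN' : (0 : ℚ) < N := by exact_mod_cast hN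
    have hne : Polynomial.aeval α p ≠ 0 := fun h => by
      rw [h, map_zero, smul_eq_zero] at hp
      exact hp.elim hN'.ne' hy0
    have h : ((N : ℚ) * N) * trForm0 hL hg (y * y) = trForm hL hg (Polynomial.aeval α p * Polynomial.aeval α p) := by
      rw [← trForm0_toEnd0 hL hg, map_mul EndAV.toEnd0, ← hp, smul_mul_smul_comm, map_smul, smul_eq_mul]
    rw [trForm_mul_self hL hg (hsym.aeval hc p)] at h
    exact pos_of_mul_pos_right ((lin_pb_sym_pos hL hg hne).trans_eq h.symm) (mul_pos hN' hN').le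
  · obtain ⟨N, p, hN, hp⟩ := exists_scaled hy
    have hN' : (0 : ℚ) < N := by exact_mod_cast hN
    set φ := Polynomial.aeval α p
    have h : ((N : ℚ) * N) * trForm0 hL hg (y * EndAV.toEnd0 α * y) = trForm hL hg (φ * (α * φ)) := by
      rw [← trForm0_toEnd0 hL hg, map_mul EndAV.toEnd0, map_mul EndAV.toEnd0, ← hp, smul_mul_assoc, mul_smul_comm, mul_smul_comm, smul_smul,
        map_smul, smul_eq_mul, ← _root_.mul_assoc y]
    rw [trForm_mul_self hL hg (hsym.aeval hc p), EndAV.End.toHom_mul] at h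
    have h2 : 0 ≤ lin k g (pair (unitOf hL.1) (𝟙 A) (𝟙 A))
        (pair (unitOf hL.1) (EndAV.End.toHom φ) (EndAV.End.toHom φ ≫ EndAV.End.toHom α) ^ m) := by
      rw [← hrel]
      exact lin_pair_nonneg hL hg hM s hs hg1 φ
    rw [lin_pow k hg.le (inv_pair hc _ _) (inv_pair hc _ _), ← h] at h2
    have hm' : (0 : ℚ) < m := by exact_mod_cast hm
    exact nonneg_of_mul_nonneg_right (nonneg_of_mul_nonneg_right h2 hm') (mul_pos hN' hN')

/-- Products of pullbacks of one section. -/
theorem exists_prod_section {G₀ : A.left.Modules} (hG₀ : PicF.IsInvertible G₀) (s : Coh.structureModule A.left ⟶ G₀) :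
    ∀ {n : ℕ} (f : Fin n → (A ⟶ A)), ∃ (N : A.left.Modules) (t : Coh.structureModule A.left ⟶ N) (hN : PicF.IsInvertible N),
      unitOf hN = ∏ i, pb (f i) (unitOf hG₀) ∧
        ∀ x, (x ∈ CohB1.genLocus N t ↔ ∀ i, (f i).left x ∈ CohB1.genLocus G₀ s)
  | 0, f => ⟨_, 𝟙 _, InvX.isInvertible_structureModule, Units.ext (by
      rw [coe_unitOf, ← PicMul.one_def]
      simp), fun x => by simp [genLocus_eq_top_of_isIso]⟩
  | n + 1, f => by
    obtain ⟨N, t, hN, hcl, hx⟩ := exists_prod_section hG₀ s fun i : Fin n => f i.castSucc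
    obtain ⟨e⟩ := PicClLib.nonempty_pullback_structureModule (f (Fin.last n)).left
    have hP := PicClLib.isInvertible_pullback (f (Fin.last n)).left hG₀
    refine ⟨_, InvX.mulHom t (e.symm.hom ≫ (Scheme.Modules.pullback (f (Fin.last n)).left).map s),
      InvX.isInvertible_tensorMod hN hP, Units.ext ?_, fun x => ?_⟩
    · rw [coe_unitOf, PicMul.cl_tensor, Fin.prod_univ_castSucc, Units.val_mul, ← hcl]
      rfl
    · rw [InvX.genLocus_mulHom hN hP, InvX.genLocus_pullback _ hG₀ s e.symm, Opens.mem_inf, hx, Fin.forall_fin_succ']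
      rfl

include hL in
/-- Clearing the denominators of a sum of squares in `ℚ[α]`. -/
theorem exists_int_squares (α : EndAV.End A) (hsym : IsSym (unitOf hL.1) α) {n : ℕ}
    (y : Fin n → EndAV.End0 A) (hy : ∀ i, y i ∈ EndAV.QAdj α) (hsum : EndAV.toEnd0 α = ∑ i, y i ^ 2) :
    ∃ (P : ℕ) (β : Fin n → EndAV.End A), 0 < P ∧ (∀ i, IsSym (unitOf hL.1) (β i)) ∧
      ((P * P : ℕ) : EndAV.End A) * α = ∑ i, β i * β i := by
  have hc := inv_unitOf hL.1
  choose N p hN hp using fun i => exists_scaled (hy i)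
  let P : ℕ := ∏ i, N i
  choose d hd using fun i : Fin n => Finset.dvd_prod_of_mem N (Finset.mem_univ i)
  let β : Fin n → EndAV.End A := fun i => Polynomial.aeval α ((d i : Polynomial ℤ) * p i)
  have hβ : ∀ i, EndAV.toEnd0 (β i) = (P : ℚ) • y i := fun i => by
    simp only [β, map_mul, map_natCast, ← hp, P, hd i, Nat.cast_mul, _root_.mul_comm (N i : ℚ), mul_smul]
    rw [← nsmul_eq_mul, Nat.cast_smul_eq_nsmul ℚ (d i)]
  refine ⟨P, β, Finset.prod_pos fun i _ => hN i, fun i => hsym.aeval hc _, toEnd0_injective ?_⟩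
  simp only [map_mul, map_natCast, map_sum, hsum, hβ, smul_mul_smul_comm, ← Finset.smul_sum, pow_two]
  rw [← nsmul_eq_mul, ← Nat.cast_smul_eq_nsmul ℚ, Nat.cast_mul]

include hL in
/-- A nonzero sum of squares of elements of `ℚ[α]` is positive. -/
theorem positive_of_sumSq (α : EndAV.End A) (hα : α ≠ 0) (hsym : IsSym (unitOf hL.1) α) {n : ℕ}
    (y : Fin n → EndAV.End0 A) (hy : ∀ i, y i ∈ EndAV.QAdj α) (hsum : EndAV.toEnd0 α = ∑ i, y i ^ 2) :
    ∃ (m : ℕ) (M : A.left.Modules) (s : Coh.structureModule A.left ⟶ M) (hM : PicF.IsInvertible M),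
      1 ≤ m ∧ s ≠ 0 ∧ ¬ IsIso s ∧
      ∀ u v : A ⟶ A, pair (unitOf hM) u v = pair (unitOf hL.1) u (v ≫ EndAV.End.toHom α) ^ m := by
  haveI : IsIntegral A.left := GeometricallyIntegral.isIntegral_of_subsingleton A.hom
  haveI : JacobsonSpace ↥A.left := LocallyOfFiniteType.jacobsonSpace A.hom
  haveI := AmpleX.isSeparated_of_isAmple hL
  have hc := inv_unitOf hL.1
  obtain ⟨P, β, hP0, hβsym, hsumβ⟩ := exists_int_squares hL α hsym y hy hsum
  obtain ⟨i₀, hi₀⟩ : ∃ i, β i ≠ 0 := by
    by_contra! h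
    simp only [h, mul_zero, Finset.sum_const_zero] at hsumβ
    refine hα (toEnd0_injective ?_)
    have := congrArg EndAV.toEnd0 hsumβ
    rw [map_mul, map_natCast, map_zero, ← nsmul_eq_mul, ← Nat.cast_smul_eq_nsmul ℚ, smul_eq_zero] at this
    rw [map_zero]
    exact this.resolve_left (by exact_mod_cast (Nat.mul_pos hP0 hP0).ne')
  haveI : IsProper (EndAV.End.toHom (β i₀)).left := by
    haveI : IsProper ((EndAV.End.toHom (β i₀)).left ≫ A.hom) := by rw [Over.w]; infer_instance
    exact IsProper.of_comp _ A.hom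
  let o : A.left := (η[A]).left (IsLocalRing.closedPoint k)
  have ho : ∀ i, (EndAV.End.toHom (β i)).left o = o := fun i => by
    have h := congrArg (fun f : 𝟙_ (Over (Spec (CommRingCat.of k))) ⟶ A => f.left (IsLocalRing.closedPoint k))
      (IsMonHom.one_hom (EndAV.End.toHom (β i)))
    simpa only [Over.comp_left, Scheme.Hom.comp_apply] using h
  obtain ⟨x₁, hx₁, hne⟩ : ∃ x ∈ closedPoints A.left, (EndAV.End.toHom (β i₀)).left x ≠ o := by
    by_contra! h
    obtain ⟨x₀, hx₀⟩ : (closedPoints A.left).Nonempty := by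
      by_contra! h0
      have h1 := closure_closedPoints (X := A.left)
      rw [h0, closure_empty] at h1
      exact absurd (Set.mem_univ o) (h1 ▸ Set.notMem_empty o)
    have ho' : IsClosed ({o} : Set A.left) := by
      rw [← h x₀ hx₀, ← Set.image_singleton]
      exact (EndAV.End.toHom (β i₀)).left.isClosedMap _ hx₀
    refine hi₀ (EndAV.End.ext (AVHomLib.eq_one_of_range_subsingleton (EndAV.End.toHom (β i₀)) ?_))
    have hall : closure (closedPoints A.left) ⊆ (EndAV.End.toHom (β i₀)).left ⁻¹' {o} :=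
      closure_minimal (fun x hx => h x hx) (ho'.preimage (EndAV.End.toHom (β i₀)).left.continuous)
    rw [closure_closedPoints] at hall
    rintro _ ⟨a, rfl⟩ _ ⟨b, rfl⟩
    exact (hall (Set.mem_univ a)).trans (hall (Set.mem_univ b)).symm
  have hcl : IsClosed ({(EndAV.End.toHom (β i₀)).left x₁} : Set A.left) := by
    rw [← Set.image_singleton]
    exact (EndAV.End.toHom (β i₀)).left.isClosedMap _ hx₁
  obtain ⟨r, hr, s, hso, hle, -⟩ := AmpleX.exists_genLocus_le hL
    (U := ⟨({(EndAV.End.toHom (β i₀)).left x₁} : Set A.left)ᶜ, hcl.isOpen_compl⟩) (x := o) hne.symm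
  obtain ⟨M, t, hM, hMcl, hloc⟩ := exists_prod_section (InvX.isInvertible_tensorPow hL.1 r) s
    (fun i => EndAV.End.toHom (β i))
  have hot : o ∈ CohB1.genLocus M t := (hloc o).2 fun i => by rw [ho]; exact hso
  refine ⟨P * P * r, M, t, hM, Nat.mul_pos (Nat.mul_pos hP0 hP0) hr, fun h => ?_, fun h => ?_, fun u v => ?_⟩
  · rw [h, AVHomLib.genLocus_eq_bot_of_eq_zero hM] at hot
    exact hot
  · exact hle ((hloc x₁).1 (by rw [genLocus_eq_top_of_isIso]; trivial) i₀) rfl
  have hLr : unitOf (InvX.isInvertible_tensorPow hL.1 r) = unitOf hL.1 ^ r :=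
    Units.ext (PicMul.cl_tensorPow _ _)
  rw [hMcl, pair_class_prod]
  have hQ : ∀ z : A ⟶ A, ∀ f : Fin n → EndAV.End A,
      pair (unitOf hL.1) u (z ≫ EndAV.End.toHom (∑ i, f i)) = ∏ i, pair (unitOf hL.1) u (z ≫ EndAV.End.toHom (f i)) := by
    intro z f
    induction (Finset.univ : Finset (Fin n)) using Finset.induction_on with
    | empty => rw [Finset.sum_empty, Finset.prod_empty, EndAV.End.toHom_zero, MonObj.comp_one, pair_comm, pair_one_left hc]
    | insert a s ha ih =>
      rw [Finset.sum_insert ha, Finset.prod_insert ha, EndAV.End.toHom_add, MonObj.comp_mul, pair_comm, pair_mul_left hc,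
        pair_comm _ _ u, pair_comm _ _ u, ih]
  have h1 : pair (unitOf hL.1) u (v ≫ EndAV.End.toHom α) ^ (P * P) =
      ∏ i, pair (unitOf hL.1) u (v ≫ EndAV.End.toHom (β i * β i)) := by
    rw [← hQ, ← hsumβ, EndAV.End.toHom_mul, EndAV.End.toHom_natCast, MonObj.comp_pow, Category.comp_id,
      MonObj.comp_pow, pair_comm, pair_comm _ u, ← zpow_natCast (v ≫ EndAV.End.toHom α), pair_pow_left hc, zpow_natCast]
  rw [pow_mul, h1, ← Finset.prod_pow]
  refine Finset.prod_congr rfl fun i _ => ?_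
  rw [hLr, map_pow, pair_class_pow, pair_class_pb, EndAV.End.toHom_mul, ← Category.assoc]
  exact congrArg (· ^ r) ((hβsym i) u _).symm

end Groth.Agent.AVRosati
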