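import Groth.Agent.AVRosati.PointCount
import Groth.Agent.ZetaLib.PointsOfExt
import Groth.Agent.WeilLib.ExpSeries
import Groth.Agent.WeilLib.ZetaIdentity
import Mathlib.FieldTheory.Finite.Extension
import Mathlib.FieldTheory.Galois.Basic

/-!
The zeta function of an abelian variety over a finite field.
-/

noncomputable section

set_option linter.style.haveILetI false
set_option linter.unusedSectionVars false
set_option backward.isDefEq.respectTransparency false
set_option backward.isDefEq.respectTransparency.types false

universe u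

open CategoryTheory AlgebraicGeometry
open scoped Polynomial

namespace Groth.Agent.AVRosati

section Multiset

variable {R : Type*} [CommRing R]

theorem prod_one_sub_pow_eq_sum_powerset (S : Multiset R) (n : ℕ) :
    (S.map fun a => 1 - a ^ n).prod = (S.powerset.map fun I => (-1) ^ I.card * I.prod ^ n).sum := by
  induction S using Multiset.induction_on with
  | empty => simp
  | cons a S ih =>
    rw [Multiset.map_cons, Multiset.prod_cons, ih, Multiset.powerset_cons, Multiset.map_add, Multiset.sum_add,
      Multiset.map_map, sub_mul, one_mul, ← Multiset.sum_map_mul_left, sub_eq_add_neg, ← Multiset.sum_map_neg']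
    congr 2
    try rw [Multiset.map_map]
    refine Multiset.map_congr rfl fun I _ => ?_
    simp only [Function.comp_apply, Multiset.card_cons, Multiset.prod_cons]
    ring

theorem prod_one_sub_pow_eq_alternating (S : Multiset R) (n : ℕ) :
    (S.map fun a => 1 - a ^ n).prod =
      ∑ j ∈ Finset.range (S.card + 1), (-1) ^ j * ((S.powersetCard j).map fun I => I.prod ^ n).sum := by
  rw [prod_one_sub_pow_eq_sum_powerset]
  conv_lhs => rw [← Multiset.bind_powerset_len S, Multiset.map_bind, Multiset.sum_bind]
  refine congrArg Multiset.sum (Multiset.map_congr rfl fun j hj => ?_)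
  rw [← Multiset.sum_map_mul_left]
  exact congrArg Multiset.sum (Multiset.map_congr rfl fun I hI => by rw [(Multiset.mem_powersetCard.1 hI).2])

open PowerSeries in
theorem hasLogDeriv_prod_one_sub (T : Multiset R) :
    WeilLib.HasLogDeriv ((((T.map fun a => (1 : R[X]) - Polynomial.C a * Polynomial.X).prod : R[X]) : PowerSeries R))
      (- PowerSeries.mk fun m => (T.map fun a => a ^ (m + 1)).sum) := by
  induction T using Multiset.induction_on with
  | empty =>
    have h : (- PowerSeries.mk fun _ : ℕ => (0 : R)) = 0 := by ext; simp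
    simpa [h] using WeilLib.HasLogDeriv.one (R := R)
  | cons a T ih =>
    have h1 : WeilLib.HasLogDeriv (((1 : R[X]) - Polynomial.C a * Polynomial.X : R[X]) : PowerSeries R)
        (- PowerSeries.mk fun m => a ^ (m + 1)) := by
      rw [WeilLib.HasLogDeriv, PowerSeries.derivative_coe]
      ext m
      simp only [Polynomial.coe_sub, Polynomial.coe_one, Polynomial.coe_mul, Polynomial.coe_C, Polynomial.coe_X,
        sub_mul, one_mul, map_sub, mul_assoc, mul_neg, map_neg, coeff_mk, coeff_C_mul]
      rcases m with _ | m
      · simp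
      · simp [coeff_succ_X_mul, pow_succ']
    have h := h1.mul ih
    rw [Multiset.map_cons, Multiset.prod_cons, Polynomial.coe_mul]
    convert h using 1
    ext m
    simp
    ring

/-- The product over the `j`-element sub-multisets of the reciprocal linear factors. -/
def extPoly (S : Multiset R) (j : ℕ) : R[X] :=
  ((S.powersetCard j).map fun I => (1 : R[X]) - Polynomial.C I.prod * Polynomial.X).prod

theorem map_extPoly {R' : Type*} [CommRing R'] (f : R →+* R') (S : Multiset R) (j : ℕ) :
    (extPoly S j).map f = extPoly (S.map f) j := by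
  rw [extPoly, extPoly, Multiset.powersetCard_map, Multiset.map_map, Polynomial.map_multiset_prod, Multiset.map_map]
  refine congrArg Multiset.prod (Multiset.map_congr rfl fun I _ => ?_)
  simp [map_multiset_prod, Polynomial.map_multiset_prod, Multiset.map_map, Function.comp_def]

theorem hasLogDeriv_extPoly (S : Multiset R) (j : ℕ) :
    WeilLib.HasLogDeriv ((extPoly S j : R[X]) : PowerSeries R)
      (- PowerSeries.mk fun m => ((S.powersetCard j).map fun I => I.prod ^ (m + 1)).sum) := by
  have h := hasLogDeriv_prod_one_sub ((S.powersetCard j).map Multiset.prod)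
  simp only [Multiset.map_map] at h
  exact h

theorem coeff_zero_extPoly (S : Multiset R) (j : ℕ) : (extPoly S j).coeff 0 = 1 := by
  rw [extPoly, Polynomial.coeff_zero_eq_eval_zero, Polynomial.eval_multiset_prod, Multiset.map_map]
  refine Multiset.prod_eq_one fun x hx => ?_
  obtain ⟨I, -, rfl⟩ := Multiset.mem_map.1 hx
  simp

end Multiset

/-- The products over sub-multisets of the roots of an integral polynomial are integral. -/
theorem exists_int_extPoly (P : ℤ[X]) (hP : P.Monic) (j : ℕ) :
    ∃ Q : ℤ[X], Q.map (Int.castRingHom ℂ) = extPoly (P.map (Int.castRingHom ℂ)).roots j := by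
  set p := P.map (Int.castRingHom ℚ) with hp
  let L := p.SplittingField
  let e : L →+* ℂ := ((Polynomial.IsSplittingField.lift L p (IsAlgClosed.splits _) : L →ₐ[ℚ] ℂ) : L →+* ℂ)
  haveI : Normal ℚ L := Normal.of_isSplittingField p
  haveI : IsGalois ℚ L := ⟨⟩
  have hps : (p.map (algebraMap ℚ L)).Splits := Polynomial.IsSplittingField.splits L p
  set S := (p.map (algebraMap ℚ L)).roots with hS
  have hSC : S.map e = (P.map (Int.castRingHom ℂ)).roots := by
    rw [hS, ← Polynomial.Splits.roots_map hps e, Polynomial.map_map]
    change ((P.map (Int.castRingHom ℚ)).map (e.comp (algebraMap ℚ L))).roots = _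
    rw [Polynomial.map_map]
    congr 2
    exact RingHom.ext_int _ _
  have hint : ∀ x ∈ S, IsIntegral ℤ x := fun x hx => by
    refine ⟨P, hP, ?_⟩
    have h := (Polynomial.mem_roots'.1 hx).2
    change ((P.map (Int.castRingHom ℚ)).map (algebraMap ℚ L)).IsRoot x at h
    rw [Polynomial.map_map, Polynomial.IsRoot.def, Polynomial.eval_map] at h
    rw [← h]
    congr 1
  have hfix : ∀ σ : L ≃ₐ[ℚ] L, S.map σ = S := fun σ => by
    have h := Polynomial.Splits.roots_map hps (σ : L →+* L)
    rw [Polynomial.map_map, show ((σ : L →+* L)).comp (algebraMap ℚ L) = algebraMap ℚ L from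
      Subsingleton.elim _ _] at h
    exact h.symm
  let S' : Multiset (integralClosure ℤ L) := S.attach.map fun x => ⟨x.1, hint x.1 x.2⟩
  have hS' : S'.map (integralClosure ℤ L).val.toRingHom = S := by
    simp only [S', Multiset.map_map]
    exact Multiset.attach_map_val S
  have hcoef : ∀ n, ∃ z : ℤ, ((z : ℤ) : L) = (extPoly S j).coeff n := fun n => by
    have h1 : (extPoly S j).coeff n ∈ (⊥ : IntermediateField ℚ L) := by
      rw [IsGalois.mem_bot_iff_fixed]
      intro σ
      have h := congrArg (fun q => q.coeff n) (map_extPoly (σ : L →+* L) S j)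
      rw [show S.map (σ : L →+* L) = S from hfix σ] at h
      simpa [Polynomial.coeff_map] using h
    obtain ⟨q, hq⟩ := IntermediateField.mem_bot.1 h1
    have h2 : IsIntegral ℤ ((extPoly S j).coeff n) := by
      have h := congrArg (fun q => q.coeff n) (map_extPoly (integralClosure ℤ L).val.toRingHom S' j)
      rw [hS'] at h
      simp only [Polynomial.coeff_map] at h
      rw [← h]
      exact ((extPoly S' j).coeff n).2
    rw [← hq, isIntegral_algebraMap_iff (algebraMap ℚ L).injective, IsIntegrallyClosed.isIntegral_iff] at h2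
    obtain ⟨z, hz⟩ := h2
    exact ⟨z, by rw [← hq, ← hz]; simp⟩
  obtain ⟨Q, hQ⟩ := (Polynomial.mem_lifts _).1 ((Polynomial.lifts_iff_coeff_lifts (f := Int.castRingHom L) _).2
    fun n => by
      obtain ⟨z, hz⟩ := hcoef n
      exact ⟨z, hz⟩)
  refine ⟨Q, ?_⟩
  rw [← hSC, ← map_extPoly, ← hQ, Polynomial.map_map]
  congr 1
  exact RingHom.ext_int _ _

open CartesianMonoidalCategory MonoidalCategory in
/-- The zeta function of an abelian variety. -/
theorem zeta_eq {k : Type u} [Field k] [Finite k] (X : Over (Spec (CommRingCat.of k))) [IsProper X.hom] (S : Multiset ℂ)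
    (hpts : ∀ (K' : Type u) [Field K'] [Algebra k K'] [Finite K'],
      (Nat.card (Over.mk (Spec.map (CommRingCat.ofHom (algebraMap k K'))) ⟶ X) : ℂ) =
        (S.map fun a => 1 - a ^ Module.finrank k K').prod) :
    (Zeta.zetaFun X.hom).map (algebraMap ℚ ℂ) *
        ∏ j ∈ (Finset.range (S.card + 1)).filter (fun j => Even j), ((extPoly S j : ℂ[X]) : PowerSeries ℂ) =
      ∏ j ∈ (Finset.range (S.card + 1)).filter (fun j => Odd j), ((extPoly S j : ℂ[X]) : PowerSeries ℂ) := by
  have hN : ∀ n : ℕ, 0 < n → (Zeta.nPts X.hom n : ℂ) = (S.map fun a => 1 - a ^ n).prod := by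
    intro n hn
    haveI : NeZero n := ⟨hn.ne'⟩
    let E := ULift.{u} (FiniteField.Extension k (ringChar k) n)
    haveI : Finite E := Finite.of_equiv _ Equiv.ulift.symm
    have hE : Module.finrank k E = n := by
      rw [(ULift.algEquiv (R := k) (A := FiniteField.Extension k (ringChar k) n)).toLinearEquiv.finrank_eq,
        FiniteField.finrank_extension]
    have h := hpts E
    rw [hE] at h
    have h' := ZetaLib.pointCount_eq_nPts X.hom E
    rw [hE] at h'
    rw [← h, ← h']
    refine congrArg Nat.cast (Nat.card_congr
      { toFun := fun g => Over.homMk g.1 g.2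
        invFun := fun f => ⟨f.left, Over.w f⟩
        left_inv := fun g => rfl
        right_inv := fun f => rfl })
  have hZ : WeilLib.HasLogDeriv (Zeta.zetaFun X.hom) (PowerSeries.mk fun m => (Zeta.nPts X.hom (m + 1) : ℚ)) := by
    have h0 : PowerSeries.constantCoeff (Zeta.logZeta X.hom) = 0 := WeilLib.constantCoeff_mk_div _
    have h := WeilLib.hasLogDeriv_exp_subst h0
    rw [Zeta.logZeta, WeilLib.derivative_mk_div] at h
    exact h
  let φ : ℕ → PowerSeries ℂ := fun j => PowerSeries.mk fun m => ((S.powersetCard j).map fun I => I.prod ^ (m + 1)).sum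
  have hprod : ∀ s : Finset ℕ, WeilLib.HasLogDeriv (∏ j ∈ s, ((extPoly S j : ℂ[X]) : PowerSeries ℂ)) (∑ j ∈ s, - φ j) :=
    fun s => WeilLib.HasLogDeriv.prod s fun j _ => hasLogDeriv_extPoly S j
  have hZK := (hZ.map (algebraMap ℚ ℂ)).mul (hprod ((Finset.range (S.card + 1)).filter fun j => Even j))
  have hD : PowerSeries.map (algebraMap ℚ ℂ) (PowerSeries.mk fun m => (Zeta.nPts X.hom (m + 1) : ℚ)) +
      ∑ j ∈ (Finset.range (S.card + 1)).filter (fun j => Even j), - φ j =
      ∑ j ∈ (Finset.range (S.card + 1)).filter (fun j => Odd j), - φ j := by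
    ext m
    rw [map_add, map_sum, map_sum, PowerSeries.coeff_map, PowerSeries.coeff_mk, map_natCast, hN _ m.succ_pos,
      prod_one_sub_pow_eq_alternating, ← Finset.sum_filter_add_sum_filter_not _ (fun j => Even j),
      show (Finset.range (S.card + 1)).filter (fun j => ¬ Even j) = (Finset.range (S.card + 1)).filter (fun j => Odd j)
        from Finset.filter_congr fun j _ => Nat.not_even_iff_odd]
    simp only [map_neg, φ, PowerSeries.coeff_mk, Finset.sum_neg_distrib]
    rw [Finset.sum_congr rfl fun j hj => by rw [(Finset.mem_filter.1 hj).2.neg_one_pow, one_mul],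
      Finset.sum_congr (s₁ := (Finset.range (S.card + 1)).filter fun j => Odd j) rfl fun j hj => by
        rw [(Finset.mem_filter.1 hj).2.neg_one_pow, neg_one_mul], Finset.sum_neg_distrib]
    abel
  rw [hD] at hZK
  refine hZK.unique (hprod _) ?_
  have h0 : PowerSeries.constantCoeff (Zeta.logZeta X.hom) = 0 := WeilLib.constantCoeff_mk_div _
  simp only [map_mul, map_prod, Polynomial.constantCoeff_coe, coeff_zero_extPoly, Finset.prod_const_one, mul_one]
  rw [← PowerSeries.coeff_zero_eq_constantCoeff_apply, PowerSeries.coeff_map, PowerSeries.coeff_zero_eq_constantCoeff_apply]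
  exact (congrArg (algebraMap ℚ ℂ) (WeilLib.constantCoeff_exp_subst h0)).trans (map_one _)

end Groth.Agent.AVRosati
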