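import Groth.Agent.AVRosati.FrobRows
import Groth.Agent.AVHomLib.TateIndep
import Mathlib.LinearAlgebra.Charpoly.Basic
import Mathlib.RingTheory.Polynomial.UniqueFactorization
import Mathlib.FieldTheory.Minpoly.Field

/-!
The minimal and the characteristic polynomial of an endomorphism.
-/

noncomputable section

set_option linter.style.haveILetI false
set_option linter.unusedSectionVars false
set_option backward.isDefEq.respectTransparency false
set_option backward.isDefEq.respectTransparency.types false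

universe u

open CategoryTheory CategoryTheory.Limits AlgebraicGeometry MonoidalCategory CartesianMonoidalCategory TopologicalSpace
open scoped MonObj TensorProduct

namespace Groth.Agent.AVRosati

open AVDegPoly

variable {k : Type u} [Field k] {A : Over (Spec (CommRingCat.of k))}
  [GrpObj A] [IsCommMonObj A] [IsProper A.hom] [GeometricallyIntegral A.hom]

theorem tateRep_injective (Ω : Type u) [Field Ω] [Algebra k Ω] [IsAlgClosed Ω] (l : ℕ) [Fact l.Prime]
    (hl : (l : k) ≠ 0) [Module.Free ℤ_[l] (AbDual.TateMod A l (SGA7.pt (K := k) Ω))]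
    [Module.Finite ℤ_[l] (AbDual.TateMod A l (SGA7.pt (K := k) Ω))] : Function.Injective (EndAV.End.tateRep (A := A) l (SGA7.pt (K := k) Ω)) := by
  refine (injective_iff_map_eq_zero _).2 fun φ hφ => ?_
  by_contra hne
  haveI : Module.Free ℤ (EndAV.End A) := AVHomLib.hom_free.2
  have he : LinearIndependent ℤ (fun _ : Fin 1 => φ) := by
    rw [Fintype.linearIndependent_iff]
    intro c hc i
    rw [Fin.sum_univ_one, smul_eq_zero] at hc
    rw [Subsingleton.elim i 0]
    exact hc.resolve_right hne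
  exact (AVHomLib.tateMap_linearIndependent Ω l hl _ he).ne_zero 0 hφ

/-- An endomorphism is a root of its characteristic polynomial. -/
theorem aeval_charpoly_eq_zero {g : ℕ} (hg : topologicalKrullDim A.left = g) (φ : EndAV.End A)
    (Ω : Type u) [Field Ω] [Algebra k Ω] [IsAlgClosed Ω] (l : ℕ) [Fact l.Prime] (hl : (l : k) ≠ 0)
    [Module.Free ℤ_[l] (AbDual.TateMod A l (SGA7.pt (K := k) Ω))]
    [Module.Finite ℤ_[l] (AbDual.TateMod A l (SGA7.pt (K := k) Ω))] (P : Polynomial ℤ)
    (hP : (EndAV.End.tateRep l (SGA7.pt (K := k) Ω) φ).charpoly = P.map (Int.castRingHom ℤ_[l])) :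
    Polynomial.aeval φ P = 0 := by
  refine tateRep_injective Ω l hl ?_
  have h := LinearMap.aeval_self_charpoly (EndAV.End.tateRep l (SGA7.pt (K := k) Ω) φ)
  rw [hP, ← algebraMap_int_eq, Polynomial.aeval_map_algebraMap] at h
  rw [map_zero, Polynomial.aeval_def, Polynomial.hom_eval₂]
  refine Eq.trans ?_ h
  rw [Polynomial.aeval_def]
  congr 1
  exact RingHom.ext_int _ _

/-- With irreducible minimal polynomial, the characteristic polynomial is one of its powers. -/
theorem charpoly_eq_minpoly_pow {g : ℕ} (hg : topologicalKrullDim A.left = g) (φ : EndAV.End A)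
    (hirr : Irreducible (minpoly ℚ (EndAV.toEnd0 φ))) (P : Polynomial ℤ) (hPm : P.Monic) (hPd : P.natDegree = 2 * g)
    (hval : ∀ n : ℤ, (IsFinite (φ - (n : EndAV.End A)).toHom.left →
        ∀ a : A.left, ((φ - (n : EndAV.End A)).toHom.left.finrank a : ℤ) = P.eval n) ∧
      (¬ IsFinite (φ - (n : EndAV.End A)).toHom.left → P.eval n = 0)) :
    ∃ n : ℕ, P.map (Int.castRingHom ℚ) = minpoly ℚ (EndAV.toEnd0 φ) ^ n := by
  haveI := finite_End0 (A := A)
  obtain ⟨n, -, hn⟩ := (dvd_prime_pow hirr.prime _).1 (charpoly_dvd_minpoly_pow φ hg P hPm hPd hval)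
  exact ⟨n, Polynomial.eq_of_monic_of_associated (hPm.map _)
    ((minpoly.monic (Algebra.IsIntegral.isIntegral _)).pow n) hn⟩

variable {k : Type u} [Field k] [Finite k] {X : Over (Spec (CommRingCat.of k))}
  [GrpObj X] [IsCommMonObj X] [IsProper X.hom] [GeometricallyIntegral X.hom]
  (πX : X ⟶ X) [IsMonHom πX] (hπb : πX.left.base = 𝟙 _) (hπle : ∀ U : X.left.Opens, U ≤ πX.left ⁻¹ᵁ U)
  (hπapp : ∀ (U : X.left.Opens) (s : Γ(X.left, U)), (πX.left.appLE U U (hπle U)).hom s = s ^ Nat.card k)

/-- `ℚ[φ]` is a field exactly when the minimal polynomial is irreducible. -/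
theorem isField_qAdj_iff (φ : EndAV.End X) :
    IsField (EndAV.QAdj φ) ↔ Irreducible (minpoly ℚ (EndAV.toEnd0 φ)) := by
  haveI := finite_End0 (A := X)
  have hμ : IsIntegral ℚ (EndAV.toEnd0 φ) := Algebra.IsIntegral.isIntegral _
  have hQ : EndAV.QAdj φ = (Polynomial.aeval (EndAV.toEnd0 φ) : Polynomial ℚ →ₐ[ℚ] EndAV.End0 X).range :=
    Algebra.adjoin_singleton_eq_range_aeval ℚ _
  constructor
  · intro h
    haveI : IsDomain (EndAV.QAdj φ) := IsField.isDomain h
    have hmem : EndAV.toEnd0 φ ∈ EndAV.QAdj φ := Algebra.self_mem_adjoin_singleton ℚ _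
    have he := minpoly.algHom_eq (EndAV.QAdj φ).val (fun a b hab => Subtype.ext hab) (⟨EndAV.toEnd0 φ, hmem⟩ : EndAV.QAdj φ)
    rw [show (EndAV.QAdj φ).val ⟨EndAV.toEnd0 φ, hmem⟩ = EndAV.toEnd0 φ from rfl] at he
    rw [he]
    exact minpoly.irreducible (Algebra.IsIntegral.isIntegral _)
  · intro h
    rw [hQ]
    have hnt : (1 : EndAV.End0 X) ≠ 0 := fun h1 => by
      haveI : Subsingleton (EndAV.End0 X) := subsingleton_of_zero_eq_one h1.symm
      exact h.not_isUnit (by rw [minpoly.subsingleton]; exact isUnit_one)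
    refine ⟨⟨0, 1, fun h1 => hnt (congrArg Subtype.val h1).symm⟩, ?_, ?_⟩
    · rintro ⟨_, a, rfl⟩ ⟨_, b, rfl⟩
      refine Subtype.ext ?_
      show Polynomial.aeval _ a * Polynomial.aeval _ b = Polynomial.aeval _ b * Polynomial.aeval _ a
      rw [← map_mul, mul_comm a b, map_mul]
    · rintro ⟨_, a, rfl⟩ ha
      have hdvd : ¬ minpoly ℚ (EndAV.toEnd0 φ) ∣ a := fun hd =>
        ha (Subtype.ext ((minpoly.dvd_iff).1 hd))
      obtain ⟨u, v, huv⟩ := h.coprime_iff_not_dvd.2 hdvd
      refine ⟨⟨_, v, rfl⟩, Subtype.ext ?_⟩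
      have h2 := congrArg (Polynomial.aeval (EndAV.toEnd0 φ)) huv
      rw [map_add, map_mul, map_mul, minpoly.aeval, mul_zero, zero_add, map_one] at h2
      show Polynomial.aeval _ a * Polynomial.aeval _ v = 1
      rwa [← map_mul, mul_comm a v, map_mul]

end Groth.Agent.AVRosati
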