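import Mathlib.RingTheory.Polynomial.Resultant.Basic
import Mathlib.RingTheory.IntegralClosure.IntegrallyClosed
import Mathlib.Analysis.SpecialFunctions.Log.Basic
import Mathlib.Analysis.SpecialFunctions.Sqrt
import Mathlib.Analysis.Complex.Polynomial.Basic
import Mathlib.RingTheory.Polynomial.RationalRoot
import Mathlib.Analysis.Polynomial.Basic

/-!
Monic integral polynomials all whose roots have absolute value `√q`.
-/

noncomputable section

set_option autoImplicit false
set_option linter.unusedSectionVars false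

open Polynomial

namespace Groth.Agent.AVRosati

/-- A monic real polynomial without roots is positive at the origin. -/
theorem eval_zero_pos_of_no_root (R : ℝ[X]) (hR : R.Monic) (h : ∀ x, R.eval x ≠ 0) :
    0 < R.eval 0 ∧ Even R.natDegree := by
  have pos : ∀ S : ℝ[X], S.Monic → (∀ x, S.eval x ≠ 0) → 0 < S.eval 0 := fun S hS hS' => by
    rcases Nat.eq_zero_or_pos S.natDegree with hd | hd
    · rw [hS.natDegree_eq_zero.1 hd, eval_one]
      exact one_pos
    · refine lt_of_le_of_ne ?_ (hS' 0).symm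
      by_contra! hneg
      have htop := S.tendsto_atTop_of_leadingCoeff_nonneg (natDegree_pos_iff_degree_pos.1 hd) (hS.leadingCoeff.symm ▸ zero_le_one)
      obtain ⟨b, hb, hbpos⟩ := ((Filter.eventually_ge_atTop (0 : ℝ)).and (htop.eventually_gt_atTop 0)).exists
      obtain ⟨c, -, hc⟩ := intermediate_value_Icc hb S.continuous.continuousOn ⟨hneg.le, hbpos.le⟩
      exact hS' c hc
  refine ⟨pos R hR h, ?_⟩
  by_contra hodd
  rw [Nat.not_even_iff_odd] at hodd
  have hm : (-(R.comp (-X))).Monic := by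
    rw [Monic, leadingCoeff_neg, leadingCoeff_comp (by rw [natDegree_neg, natDegree_X]; exact one_ne_zero),
      leadingCoeff_neg, leadingCoeff_X, hR.leadingCoeff, one_mul, hodd.neg_one_pow, neg_neg]
  have := pos _ hm fun x hx => h (-x) (by simpa using hx)
  have h2 := pos R hR h
  simp only [eval_neg, eval_comp, eval_X, neg_zero] at this
  linarith

/-- The numerical hypotheses on a Weil polynomial. -/
structure IsWeilPoly (P : ℤ[X]) (q g : ℕ) : Prop where
  pos : 0 < q
  monic : P.Monic
  natDegree_eq : P.natDegree = 2 * g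
  norm_root : ∀ z ∈ (P.map (Int.castRingHom ℂ)).roots, ‖z‖ = Real.sqrt q
  eval_zero_pos : 0 < P.eval 0

variable {P : ℤ[X]} {q g : ℕ}

theorem IsWeilPoly.card_roots (hP : IsWeilPoly P q g) : (P.map (Int.castRingHom ℂ)).roots.card = 2 * g := by
  rw [← (IsAlgClosed.splits _).natDegree_eq_card_roots, hP.monic.natDegree_map, hP.natDegree_eq]

theorem IsWeilPoly.mul_conj (hP : IsWeilPoly P q g) {z : ℂ} (hz : z ∈ (P.map (Int.castRingHom ℂ)).roots) :
    z * starRingEnd ℂ z = q := by
  rw [Complex.mul_conj, Complex.normSq_eq_norm_sq, hP.norm_root z hz, Real.sq_sqrt (Nat.cast_nonneg q)]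
  simp

/-- The real roots have even multiplicity. -/
theorem IsWeilPoly.even_multiplicity (hP : IsWeilPoly P q g) :
    Even ((P.map (Int.castRingHom ℝ)).rootMultiplicity (Real.sqrt q)) ∧
      Even ((P.map (Int.castRingHom ℝ)).rootMultiplicity (-Real.sqrt q)) := by
  set s := Real.sqrt q with hs
  have hspos : 0 < s := Real.sqrt_pos.2 (by exact_mod_cast hP.pos)
  set p := P.map (Int.castRingHom ℝ) with hp
  have hp0 : p ≠ 0 := (hP.monic.map _).ne_zero
  have hroot : ∀ x : ℝ, p.eval x = 0 → x = s ∨ x = -s := fun x hx => by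
    have hmem : (x : ℂ) ∈ (P.map (Int.castRingHom ℂ)).roots := by
      rw [mem_roots (hP.monic.map _).ne_zero, IsRoot.def,
        show Int.castRingHom ℂ = Complex.ofRealHom.comp (Int.castRingHom ℝ) from RingHom.ext_int _ _, ← Polynomial.map_map]
      exact (eval_map_apply Complex.ofRealHom x).trans (by rw [hx, map_zero])
    have := hP.norm_root _ hmem
    rw [Complex.norm_real, Real.norm_eq_abs, ← hs] at this
    exact (abs_eq hspos.le).1 this
  set a := p.rootMultiplicity s
  set b := p.rootMultiplicity (-s)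
  obtain ⟨Q, hQ, hQs⟩ := exists_eq_pow_rootMultiplicity_mul_and_not_dvd p hp0 s
  have hQ0 : Q ≠ 0 := fun h => hp0 (by rw [hQ, h, mul_zero])
  obtain ⟨R, hR, hRs⟩ := exists_eq_pow_rootMultiplicity_mul_and_not_dvd Q hQ0 (-s)
  have hb : Q.rootMultiplicity (-s) = b := by
    have hne : (X - C s : ℝ[X]).eval (-s) ≠ 0 := by simp; linarith
    have h1 : ((X - C s : ℝ[X]) ^ a).rootMultiplicity (-s) = 0 :=
      rootMultiplicity_eq_zero (by rw [IsRoot.def, eval_pow]; exact pow_ne_zero _ hne)
    have h2 : b = ((X - C s : ℝ[X]) ^ a * Q).rootMultiplicity (-s) := congrArg (rootMultiplicity (-s)) hQ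
    rw [h2, rootMultiplicity_mul (hQ ▸ hp0), h1, zero_add]
  rw [hb] at hR
  have hpe : p = (X - C s) ^ a * ((X - C (-s)) ^ b * R) := by rw [hQ, hR]
  have hRm : R.Monic := by
    have hpm := hP.monic.map (Int.castRingHom ℝ)
    rw [← hp, hpe] at hpm
    exact ((monic_X_sub_C _).pow _).of_mul_monic_left (((monic_X_sub_C _).pow _).of_mul_monic_left hpm)
  have hno : ∀ x, R.eval x ≠ 0 := fun x hx => by
    rcases hroot x (by rw [hpe]; simp [hx]) with rfl | rfl
    · exact hQs (dvd_iff_isRoot.2 (by rw [IsRoot.def, hR, eval_mul, hx, mul_zero]))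
    · exact hRs (dvd_iff_isRoot.2 hx)
  obtain ⟨hR0, hReven⟩ := eval_zero_pos_of_no_root R hRm hno
  have hdeg : a + (b + R.natDegree) = 2 * g := by
    have h := congrArg natDegree hpe
    rw [((monic_X_sub_C s).pow a).natDegree_mul (((monic_X_sub_C (-s)).pow b).mul hRm),
      ((monic_X_sub_C (-s)).pow b).natDegree_mul hRm, natDegree_pow, natDegree_pow, natDegree_X_sub_C,
      natDegree_X_sub_C, hp, hP.monic.natDegree_map, hP.natDegree_eq, mul_one, mul_one] at h
    exact h.symm
  have haeven : Even a := by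
    by_contra hodd
    rw [Nat.not_even_iff_odd] at hodd
    have h0 : 0 < p.eval 0 := by
      rw [hp, ← Int.cast_zero (R := ℝ), eval_intCast_map, eq_intCast]
      exact_mod_cast hP.eval_zero_pos
    have h1 : (-s) ^ a * (s ^ b * R.eval 0) < 0 :=
      mul_neg_of_neg_of_pos (hodd.pow_neg (by linarith)) (mul_pos (pow_pos hspos b) hR0)
    rw [hpe] at h0
    simp at h0
    linarith
  refine ⟨haeven, ?_⟩
  have h2 : Even (a + (b + R.natDegree)) := hdeg ▸ even_two_mul g
  rw [Nat.even_add, Nat.even_add] at h2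
  exact ((h2.1 haeven)).2 hReven

/-- The bound on the real parts of the roots. -/
theorem IsWeilPoly.sum_re_le (hP : IsWeilPoly P q g) (ε : ℤ) (hε : ε = 1 ∨ ε = -1) :
    (ε : ℝ) * ((P.map (Int.castRingHom ℂ)).roots.map Complex.re).sum ≤ g * (⌊2 * Real.sqrt q⌋ : ℝ) ∧
      ((ε : ℝ) * ((P.map (Int.castRingHom ℂ)).roots.map Complex.re).sum = g * (⌊2 * Real.sqrt q⌋ : ℝ) →
        P = (X ^ 2 - C (ε * ⌊2 * Real.sqrt q⌋) * X + C (q : ℤ)) ^ g) := by
  set m := ⌊2 * Real.sqrt q⌋ with hm
  set PC := P.map (Int.castRingHom ℂ) with hPC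
  set S := PC.roots with hS
  set c : ℤ := m + 1
  let y : ℂ → ℝ := fun z => (c : ℝ) - (ε : ℝ) * (2 * z.re)
  have hε2 : (ε : ℝ) * ε = 1 := by rcases hε with rfl | rfl <;> simp
  have hypos : ∀ z ∈ S, 0 < y z := fun z hz => by
    have h1 := Complex.abs_re_le_norm z
    rw [hP.norm_root z hz] at h1
    have h2 := Int.lt_floor_add_one (2 * Real.sqrt q)
    have h3 : (ε : ℝ) * z.re ≤ |z.re| := by
      rcases hε with rfl | rfl
      · simp [le_abs_self]
      · simp [neg_le_abs]
    simp only [y, c, Int.cast_add, Int.cast_one]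
    rw [← hm] at h2
    linarith
  -- the product of the shifted traces is a positive integer
  let G : ℤ[X] := X ^ 2 - C (ε * c) * X + C (q : ℤ)
  have hGeval : ∀ z ∈ S, (G.map (Int.castRingHom ℂ)).eval z = (-(ε : ℂ)) * z * (y z : ℂ) := fun z hz => by
    have hzz := hP.mul_conj hz
    have hre : (2 : ℂ) * (z.re : ℂ) = z + starRingEnd ℂ z := by rw [Complex.add_conj]; push_cast; ring
    simp only [G, y]
    simp only [Polynomial.map_add, Polynomial.map_sub, Polynomial.map_mul, Polynomial.map_pow, Polynomial.map_X,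
      Polynomial.map_C, eval_add, eval_sub, eval_mul, eval_pow, eval_X, eval_C, Int.coe_castRingHom, Int.cast_mul,
      Int.cast_natCast, Complex.ofReal_sub, Complex.ofReal_mul, Complex.ofReal_intCast, Complex.ofReal_ofNat, hre, ← hzz]
    have he : (ε : ℂ) * ε = 1 := by rcases hε with rfl | rfl <;> simp
    linear_combination (-z * (z + starRingEnd ℂ z)) * he
  let N : ℂ := (S.map fun z => (y z : ℂ)).prod
  have hres : N * (P.eval 0 : ℤ) = (resultant P G P.natDegree G.natDegree : ℤ) := by
    have h1 : ((resultant P G P.natDegree G.natDegree : ℤ) : ℂ) =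
        resultant PC (G.map (Int.castRingHom ℂ)) PC.natDegree G.natDegree := by
      rw [hPC, hP.monic.natDegree_map, resultant_map_map, eq_intCast]
    rw [h1, resultant_eq_prod_eval _ _ _ (natDegree_map_le) (IsAlgClosed.splits _), hPC,
      (hP.monic.map _).leadingCoeff, one_pow, one_mul, ← hPC, ← hS, Multiset.map_congr rfl hGeval,
      Multiset.prod_map_mul, Multiset.prod_map_mul, Multiset.map_const', Multiset.prod_replicate, hP.card_roots,
      Multiset.map_id', (even_two_mul g).neg_pow, pow_mul, show (ε : ℂ) ^ 2 = 1 by rcases hε with rfl | rfl <;> simp,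
      one_pow, one_mul]
    have h2 := (IsAlgClosed.splits PC).coeff_zero_eq_prod_roots_of_monic (hP.monic.map _)
    rw [hPC, coeff_map, coeff_zero_eq_eval_zero, eq_intCast, hP.monic.natDegree_map, hP.natDegree_eq,
      (even_two_mul g).neg_one_pow, one_mul] at h2
    rw [h2, mul_comm]
  have hint : IsIntegral ℤ N := by
    refine IsIntegral.multiset_prod fun w hw => ?_
    obtain ⟨z, hz, rfl⟩ := Multiset.mem_map.1 hw
    have hzint : IsIntegral ℤ z := ⟨P, hP.monic, by
      have := (mem_roots'.1 hz).2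
      rw [hPC, IsRoot.def, eval_map] at this
      exact this⟩
    have hzc : IsIntegral ℤ (starRingEnd ℂ z) := hzint.map (starRingEnd ℂ).toIntAlgHom
    have hre : ((2 * z.re : ℝ) : ℂ) = z + starRingEnd ℂ z := by rw [Complex.add_conj]
    simp only [y, Complex.ofReal_sub, Complex.ofReal_mul (ε : ℝ), Complex.ofReal_intCast, hre]
    have hi : ∀ n : ℤ, IsIntegral ℤ (n : ℂ) := fun n => by simpa using isIntegral_algebraMap (R := ℤ) (A := ℂ) (x := n)
    exact (hi c).sub ((hi ε).mul (hzint.add hzc))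
  obtain ⟨n, hn⟩ : ∃ n : ℤ, (n : ℂ) = N := by
    have hne : ((P.eval 0 : ℤ) : ℂ) ≠ 0 := by exact_mod_cast hP.eval_zero_pos.ne'
    have hrat : N = algebraMap ℚ ℂ ((resultant P G P.natDegree G.natDegree : ℤ) / (P.eval 0 : ℤ)) := by
      rw [eq_ratCast, Rat.cast_div, Rat.cast_intCast, Rat.cast_intCast, ← hres, mul_div_assoc, div_self hne, mul_one]
    rw [hrat] at hint ⊢
    rw [isIntegral_algebraMap_iff (algebraMap ℚ ℂ).injective, IsIntegrallyClosed.isIntegral_iff] at hint
    obtain ⟨n, hn⟩ := hint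
    exact ⟨n, by rw [← hn]; simp⟩
  have hN : N = (((S.map y).prod : ℝ) : ℂ) := by
    rw [show (((S.map y).prod : ℝ) : ℂ) = Complex.ofRealHom (S.map y).prod from rfl, map_multiset_prod, Multiset.map_map]
    rfl
  have hn' : (n : ℝ) = (S.map y).prod := Complex.ofReal_injective (by push_cast; rw [hn, hN])
  have hprodpos : 0 < (S.map y).prod := Multiset.prod_pos fun w hw => by
    obtain ⟨z, hz, rfl⟩ := Multiset.mem_map.1 hw
    exact hypos z hz
  have hprod1 : 1 ≤ (S.map y).prod := by
    rw [← hn'] at hprodpos ⊢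
    exact_mod_cast (show (0 : ℤ) < n by exact_mod_cast hprodpos)
  have hlog : 0 ≤ (S.map fun z => Real.log (y z)).sum := by
    have h := Real.log_nonneg hprod1
    rw [Real.log_multiset_prod (fun w hw => by
      obtain ⟨z, hz, rfl⟩ := Multiset.mem_map.1 hw
      exact (hypos z hz).ne'), Multiset.map_map] at h
    exact h
  have hle : (S.map fun z => Real.log (y z)).sum ≤ (S.map fun z => y z - 1).sum :=
    Multiset.sum_map_le_sum_map _ _ fun z hz => Real.log_le_sub_one_of_pos (hypos z hz)
  have hsum : (S.map fun z => y z - 1).sum = 2 * (g * (m : ℝ) - (ε : ℝ) * (S.map Complex.re).sum) := by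
    simp only [y, c, Int.cast_add, Int.cast_one, Multiset.sum_map_sub, Multiset.map_const', Multiset.sum_replicate,
      Multiset.sum_map_mul_left, hS, hPC, hP.card_roots, nsmul_eq_mul]
    push_cast
    ring
  refine ⟨by linarith, fun heq => ?_⟩
  have hzero : ∀ z ∈ S, y z = 1 := by
    intro z hz
    by_contra hne
    have hlt : (S.map fun z => Real.log (y z)).sum < (S.map fun z => y z - 1).sum :=
      Multiset.sum_lt_sum (fun w hw => Real.log_le_sub_one_of_pos (hypos w hw))
        ⟨z, hz, Real.log_lt_sub_one_of_pos (hypos z hz) hne⟩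
    rw [hsum, heq] at hlt
    linarith
  let T : ℤ[X] := X ^ 2 - C (ε * m) * X + C (q : ℤ)
  have hTm : T.Monic := by
    simp only [T]
    monicity!
  have hsq : PC * PC = (T.map (Int.castRingHom ℂ) ^ g) * (T.map (Int.castRingHom ℂ) ^ g) := by
    have hsplit := (IsAlgClosed.splits PC).eq_prod_roots_of_monic (hP.monic.map _)
    have hconj : PC.map (starRingEnd ℂ) = PC := by
      rw [hPC, Polynomial.map_map]
      congr 1
      exact RingHom.ext_int _ _
    have h2 := hconj
    conv_lhs at h2 => rw [hsplit, Polynomial.map_multiset_prod, Multiset.map_map]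
    conv_lhs =>
      congr
      · rw [hsplit]
      · rw [← h2]
    rw [← Multiset.prod_map_mul, ← hS, show (S.map fun z => ((X - C z) * ((Polynomial.map (starRingEnd ℂ)) ∘ fun a => X - C a) z)) =
      S.map fun _ => T.map (Int.castRingHom ℂ) from Multiset.map_congr rfl fun z hz => ?_]
    · rw [Multiset.map_const', Multiset.prod_replicate, hS, hP.card_roots, ← pow_add, two_mul]
    have hy := hzero z hz
    simp only [y, c, Int.cast_add, Int.cast_one] at hy
    have hsumz : z + starRingEnd ℂ z = ((ε * m : ℤ) : ℂ) := by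
      rw [Complex.add_conj]
      have : 2 * z.re = (ε : ℝ) * m := by linear_combination (-(ε : ℝ)) * hy - 2 * z.re * hε2
      rw [this]
      push_cast
      ring
    have hC : (C z + C (starRingEnd ℂ z) : ℂ[X]) = C ((ε * m : ℤ) : ℂ) := by rw [← map_add, hsumz]
    have hC' : (C z * C (starRingEnd ℂ z) : ℂ[X]) = C (q : ℂ) := by rw [← map_mul, hP.mul_conj hz]
    simp only [T, Function.comp_apply, Polynomial.map_add, Polynomial.map_sub, Polynomial.map_mul, Polynomial.map_pow,
      Polynomial.map_X, Polynomial.map_C, Int.coe_castRingHom, Int.cast_natCast]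
    linear_combination (-X : ℂ[X]) * hC + hC'
  have hinj := Polynomial.map_injective (Int.castRingHom ℂ) Int.cast_injective
  rw [hPC, ← Polynomial.map_pow, ← Polynomial.map_mul, ← Polynomial.map_mul] at hsq
  rcases mul_self_eq_mul_self_iff.1 (hinj hsq) with h | h
  · exact h
  · exfalso
    have := congrArg leadingCoeff h
    rw [leadingCoeff_neg, (hTm.pow g).leadingCoeff, hP.monic.leadingCoeff] at this
    norm_num at this

theorem IsWeilPoly.nextCoeff_eq (hP : IsWeilPoly P q g) :
    (P.nextCoeff : ℝ) = -((P.map (Int.castRingHom ℂ)).roots.map Complex.re).sum := by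
  have h := (IsAlgClosed.splits (P.map (Int.castRingHom ℂ))).nextCoeff_eq_neg_sum_roots_of_monic (hP.monic.map _)
  rw [nextCoeff_map Int.cast_injective, eq_intCast] at h
  have h2 := congrArg Complex.re h
  simp only [Complex.intCast_re, Complex.neg_re] at h2
  rw [h2, show Complex.re (P.map (Int.castRingHom ℂ)).roots.sum = Complex.reAddGroupHom (P.map (Int.castRingHom ℂ)).roots.sum
    from rfl, map_multiset_sum]
  rfl

/-- The Hasse–Weil–Serre bound. -/
theorem IsWeilPoly.abs_nextCoeff_le (hP : IsWeilPoly P q g) :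
    |(P.nextCoeff : ℝ)| ≤ g * (⌊2 * Real.sqrt q⌋ : ℝ) := by
  have h1 := (hP.sum_re_le 1 (Or.inl rfl)).1
  have h2 := (hP.sum_re_le (-1) (Or.inr rfl)).1
  rw [hP.nextCoeff_eq, abs_le]
  push_cast at h1 h2
  constructor <;> linarith

theorem IsWeilPoly.abs_nextCoeff_eq_iff (hP : IsWeilPoly P q g) :
    |(P.nextCoeff : ℝ)| = g * (⌊2 * Real.sqrt q⌋ : ℝ) ↔
      (P = (X ^ 2 - C ⌊2 * Real.sqrt q⌋ * X + C (q : ℤ)) ^ g ∨
        P = (X ^ 2 + C ⌊2 * Real.sqrt q⌋ * X + C (q : ℤ)) ^ g) := by
  have hm0 : (0 : ℤ) ≤ ⌊2 * Real.sqrt q⌋ := Int.floor_nonneg.2 (by positivity)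
  have hg : (0 : ℝ) ≤ g * (⌊2 * Real.sqrt q⌋ : ℝ) := by
    have : (0 : ℝ) ≤ (⌊2 * Real.sqrt q⌋ : ℝ) := by exact_mod_cast hm0
    positivity
  constructor
  · intro h
    rw [hP.nextCoeff_eq, abs_eq hg] at h
    rcases h with h | h
    · right
      have := (hP.sum_re_le (-1) (Or.inr rfl)).2 (by push_cast; linarith)
      simpa [sub_eq_add_neg] using this
    · left
      have := (hP.sum_re_le 1 (Or.inl rfl)).2 (by push_cast; linarith)
      simpa using this
  · rintro (h | h) <;>
    · have hT : ∀ a : ℤ, (X ^ 2 + C a * X + C (q : ℤ) : ℤ[X]).Monic ∧ (X ^ 2 + C a * X + C (q : ℤ) : ℤ[X]).nextCoeff = a := by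
        intro a
        refine ⟨by monicity!, ?_⟩
        rw [nextCoeff_of_natDegree_pos] <;>
          rw [show (X ^ 2 + C a * X + C (q : ℤ) : ℤ[X]).natDegree = 2 by compute_degree!]
        · simp [coeff_X_pow, coeff_C]
        · norm_num
      rw [h]
      first
        | rw [show (X ^ 2 - C ⌊2 * Real.sqrt q⌋ * X + C (q : ℤ) : ℤ[X]) = X ^ 2 + C (-⌊2 * Real.sqrt q⌋) * X + C (q : ℤ) by
            rw [map_neg]; ring, (hT _).1.nextCoeff_pow, (hT _).2]
        | rw [(hT _).1.nextCoeff_pow, (hT _).2]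
      rw [nsmul_eq_mul]
      push_cast
      have hm0' : (0 : ℝ) ≤ ((⌊2 * Real.sqrt q⌋ : ℤ) : ℝ) := by exact_mod_cast hm0
      simp [abs_mul, abs_of_nonneg hm0']

end Groth.Agent.AVRosati
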