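import Groth.Agent.AVRosati.FrobPos
import Groth.Agent.AVRosati.WeilPoly
import Mathlib.LinearAlgebra.Semisimple
import Mathlib.RingTheory.Localization.Integral

/-!
Forms of the Riemann hypothesis used by the milestone rows.
-/

noncomputable section

set_option linter.style.haveILetI false
set_option linter.unusedSectionVars false
set_option backward.isDefEq.respectTransparency false
set_option backward.isDefEq.respectTransparency.types false

universe u

open CategoryTheory CategoryTheory.Limits AlgebraicGeometry MonoidalCategory CartesianMonoidalCategory TopologicalSpace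
open scoped MonObj TensorProduct

namespace Groth.Agent.AVRosati

open AVDegPoly

open scoped Groth.Agent.H23.PicMul

variable {k : Type u} [Field k] [Finite k] {X : Over (Spec (CommRingCat.of k))}
  [GrpObj X] [IsCommMonObj X] [IsProper X.hom] [GeometricallyIntegral X.hom]
  (πX : X ⟶ X) [IsMonHom πX] (hπb : πX.left.base = 𝟙 _) (hπle : ∀ U : X.left.Opens, U ≤ πX.left ⁻¹ᵁ U)
  (hπapp : ∀ (U : X.left.Opens) (s : Γ(X.left, U)), (πX.left.appLE U U (hπle U)).hom s = s ^ Nat.card k)

include hπb hπapp in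
/-- The characteristic polynomial of Frobenius is a Weil polynomial. -/
theorem isWeilPoly_of_charpoly (Ω : Type u) [Field Ω] [Algebra k Ω] [IsAlgClosed Ω] (l : ℕ) [Fact l.Prime]
    (hl : (l : k) ≠ 0) [Module.Free ℤ_[l] (AbDual.TateMod X l (SGA7.pt (K := k) Ω))]
    [Module.Finite ℤ_[l] (AbDual.TateMod X l (SGA7.pt (K := k) Ω))] {g : ℕ} (hg : topologicalKrullDim X.left = g)
    (P : Polynomial ℤ)
    (hP : (AbDual.tateMapₗ (l := l) (T := SGA7.pt (K := k) Ω) πX).charpoly = P.map (Int.castRingHom ℤ_[l])) :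
    IsWeilPoly P (Nat.card k) g := by
  obtain ⟨L, hL, hπ⟩ := exists_ample_frob πX hπb hπle (Nat.card k) hπapp
  obtain ⟨P₀, hm, hd, hval, hcp⟩ := exists_charpoly hg (EndAV.End.of πX)
  have hP₀ : P = P₀ := Polynomial.map_injective (Int.castRingHom ℤ_[l]) Int.cast_injective (hP.symm.trans (hcp Ω l hl))
  subst hP₀
  exact ⟨Nat.card_pos, hm, hd, norm_roots_charpoly (EndAV.End.of πX) Nat.card_pos hg hL hπ P hm hd hval,
    charpoly_eval_zero_pos (EndAV.End.of πX) Nat.card_pos hg hL hπ P hm hd hval⟩

include hπb hπapp in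
theorem frob_squarefree : IsSemisimpleRing (EndAV.QAdj (EndAV.End.of πX)) ∧
    Squarefree (minpoly ℚ (EndAV.toEnd0 (EndAV.End.of πX))) := by
  obtain ⟨L, hL, hπ⟩ := exists_ample_frob πX hπb hπle (Nat.card k) hπapp
  obtain ⟨g, hg⟩ := exists_dim (A := X)
  exact (frob_consequences (EndAV.End.of πX) Nat.card_pos hg hL hπ).2

/-- Endomorphisms with squarefree minimal polynomial act semisimply in `l`-adic representations. -/
theorem isSemisimple_tate {k : Type u} [Field k] {X : Over (Spec (CommRingCat.of k))}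
    [GrpObj X] [IsCommMonObj X] [IsProper X.hom] [GeometricallyIntegral X.hom] (φ : EndAV.End X)
    (hφ : Squarefree (minpoly ℚ (EndAV.toEnd0 φ))) (l : ℕ) [Fact l.Prime] (T : Over (Spec (CommRingCat.of k))) :
    Module.End.IsSemisimple (((EndAV.End.tateRep l T φ) : Module.End ℤ_[l] (AbDual.TateMod X l T)).baseChange ℚ_[l]) := by
  set m := minpoly ℚ (EndAV.toEnd0 φ)
  obtain ⟨b, hb, hp⟩ := IsLocalization.integerNormalization_spec (nonZeroDivisors ℤ) m
  set p := IsLocalization.integerNormalization (nonZeroDivisors ℤ) m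
  have hb0 : b ≠ 0 := nonZeroDivisors.ne_zero hb
  have h0 : Polynomial.aeval φ p = 0 := by
    refine toEnd0_injective ?_
    rw [map_zero, ← Polynomial.aeval_algHom_apply, ← Polynomial.aeval_map_algebraMap ℚ, hp, map_zsmul,
      minpoly.aeval, zsmul_zero]
  let Φ : EndAV.End X →+* Module.End ℚ_[l] (ℚ_[l] ⊗[ℤ_[l]] AbDual.TateMod X l T) :=
    (Module.End.baseChangeHom ℤ_[l] ℚ_[l] _).toRingHom.comp (EndAV.End.tateRep l T)
  have h1 : Polynomial.aeval (Φ φ) (p.map (algebraMap ℤ ℚ_[l])) = 0 := by
    rw [Polynomial.aeval_map_algebraMap]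
    have h := congrArg Φ h0
    rw [map_zero, Polynomial.aeval_def, Polynomial.hom_eval₂,
      show Φ.comp (algebraMap ℤ (EndAV.End X)) = algebraMap ℤ _ from RingHom.ext_int _ _] at h
    exact h
  rw [IsScalarTower.algebraMap_eq ℤ ℚ ℚ_[l], ← Polynomial.map_map, hp, ← Int.cast_smul_eq_zsmul ℚ,
    Polynomial.map_smul, map_smul] at h1
  replace h1 := (smul_eq_zero.1 h1).resolve_left ((map_ne_zero _).2 (Int.cast_ne_zero.2 hb0))
  exact Module.End.isSemisimple_of_squarefree_aeval_eq_zero
    (Polynomial.Separable.map (PerfectField.separable_iff_squarefree.2 hφ)).squarefree h1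

end Groth.Agent.AVRosati
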