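import Groth.Agent.AVRosati.FrobRows
import Groth.Agent.FrobIter.Basic
import Groth.Agent.WeilLib.PowMap
import Mathlib.RingTheory.Artinian.Ring
import Mathlib.AlgebraicGeometry.Group.Abelian

/-!
The number of points of an abelian variety with values in a finite field.
-/

noncomputable section

set_option linter.style.haveILetI false
set_option linter.unusedSectionVars false
set_option backward.isDefEq.respectTransparency false
set_option backward.isDefEq.respectTransparency.types false

universe u

open CategoryTheory CategoryTheory.Limits AlgebraicGeometry MonoidalCategory CartesianMonoidalCategory TopologicalSpace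
open scoped MonObj TensorProduct

namespace Groth.Agent.AVRosati

open AVDegPoly

/-- An algebra over a finite field whose elements are fixed by the `Q`th power map splits over the field with `Q` elements. -/
theorem natCard_algHom_of_fixed {k : Type u} [Field k] {C : Type u} [CommRing C] [Algebra k C] [Module.Finite k C]
    (K' : Type u) [Field K'] [Algebra k K'] [Finite K'] (h : ∀ c : C, c ^ Nat.card K' = c) :
    Nat.card (C →ₐ[k] K') = Module.finrank k C := by
  classical
  cases nonempty_fintype K'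
  set Q := Nat.card K' with hQdef
  have hQ1 : 1 < Q := Finite.one_lt_card
  let B := K' ⊗[k] C
  have hK : ∀ x : K', x ^ Q = x := fun x => by rw [hQdef, Nat.card_eq_fintype_card, FiniteField.pow_card]
  obtain ⟨p, n, hp, hn⟩ : ∃ p n : ℕ, p.Prime ∧ CharP K' p ∧ Q = p ^ n := by
    obtain ⟨p, hp⟩ := CharP.exists K'
    obtain ⟨n, hpp, hn⟩ := FiniteField.card K' p
    exact ⟨p, n, hpp, hp, by rw [hQdef, Nat.card_eq_fintype_card, hn]⟩
  obtain ⟨hchar, hn⟩ := hn
  haveI := hchar
  haveI : Fact p.Prime := ⟨hp⟩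
  have hfix : ∀ b : B, b ^ Q = b := by
    intro b
    rcases subsingleton_or_nontrivial B with hB | hB
    · exact Subsingleton.elim _ _
    haveI : CharP B p := charP_of_injective_algebraMap (algebraMap K' B).injective p
    induction b using TensorProduct.induction_on with
    | zero => exact zero_pow (by omega)
    | tmul a c => rw [Algebra.TensorProduct.tmul_pow, hK, h]
    | add a b ha hb => rw [hn, add_pow_char_pow, ← hn, ha, hb]
  haveI : Module.Finite K' B := inferInstance
  haveI : IsArtinianRing B := isArtinian_of_tower K' inferInstance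
  haveI : _root_.IsReduced B := ⟨fun b ⟨m, hm⟩ => by
    have hit : ∀ j, b ^ Q ^ j = b := fun j => by
      induction j with
      | zero => simp
      | succ j ih => rw [pow_succ, pow_mul, ih, hfix]
    rw [← hit m]
    exact pow_eq_zero_of_le (Nat.lt_pow_self hQ1).le hm⟩
  haveI : Fintype (MaximalSpectrum B) := Fintype.ofFinite _
  have hbij : ∀ I : MaximalSpectrum B, Function.Bijective (algebraMap K' (B ⧸ I.asIdeal)) := by
    intro I
    haveI := I.isMaximal
    letI := Ideal.Quotient.field I.asIdeal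
    refine ⟨(algebraMap K' (B ⧸ I.asIdeal)).injective, fun y => ?_⟩
    have hy : y ^ Q = y := by
      obtain ⟨b, rfl⟩ := Ideal.Quotient.mk_surjective y
      rw [← map_pow, hfix]
    let P : Polynomial (B ⧸ I.asIdeal) := Polynomial.X ^ Q - Polynomial.X
    have hP : P ≠ 0 := FiniteField.X_pow_card_sub_X_ne_zero _ hQ1
    have hmem : ∀ z : B ⧸ I.asIdeal, z ^ Q = z → z ∈ P.roots.toFinset := fun z hz => by
      rw [Multiset.mem_toFinset, Polynomial.mem_roots hP, Polynomial.IsRoot.def]
      simp [P, hz]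
    have hsub : Finset.univ.image (algebraMap K' (B ⧸ I.asIdeal)) = P.roots.toFinset := by
      refine Finset.eq_of_subset_of_card_le ?_ ?_
      · intro z hz
        obtain ⟨x, -, rfl⟩ := Finset.mem_image.1 hz
        exact hmem _ (by rw [← map_pow, hK])
      · rw [Finset.card_image_of_injective _ (algebraMap K' (B ⧸ I.asIdeal)).injective, Finset.card_univ]
        refine (Multiset.toFinset_card_le _).trans ((Polynomial.card_roots' P).trans ?_)
        rw [FiniteField.X_pow_card_sub_X_natDegree_eq _ hQ1, hQdef, Nat.card_eq_fintype_card]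
    obtain ⟨x, -, hx⟩ := Finset.mem_image.1 (hsub ▸ hmem y hy)
    exact ⟨x, hx⟩
  have hker : Nat.card (B →ₐ[K'] K') = Nat.card (MaximalSpectrum B) := by
    refine Nat.card_congr (Equiv.ofBijective (fun f => ⟨RingHom.ker f.toRingHom,
      RingHom.ker_isMaximal_of_surjective _ (fun x => ⟨algebraMap K' B x, f.commutes x⟩)⟩) ⟨?_, ?_⟩)
    · intro f g hfg
      have hfg' : RingHom.ker f.toRingHom = RingHom.ker g.toRingHom := congrArg MaximalSpectrum.asIdeal hfg
      refine AlgHom.ext fun b => ?_
      have hb : b - algebraMap K' B (f b) ∈ RingHom.ker g.toRingHom := by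
        rw [← hfg', RingHom.mem_ker]
        simp
      rw [RingHom.mem_ker] at hb
      simp at hb
      rw [eq_comm, ← sub_eq_zero, hb]
    · intro I
      refine ⟨((AlgEquiv.ofBijective (Algebra.ofId K' (B ⧸ I.asIdeal)) (hbij I)).symm.toAlgHom).comp
        (Ideal.Quotient.mkₐ K' I.asIdeal), MaximalSpectrum.ext (Ideal.ext fun b => ?_)⟩
      simp [RingHom.mem_ker, Ideal.Quotient.eq_zero_iff_mem]
  have hdim : Module.finrank K' B = Nat.card (MaximalSpectrum B) := by
    rw [((IsArtinianRing.equivPi B).restrictScalars K').toLinearEquiv.finrank_eq,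
      Module.finrank_pi_fintype, Nat.card_eq_fintype_card, Finset.sum_congr rfl fun I _ =>
        ((AlgEquiv.ofBijective (Algebra.ofId K' (B ⧸ I.asIdeal)) (hbij I)).toLinearEquiv.finrank_eq).symm]
    simp
  rw [Nat.card_congr (Algebra.TensorProduct.liftEquivRight k K' C K').symm.symm, hker, ← hdim,
    Module.finrank_baseChange]

variable {k : Type u} [Field k] [Finite k]

instance factPrime_ringChar : Fact (ringChar k).Prime :=
  ⟨CharP.char_is_prime k _⟩

variable (k) in
theorem exists_card_eq : ∃ e : ℕ, 0 < e ∧ Nat.card k = ringChar k ^ e := by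
  cases nonempty_fintype k
  obtain ⟨n, -, hn⟩ := FiniteField.card k (ringChar k)
  exact ⟨n, n.pos, by rw [Nat.card_eq_fintype_card, hn]⟩

/-- The `n`th iterate of the `#k`-power map, as a morphism over `k`. -/
theorem exists_frob : ∃ F : ∀ (X : Over (Spec (CommRingCat.of k))), ℕ → (X ⟶ X),
    (∀ X n, WeilLib.IsPowMap (F X n).left (Nat.card k ^ n)) ∧ (∀ X, F X 0 = 𝟙 X) ∧
      (∀ X n, F X (n + 1) = F X n ≫ F X 1) ∧
      ∀ (X Y : Over (Spec (CommRingCat.of k))) (f : Y ⟶ X) n, F Y n ≫ f = f ≫ F X n := by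
  obtain ⟨e, he, hq⟩ := exists_card_eq k
  haveI hch : ∀ X : Over (Spec (CommRingCat.of k)), FrobSch.IsCharP X.left (ringChar k) :=
    fun X => FrobSch.IsCharP.of_hom X.hom _
  have hpow : ∀ (X : Scheme.{u}) [FrobSch.IsCharP X (ringChar k)] (N : ℕ),
      WeilLib.IsPowMap (FrobIter.iter (ringChar k) X N) (ringChar k ^ N) := by
    intro X _ N
    induction N with
    | zero => rw [pow_zero]; exact WeilLib.isPowMap_id
    | succ N ih =>
      rw [pow_succ]
      refine ih.comp ⟨fun x => rfl, fun U h s => ?_⟩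
      show (X.presheaf.map (homOfLE h).op).hom ((FrobSch.frob X (ringChar k)).app U s) = _
      rw [FrobSch.frob_app]
      exact congrArg (fun m => CommRingCat.Hom.hom m (s ^ ringChar k)) (X.presheaf.map_id (Opposite.op U))
  have hS : ∀ n : ℕ, FrobIter.iter (ringChar k) (Spec (CommRingCat.of k)) (e * n) = 𝟙 _ := by
    intro n
    refine ext_of_isAffine (CommRingCat.hom_ext (RingHom.ext fun s => ?_))
    have h := (hpow (Spec (CommRingCat.of k)) (e * n)).app ⊤ le_top s
    rw [show (FrobIter.iter (ringChar k) (Spec (CommRingCat.of k)) (e * n)).appTop =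
      (FrobIter.iter (ringChar k) (Spec (CommRingCat.of k)) (e * n)).appLE ⊤ ⊤ le_top from Scheme.Hom.app_eq_appLE _]
    refine h.trans ?_
    obtain ⟨c, rfl⟩ := (Scheme.ΓSpecIso (CommRingCat.of k)).commRingCatIsoToRingEquiv.symm.surjective s
    rw [← map_pow, pow_mul, ← hq]
    cases nonempty_fintype k
    rw [Nat.card_eq_fintype_card, FiniteField.pow_card_pow]
    simp
  refine ⟨fun X n => Over.homMk (FrobIter.iter (ringChar k) X.left (e * n)) ?_, fun X n => ?_, fun X => ?_,
    fun X n => ?_, fun X Y f n => ?_⟩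
  · rw [FrobIter.iter_comp, hS, Category.comp_id]
  · rw [hq, ← pow_mul]
    exact hpow X.left (e * n)
  · exact Over.OverMorphism.ext rfl
  · refine Over.OverMorphism.ext ?_
    simp only [Over.comp_left, Over.homMk_left, FrobIter.iter_eq, _root_.mul_one, Nat.mul_succ, pow_add]
    rw [← pow_mul_comm]
    rfl
  · exact Over.OverMorphism.ext (FrobIter.iter_comp f.left _)

open scoped Groth.Agent.H23.PicMul in
/-- Points with values in a finite field are the points fixed by a power of Frobenius. -/
theorem natCard_points {A : Over (Spec (CommRingCat.of k))} [GrpObj A] [IsProper A.hom] (πn : A ⟶ A) (m : ℕ)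
    (F : ∀ (X : Over (Spec (CommRingCat.of k))), ℕ → (X ⟶ X))
    (hF : ∀ X n, WeilLib.IsPowMap (F X n).left (Nat.card k ^ n))
    (hnat : ∀ (X Y : Over (Spec (CommRingCat.of k))) (f : Y ⟶ X) n, F Y n ≫ f = f ≫ F X n)
    (hπn : πn = F A m) [IsFinite (πn / 𝟙 A).left] [Flat (πn / 𝟙 A).left] [LocallyOfFinitePresentation (πn / 𝟙 A).left]
    (K' : Type u) [Field K'] [Algebra k K'] [Finite K'] (hm : Module.finrank k K' = m) :
    Nat.card (Over.mk (Spec.map (CommRingCat.ofHom (algebraMap k K'))) ⟶ A) =
      (πn / 𝟙 A).left.finrank ((η[A]).left (IsLocalRing.closedPoint k)) := by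
  haveI : IsSeparated A.hom := inferInstance
  set ψ := πn / 𝟙 A with hψ
  let N : Over (Spec (CommRingCat.of k)) := Over.mk (pullback.fst (η[A]).left ψ.left)
  have hw : pullback.snd (η[A]).left ψ.left ≫ A.hom = pullback.fst (η[A]).left ψ.left := by
    rw [← Over.w ψ, ← pullback.condition_assoc, Over.w (η[A])]
    exact Category.comp_id _
  let i : N ⟶ A := Over.homMk (pullback.snd (η[A]).left ψ.left) hw
  have hi : i ≫ ψ = 1 := by
    refine Over.OverMorphism.ext ?_
    show pullback.snd (η[A]).left ψ.left ≫ ψ.left = (toUnit N).left ≫ (η[A]).left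
    rw [← pullback.condition]
    rfl
  have hiπ : i ≫ πn = i := by
    rw [hψ, GrpObj.comp_div, Category.comp_id] at hi
    exact div_eq_one.1 hi
  have hFN : F N m = 𝟙 N := by
    refine Over.OverMorphism.ext (pullback.hom_ext ?_ ?_)
    · rw [Over.id_left, Category.id_comp]
      exact Over.w (F N m)
    · rw [Over.id_left, Category.id_comp]
      exact congrArg CommaMorphism.left ((hnat A N i m).trans (hπn ▸ hiπ))
  set T : Over (Spec (CommRingCat.of k)) := Over.mk (Spec.map (CommRingCat.ofHom (algebraMap k K')))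
  haveI : Module.Finite k K' := Module.Finite.of_finite
  have hQ : Nat.card K' = Nat.card k ^ m := by rw [Module.natCard_eq_pow_finrank (K := k) (V := K'), hm]
  haveI : IsAffine T.left := inferInstanceAs (IsAffine (Spec (CommRingCat.of K')))
  have hFT : F T m = 𝟙 T := by
    refine Over.OverMorphism.ext (ext_of_isAffine (CommRingCat.hom_ext (RingHom.ext fun s => ?_)))
    rw [show (F T m).left.appTop = (F T m).left.appLE ⊤ ⊤ le_top from Scheme.Hom.app_eq_appLE _]
    refine ((hF T m).app ⊤ le_top s).trans ?_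
    show s ^ _ = s
    obtain ⟨c, rfl⟩ := (Scheme.ΓSpecIso (CommRingCat.of K')).commRingCatIsoToRingEquiv.symm.surjective s
    cases nonempty_fintype K'
    refine (map_pow (Scheme.ΓSpecIso (CommRingCat.of K')).commRingCatIsoToRingEquiv.symm c _).symm.trans ?_
    rw [← hQ, Nat.card_eq_fintype_card, FiniteField.pow_card]
  have hfix : ∀ a : T ⟶ A, a ≫ ψ = 1 := fun a => by
    rw [hψ, GrpObj.comp_div, Category.comp_id, hπn, ← hnat A T a m, hFT, Category.id_comp, div_self']
  haveI : IsAffine (𝟙_ (Over (Spec (CommRingCat.of k)))).left := inferInstanceAs (IsAffine (Spec (CommRingCat.of k)))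
  let q := pullback.fst (η[A]).left ψ.left
  haveI : IsFinite q := MorphismProperty.pullback_fst (P := @IsFinite) _ _ inferInstance
  haveI : IsAffine (pullback (η[A]).left ψ.left) := isAffine_of_isAffineHom q
  let C := Γ(pullback (η[A]).left ψ.left, ⊤)
  obtain ⟨φ, hφ⟩ := Spec.map_surjective ((pullback (η[A]).left ψ.left).isoSpec.inv ≫ q)
  letI : Algebra k C := φ.hom.toAlgebra
  have h1 : IsFinite (Spec.map φ) := by rw [hφ]; infer_instance
  haveI : Module.Finite k C := by rw [IsFinite.SpecMap_iff] at h1; exact h1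
  have hq : q = (pullback (η[A]).left ψ.left).isoSpec.hom ≫ Spec.map (CommRingCat.ofHom (algebraMap k C)) := by
    rw [show CommRingCat.ofHom (algebraMap k C) = φ from rfl, hφ, Iso.hom_inv_id_assoc]
  have hC : ∀ c : C, c ^ Nat.card K' = c := fun c => by
    rw [hQ, ← (hF N m).app ⊤ le_top c, hFN]
    exact (WeilLib.isPowMap_id.app ⊤ le_top c).trans (pow_one c)
  haveI : IsFinite (Spec.map (CommRingCat.ofHom (algebraMap k C))) := h1
  haveI : Flat (Spec.map (CommRingCat.ofHom (algebraMap k C))) := by
    rw [Flat.SpecMap_iff]; exact RingHom.flat_algebraMap_iff.2 inferInstance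
  have hrk : Scheme.Hom.finrank q (IsLocalRing.closedPoint k) = Module.finrank k C := by
    rw [hq, Scheme.Hom.finrank_comp_left_of_isIso, Scheme.Hom.finrank_SpecMap_algebraMap,
      Module.rankAtStalk_eq_finrank_of_free]
    rfl
  have hpb : Scheme.Hom.finrank q (IsLocalRing.closedPoint k) =
      ψ.left.finrank ((η[A]).left (IsLocalRing.closedPoint k)) := Scheme.Hom.finrank_pullback_fst _ _ _
  rw [← hpb, hrk, ← natCard_algHom_of_fixed K' hC]
  symm
  let e : (C →ₐ[k] K') → (T ⟶ A) := fun f => Over.homMk (Spec.map (CommRingCat.ofHom f.toRingHom) ≫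
    (pullback (η[A]).left ψ.left).isoSpec.inv ≫ pullback.snd (η[A]).left ψ.left) (by
      rw [Category.assoc, Category.assoc, hw]
      show _ ≫ _ ≫ q = _
      rw [hq, Iso.inv_hom_id_assoc, ← Spec.map_comp]
      exact congrArg Spec.map (CommRingCat.hom_ext (RingHom.ext f.commutes)))
  refine Nat.card_congr (Equiv.ofBijective e ⟨fun f g h => ?_, fun a => ?_⟩)
  · have h' := congrArg CommaMorphism.left h
    haveI : Mono ((η[A]).left ≫ A.hom) := by
      rw [Over.w (η[A])]
      exact inferInstanceAs (Mono (𝟙 (Spec (CommRingCat.of k))))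
    haveI : Mono (η[A]).left := mono_of_mono (η[A]).left A.hom
    simp only [e, Over.homMk_left, cancel_mono, ← Category.assoc] at h'
    exact AlgHom.coe_ringHom_injective (congrArg CommRingCat.Hom.hom (Spec.map_injective h'))
  · have ha : Spec.map (CommRingCat.ofHom (algebraMap k K')) ≫ (η[A]).left = a.left ≫ ψ.left :=
      (congrArg CommaMorphism.left (hfix a)).symm
    let g := pullback.lift _ _ ha
    obtain ⟨f, hf⟩ := Spec.map_surjective (g ≫ (pullback (η[A]).left ψ.left).isoSpec.hom)
    refine ⟨{ f.hom with commutes' := fun c => ?_ }, Over.OverMorphism.ext ?_⟩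
    · have h2 : Spec.map f ≫ Spec.map φ = Spec.map (CommRingCat.ofHom (algebraMap k K')) := by
        rw [hf, hφ]
        simp [g, q]
      rw [← Spec.map_comp, Spec.map_inj] at h2
      exact congrArg (fun h => CommRingCat.Hom.hom h c) h2
    · show Spec.map f ≫ _ ≫ _ = a.left
      rw [hf]
      simp [g]

/-- A power map is determined by its exponent. -/
theorem isPowMap_unique {X : Scheme.{u}} {F G : X ⟶ X} {Q : ℕ} (hF : WeilLib.IsPowMap F Q)
    (hG : WeilLib.IsPowMap G Q) : F = G := by
  have hbase : F.base = G.base := by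
    ext x
    exact (hF.base x).trans (hG.base x).symm
  have hpre : ∀ (H : X ⟶ X), WeilLib.IsPowMap H Q → ∀ U : X.Opens, H ⁻¹ᵁ U = U := fun H hH U => by
    ext x
    show H x ∈ U ↔ x ∈ U
    rw [hH.base]
  refine Scheme.Hom.ext hbase fun U => CommRingCat.hom_ext (RingHom.ext fun s => ?_)
  have h1 := hF.app U (hF.le U) s
  have h2 := hG.app U (hG.le U) s
  rw [← h2] at h1
  simp only [Scheme.Hom.appLE, CommRingCat.hom_comp, RingHom.comp_apply] at h1
  haveI : IsIso (homOfLE (hG.le U)).op := by
    refine ⟨(homOfLE ((hpre G hG U).le)).op, ?_, ?_⟩ <;> exact Subsingleton.elim _ _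
  refine ((ConcreteCategory.bijective_of_isIso (X.presheaf.map (homOfLE (hG.le U)).op)).1 (Eq.trans ?_ h1))
  rw [CommRingCat.hom_comp, RingHom.comp_apply, ← RingHom.comp_apply, ← CommRingCat.hom_comp, ← Functor.map_comp]
  rfl

open scoped Groth.Agent.H23.PicMul in
/-- The Riemann hypothesis and the point counts of an abelian variety over a finite field. -/
theorem exists_weil_poly_points (A : Over (Spec (CommRingCat.of k))) [GrpObj A] [IsProper A.hom]
    [GeometricallyIntegral A.hom] {r : ℕ} (hr : topologicalKrullDim A.left = r) :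
    ∃ P : Polynomial ℤ, IsWeilPoly P (Nat.card k) r ∧
      (∀ (K' : Type u) [Field K'] [Algebra k K'] [Finite K'],
        (Nat.card (Over.mk (Spec.map (CommRingCat.ofHom (algebraMap k K'))) ⟶ A) : ℂ) =
          ((P.map (Int.castRingHom ℂ)).roots.map (fun ω => ω ^ Module.finrank k K' - 1)).prod) ∧
      (haveI := isCommMonObj_of_isProper_of_geometricallyIntegral A
      ∀ (πX : A ⟶ A) [IsMonHom πX] (_ : WeilLib.IsPowMap πX.left (Nat.card k)) (Ω : Type u) [Field Ω]
        [Algebra k Ω] [IsAlgClosed Ω] (l : ℕ) [Fact l.Prime], (l : k) ≠ 0 →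
        ∀ [Module.Free ℤ_[l] (AbDual.TateMod A l (SGA7.pt (K := k) Ω))]
          [Module.Finite ℤ_[l] (AbDual.TateMod A l (SGA7.pt (K := k) Ω))],
          (AbDual.tateMapₗ (l := l) (T := SGA7.pt (K := k) Ω) πX).charpoly = P.map (Int.castRingHom ℤ_[l])) := by
  haveI : IsCommMonObj A := isCommMonObj_of_isProper_of_geometricallyIntegral A
  haveI : IsIntegral A.left := GeometricallyIntegral.isIntegral_of_subsingleton A.hom
  obtain ⟨F, hF, hF0, hFs, hnat⟩ := exists_frob (k := k)
  have hmul : ∀ m, IsMonHom (F A m) := by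
    intro m
    refine ⟨?_, ?_⟩
    · have h1 : F (𝟙_ _) m = 𝟙 _ := toUnit_unique _ _
      rw [← hnat A (𝟙_ _) (η[A]) m, h1, Category.id_comp]
    · rw [← hnat A (A ⊗ A) (μ[A]) m]
      congr 1
      refine CartesianMonoidalCategory.hom_ext _ _ ?_ ?_
      · rw [tensorHom_fst, hnat]
      · rw [tensorHom_snd, hnat]
  haveI := hmul 1
  set π := EndAV.End.of (F A 1) with hπ
  have hpow : ∀ m, (π ^ m).toHom = F A m := by
    intro m
    induction m with
    | zero => rw [pow_zero, EndAV.End.toHom_one, hF0]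
    | succ m ih =>
      rw [pow_succ', EndAV.End.toHom_mul, ih, hFs]
      rfl
  obtain ⟨P, hm, hd, -, hcp⟩ := exists_charpoly hr π
  have hb : (F A 1).left.base = 𝟙 _ := by
    ext x
    exact (hF A 1).base x
  have hle : ∀ U : A.left.Opens, U ≤ (F A 1).left ⁻¹ᵁ U := (hF A 1).le
  have happ : ∀ (U : A.left.Opens) (s : Γ(A.left, U)),
      ((F A 1).left.appLE U U (hle U)).hom s = s ^ Nat.card k := fun U s => by
    rw [(hF A 1).app U (hle U) s, pow_one]
  let Ω := AlgebraicClosure k
  obtain ⟨l, hl, hlk⟩ : ∃ l : ℕ, l.Prime ∧ (l : k) ≠ 0 := by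
    by_cases h2 : ((2 : ℕ) : k) = 0
    · refine ⟨3, Nat.prime_three, fun h3 => one_ne_zero (α := k) ?_⟩
      calc (1 : k) = ((3 : ℕ) : k) - ((2 : ℕ) : k) := by norm_num
        _ = 0 := by rw [h3, h2, sub_zero]
    · exact ⟨2, Nat.prime_two, h2⟩
  haveI : Fact l.Prime := ⟨hl⟩
  obtain ⟨hfree, hfin, hrank⟩ := finrank_tateMod (A := A) Ω l hlk hr
  haveI := hfree
  haveI := hfin
  have hW := isWeilPoly_of_charpoly (F A 1) hb hle happ Ω l hlk hr P (hcp Ω l hlk)
  refine ⟨P, hW, fun K' _ _ _ => ?_, fun πX _ hπX Ω' _ _ _ l' _ hl' _ _ => ?_⟩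
  swap
  · obtain rfl : πX = F A 1 := Over.OverMorphism.ext (isPowMap_unique hπX (pow_one (Nat.card k) ▸ hF A 1))
    exact hcp Ω' l' hl'
  haveI : Module.Finite k K' := Module.Finite.of_finite
  set m := Module.finrank k K' with hmdef
  have hm0 : 0 < m := Module.finrank_pos
  set Q : Polynomial ℤ := Polynomial.X ^ m - 1
  -- the determinant of `π ^ m - 1`
  set z : ℤ := Polynomial.resultant P Q P.natDegree Q.natDegree
  have hzC : (z : ℂ) = ((P.map (Int.castRingHom ℂ)).roots.map (fun ω => ω ^ m - 1)).prod := by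
    have h1 : (z : ℂ) = Polynomial.resultant (P.map (Int.castRingHom ℂ)) (Q.map (Int.castRingHom ℂ))
        (P.map (Int.castRingHom ℂ)).natDegree Q.natDegree := by
      rw [hm.natDegree_map, Polynomial.resultant_map_map, eq_intCast]
    rw [h1, Polynomial.resultant_eq_prod_eval _ _ _ Polynomial.natDegree_map_le (IsAlgClosed.splits _),
      (hm.map _).leadingCoeff, one_pow, _root_.one_mul]
    simp [Q]
  have hz0 : z ≠ 0 := fun h => by
    rw [h, Int.cast_zero, eq_comm, Multiset.prod_eq_zero_iff, Multiset.mem_map] at hzC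
    obtain ⟨ω, hω, hω1⟩ := hzC
    have h1 := congrArg (‖·‖) (sub_eq_zero.1 hω1)
    simp only [norm_pow, hW.norm_root ω hω, norm_one] at h1
    have h2 : 1 < Real.sqrt (Nat.card k) := by
      rw [Real.lt_sqrt zero_le_one, one_pow]
      exact_mod_cast Finite.one_lt_card
    exact (one_lt_pow₀ h2 hm0.ne').ne' h1
  have hdet : LinearMap.det (EndAV.End.tateRep l (SGA7.pt (K := k) Ω) (π ^ m - 1)) = (z : ℤ_[l]) := by
    obtain ⟨b⟩ := nonempty_basis (A := A) Ω l hlk hr
    let ψ : ℤ_[l] →+* PadicAlgCl l := (algebraMap ℚ_[l] (PadicAlgCl l)).comp PadicInt.Coe.ringHom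
    have hψ : Function.Injective ψ := (algebraMap ℚ_[l] (PadicAlgCl l)).injective.comp Subtype.coe_injective
    refine hψ ?_
    set M := (LinearMap.toMatrixAlgEquiv b (EndAV.End.tateRep l (SGA7.pt (K := k) Ω) π)).map ψ
    have h1 : ψ (LinearMap.det (EndAV.End.tateRep l (SGA7.pt (K := k) Ω) (π ^ m - 1))) =
        (Polynomial.aeval M (Q.map (Int.castRingHom (PadicAlgCl l)))).det := by
      rw [← LinearMap.det_toMatrix b, RingHom.map_det,
        show LinearMap.toMatrix b b _ = LinearMap.toMatrixAlgEquiv b _ from rfl, map_sub, map_pow, map_one, map_sub,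
        map_pow, map_one, map_sub, map_pow, map_one]
      simp [Q, M, RingHom.mapMatrix_apply]
    rw [h1, det_aeval, rootsEval_apply, Matrix.charpoly_map,
      show LinearMap.toMatrixAlgEquiv b (EndAV.End.tateRep l (SGA7.pt (K := k) Ω) π) = LinearMap.toMatrix b b _ from rfl,
      LinearMap.charpoly_toMatrix, hcp Ω l hlk, Polynomial.map_map, map_intCast]
    have h2 : (z : PadicAlgCl l) = Polynomial.resultant (P.map (Int.castRingHom (PadicAlgCl l)))
        (Q.map (Int.castRingHom (PadicAlgCl l))) (P.map (Int.castRingHom (PadicAlgCl l))).natDegree Q.natDegree := by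
      rw [hm.natDegree_map, Polynomial.resultant_map_map, eq_intCast]
    rw [h2, Polynomial.resultant_eq_prod_eval _ _ _ Polynomial.natDegree_map_le (IsAlgClosed.splits _),
      (hm.map _).leadingCoeff, one_pow, _root_.one_mul]
    rw [show ψ.comp (Int.castRingHom ℤ_[l]) = Int.castRingHom (PadicAlgCl l) from RingHom.ext_int _ _]
  have hd2 := det_eq_degE Ω l hlk hr (π ^ m - 1)
  rw [hdet] at hd2
  have hdeg : z = degE (π ^ m - 1) := by exact_mod_cast hd2
  haveI hfi : IsFinite (π ^ m - 1).toHom.left := (isFinite_iff_det Ω l hlk hr _).2 (by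
    rw [hdet]; exact_mod_cast hz0)
  have hsub : (π ^ m - 1).toHom = F A m / 𝟙 A := by
    rw [EndAV.End.toHom_sub, hpow, EndAV.End.toHom_one]
  haveI hm' : IsMonHom (π ^ m - 1).toHom := inferInstance
  obtain ⟨hs, hfl, hfp⟩ := finite_props (π ^ m - 1).toHom hr hr
  have hdE := degE_eq hr (π ^ m - 1) hfi ((η[A]).left (IsLocalRing.closedPoint k))
  revert hfi hs hfl hfp hdE
  rw [hsub]
  intro hfi hs hfl hfp hdE
  rw [natCard_points (F A m) m F hF hnat rfl K' rfl, ← hdE, ← hzC, hdeg]
  simp

end Groth.Agent.AVRosati
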