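import Groth.Agent.AVRosati.Factor
import Groth.Agent.H23.RedSub
import Mathlib.AlgebraicGeometry.Morphisms.UniversallyInjective

/-!
Homomorphisms with one-point kernels are universally injective; torsion kernels are finite.
-/

noncomputable section

set_option autoImplicit false
set_option linter.style.haveILetI false
set_option linter.unusedSectionVars false
set_option backward.isDefEq.respectTransparency false
set_option backward.isDefEq.respectTransparency.types false

universe u

open CategoryTheory CategoryTheory.Limits AlgebraicGeometry MonoidalCategory CartesianMonoidalCategory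
open scoped MonObj

namespace Groth.Agent.AVRosati.KernelPoint

variable {k : Type u} [Field k]

theorem isClosedImmersion_unit {X : Over (Spec (CommRingCat.of k))} [GrpObj X] [IsSeparated X.hom] :
    IsClosedImmersion η[X].left := by
  haveI : IsClosedImmersion (η[X].left ≫ X.hom) := by
    rw [Over.w]
    exact inferInstanceAs (IsClosedImmersion (𝟙 (Spec (CommRingCat.of k))))
  exact IsClosedImmersion.of_comp η[X].left X.hom

/-- A homomorphism whose kernel is one point is universally injective. -/
theorem universallyInjective_of_kernel {X Y H : Over (Spec (CommRingCat.of k))} [GrpObj X] [GrpObj Y]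
    [IsSeparated X.hom] (φ : X ⟶ Y) [IsMonHom φ] (i : H ⟶ X) (hH : IsPullback i (toUnit H) φ η[Y])
    (h : Set.range i.left ⊆ {η[X].left (IsLocalRing.closedPoint k)}) : UniversallyInjective φ.left := by
  refine ((tfae_universallyInjective φ.left).out 0 1).2 ?_
  intro L hL g₁ g₂ hg
  have hw : g₂ ≫ X.hom = g₁ ≫ X.hom := by
    rw [← Over.w φ, ← Category.assoc, ← Category.assoc]
    exact congrArg (· ≫ Y.hom) hg.symm
  let a : Over.mk (g₁ ≫ X.hom) ⟶ X := Over.homMk g₁ rfl
  let b : Over.mk (g₁ ≫ X.hom) ⟶ X := Over.homMk g₂ hw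
  have h1 : (a * b⁻¹) ≫ φ = 1 := by
    rw [MonObj.mul_comp, GrpObj.inv_comp, show a ≫ φ = b ≫ φ from Over.OverMorphism.ext hg, mul_inv_cancel]
  obtain ⟨l, hl⟩ := IsogLib.exists_kernel_lift φ hH _ h1
  haveI := isClosedImmersion_unit (X := X)
  haveI : IsReduced (Over.mk (g₁ ≫ X.hom)).left := inferInstanceAs (IsReduced (Spec (CommRingCat.of L)))
  obtain ⟨w, hw'⟩ := H23.RedSub.exists_lift_closed (a * b⁻¹).left η[X].left (by
    rintro _ ⟨z, rfl⟩
    have h2 : (a * b⁻¹).left z ∈ Set.range i.left := ⟨l.left z, by
      rw [← Scheme.Hom.comp_apply, ← Over.comp_left, hl]⟩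
    exact ⟨_, (h h2).symm⟩)
  have hw1 : w = (Over.mk (g₁ ≫ X.hom)).hom := by
    have := congrArg (· ≫ X.hom) hw'
    simp only [Category.assoc] at this
    rw [Over.w η[X], Over.w (a * b⁻¹)] at this
    exact (Category.comp_id w).symm.trans this
  have h3 : a * b⁻¹ = 1 := Over.OverMorphism.ext (by rw [← hw', hw1]; rfl)
  have h4 : a = b := mul_inv_eq_one.1 h3
  exact congrArg (fun t : Over.mk (g₁ ≫ X.hom) ⟶ X => t.left) h4

/-- A closed subgroup killed by a positive integer is finite. -/
theorem isFinite_of_killed {X H : Over (Spec (CommRingCat.of k))} [GrpObj X] [IsProper X.hom]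
    [GeometricallyIntegral X.hom] [IsCommMonObj X] (i : H ⟶ X) [IsClosedImmersion i.left] {n : ℕ} (hn : 0 < n)
    (h : i ^ n = 1) : IsFinite H.hom := by
  haveI := AVMulN.isFinite_pow (A := X) n hn
  haveI : IsFinite (i ≫ (𝟙 X ^ n : X ⟶ X)).left := by rw [Over.comp_left]; infer_instance
  haveI : IsFinite (H.hom ≫ η[X].left) := by
    have e : (i ≫ (𝟙 X ^ n : X ⟶ X)).left = H.hom ≫ η[X].left := by
      rw [MonObj.comp_pow, Category.comp_id, h]; rfl
    rw [← e]; infer_instance
  haveI := isClosedImmersion_unit (X := X)
  exact IsFinite.of_comp H.hom η[X].left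

/-- A connected finite scheme over a field has one point. -/
theorem subsingleton_of_finite {H : Over (Spec (CommRingCat.of k))} [IsFinite H.hom] [ConnectedSpace H.left] :
    Subsingleton H.left := by
  haveI : Subsingleton ↥(Spec (CommRingCat.of k)) := inferInstanceAs (Subsingleton (PrimeSpectrum k))
  haveI : Finite H.left := Set.finite_univ_iff.1
    ((Scheme.Hom.finite_preimage_singleton H.hom (IsLocalRing.closedPoint k)).subset
      fun z _ => Subsingleton.elim (α := Spec (CommRingCat.of k)) _ _)
  haveI : JacobsonSpace (Spec (CommRingCat.of k)) := inferInstanceAs (JacobsonSpace (PrimeSpectrum k))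
  haveI : JacobsonSpace H.left := LocallyOfFiniteType.jacobsonSpace H.hom
  haveI : DiscreteTopology H.left := inferInstance
  exact PreconnectedSpace.trivial_of_discrete

end Groth.Agent.AVRosati.KernelPoint
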