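import Groth.Agent.H23.CubeAb
import Groth.Agent.AVDegPoly.SnapperZ
import Groth.Prelude.Def_EndRing

/-!
The pairing of a class of invertible modules on an abelian variety, and adjoint endomorphisms.
-/

noncomputable section

set_option linter.style.haveILetI false
set_option linter.unusedSectionVars false
set_option backward.isDefEq.respectTransparency false
set_option backward.isDefEq.respectTransparency.types false

universe u

open CategoryTheory CategoryTheory.Limits AlgebraicGeometry MonoidalCategory CartesianMonoidalCategory TopologicalSpace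
open scoped MonObj

namespace Groth.Agent.AVRosati

open H23 H23.CubeAb TrivBasic

open scoped Groth.Agent.H23.PicMul

variable {k : Type u} [Field k] {A : Over (Spec (CommRingCat.of k))}

/-- The classes of modules on the underlying scheme, invertible for the tensor product. -/
abbrev U (T : Over (Spec (CommRingCat.of k))) : Type _ := (PicF.Cl T.left)ˣ

/-- The property of being the class of an invertible module. -/
abbrev Inv {T : Over (Spec (CommRingCat.of k))} (c : U T) : Prop := PicF.IsInvertibleCl (c : PicF.Cl T.left)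

/-- The unit given by an invertible module. -/
def unitOf {L : A.left.Modules} (hL : PicF.IsInvertible L) : U A :=
  (PicMul.isUnit_of_isInvertibleCl ⟨L, rfl, hL⟩).unit

theorem coe_unitOf {L : A.left.Modules} (hL : PicF.IsInvertible L) :
    (unitOf hL : PicF.Cl A.left) = PicF.cl L := rfl

theorem inv_unitOf {L : A.left.Modules} (hL : PicF.IsInvertible L) : Inv (unitOf hL) := ⟨L, rfl, hL⟩

/-- Pullback of units. -/
def pb {T T' : Over (Spec (CommRingCat.of k))} (g : T' ⟶ T) : U T →* U T' :=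
  Units.map (PicMul.pullHom g.left)

theorem coe_pb {T T' : Over (Spec (CommRingCat.of k))} (g : T' ⟶ T) (c : U T) :
    (pb g c : PicF.Cl T'.left) = PicMul.pullHom g.left (c : PicF.Cl T.left) := rfl

theorem pb_pb {T T' T'' : Over (Spec (CommRingCat.of k))} (h : T'' ⟶ T') (g : T' ⟶ T) (c : U T) :
    pb h (pb g c) = pb (h ≫ g) c :=
  Units.ext (PicClLib.pullCl_comp h.left g.left (c : PicF.Cl T.left))

theorem pb_id {T : Over (Spec (CommRingCat.of k))} (c : U T) : pb (𝟙 T) c = c :=
  Units.ext (PicClLib.pullCl_id (c : PicF.Cl T.left))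

theorem inv_pb {T T' : Over (Spec (CommRingCat.of k))} (g : T' ⟶ T) {c : U T} (hc : Inv c) : Inv (pb g c) :=
  PicClLib.isInvertibleCl_pullCl _ hc

theorem inv_div {T : Over (Spec (CommRingCat.of k))} {c d : U T} (hc : Inv c) (hd : Inv d) : Inv (c / d) := by
  rw [div_eq_mul_inv]
  exact PicMul.isInvertibleCl_mul hc (AVDegPoly.isInvertibleCl_units _ hd)

theorem inv_pow {T : Over (Spec (CommRingCat.of k))} {c : U T} (hc : Inv c) (n : ℕ) : Inv (c ^ n) := by
  simpa only [zpow_natCast] using AVDegPoly.isInvertibleCl_zpow c hc (n : ℤ)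

theorem inv_mul' {T : Over (Spec (CommRingCat.of k))} {c d : U T} (hc : Inv c) (hd : Inv d) : Inv (c * d) :=
  PicMul.isInvertibleCl_mul hc hd

variable [GrpObj A]

/-- The pairing `(u + v)^* - u^* - v^*` of a class. -/
def pair {T : Over (Spec (CommRingCat.of k))} (c : U A) (u v : T ⟶ A) : U T :=
  pb (u * v) c / (pb u c * pb v c)

theorem pb_pair {T T' : Over (Spec (CommRingCat.of k))} (g : T' ⟶ T) (c : U A) (u v : T ⟶ A) :
    pb g (pair c u v) = pair c (g ≫ u) (g ≫ v) := by
  simp only [pair, map_div, map_mul, pb_pb, MonObj.comp_mul]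

theorem inv_pair {T : Over (Spec (CommRingCat.of k))} {c : U A} (hc : Inv c) (u v : T ⟶ A) : Inv (pair c u v) :=
  inv_div (inv_pb _ hc) (inv_mul' (inv_pb _ hc) (inv_pb _ hc))

theorem pair_comm [IsCommMonObj A] {T : Over (Spec (CommRingCat.of k))} (c : U A) (u v : T ⟶ A) :
    pair c u v = pair c v u := by
  rw [pair, pair, mul_comm u v, mul_comm (pb u c)]

variable [IsProper A.hom] [GeometricallyIntegral A.hom]

theorem pb_const {T : Over (Spec (CommRingCat.of k))} {c : U A} (hc : Inv c)
    (a : 𝟙_ (Over (Spec (CommRingCat.of k))) ⟶ A) : pb (toUnit T ≫ a) c = 1 :=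
  Units.ext (F_const hc a)

theorem pb_one {T : Over (Spec (CommRingCat.of k))} {c : U A} (hc : Inv c) : pb (1 : T ⟶ A) c = 1 :=
  Units.ext (F_one hc)

theorem pair_one_left {T : Over (Spec (CommRingCat.of k))} {c : U A} (hc : Inv c) (v : T ⟶ A) :
    pair c 1 v = 1 := by
  rw [pair, one_mul, pb_one hc, one_mul, div_self']

theorem pair_mul_left {T : Over (Spec (CommRingCat.of k))} {c : U A} (hc : Inv c) (u v w : T ⟶ A) :
    pair c (u * v) w = pair c u w * pair c v w := by
  have h : pb (u * v * w) c * pb u c * pb v c * pb w c = pb (u * v) c * pb (u * w) c * pb (v * w) c :=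
    Units.ext (cube hc u v w)
  rw [pair, pair, pair, div_mul_div_comm, div_eq_div_iff_mul_eq_mul]
  calc pb (u * v * w) c * (pb u c * pb w c * (pb v c * pb w c))
      = pb (u * v * w) c * pb u c * pb v c * pb w c * pb w c := by ac_rfl
    _ = pb (u * v) c * pb (u * w) c * pb (v * w) c * pb w c := by rw [h]
    _ = pb (u * w) c * pb (v * w) c * (pb (u * v) c * pb w c) := by ac_rfl

theorem pair_pow_left {T : Over (Spec (CommRingCat.of k))} {c : U A} (hc : Inv c) (u w : T ⟶ A) (j : ℤ) :
    pair c (u ^ j) w = pair c u w ^ j :=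
  map_zpow (MonoidHom.mk' (fun z => pair c z w) fun a b => pair_mul_left hc a b w) u j

theorem pair_self {T : Over (Spec (CommRingCat.of k))} {c : U A} (hc : Inv c) (u : T ⟶ A) :
    pair c u u = pb u c * pb u⁻¹ c := by
  have h : pair c u u * pair c u⁻¹ u = 1 := by rw [← pair_mul_left hc, mul_inv_cancel, pair_one_left hc]
  have h' : pair c u⁻¹ u = (pb u⁻¹ c * pb u c)⁻¹ := by rw [pair, inv_mul_cancel, pb_one hc, one_div]
  rw [h', mul_inv_eq_one] at h
  rw [h, mul_comm]

section Slices

variable [IsAlgClosed k]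

/-- Two classes on `A × A` agreeing on `0 × A` and on the fibres `A × a` are equal. -/
theorem eq_of_slices {c d : U (A ⊗ A)} (hc : Inv c) (hd : Inv d)
    (h0 : pb (lift (toUnit A ≫ η) (𝟙 A)) c = pb (lift (toUnit A ≫ η) (𝟙 A)) d)
    (h : ∀ a, pb (lift (𝟙 A) (toUnit A ≫ a)) c = pb (lift (𝟙 A) (toUnit A ≫ a)) d) : c = d := by
  rw [← div_eq_one]
  obtain ⟨M, hMcl, hM⟩ := inv_div hc hd
  refine Units.ext ?_
  rw [Units.val_one, ← hMcl, cl_eq_one_iff]
  have hslice : ∀ {T : Over (Spec (CommRingCat.of k))} (σ : T ⟶ A ⊗ A), pb σ c = pb σ d →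
      Triv ((Scheme.Modules.pullback σ.left).obj M) := fun σ hσ => by
    rw [← cl_eq_one_iff]
    show PicMul.pullHom σ.left (PicF.cl M) = 1
    rw [hMcl, ← coe_pb, map_div, hσ, div_self', Units.val_one]
  refine triv_of_fibres hM (hslice _ h0) fun w => ?_
  haveI : JacobsonSpace ↥A.left := LocallyOfFiniteType.jacobsonSpace A.hom
  have hsub : closedPoints A.left ⊆ {w | SeesawGlobal.FieldTriv (snd A A).left M w} := by
    intro w hw
    haveI : IsClosedImmersion (A.left.fromSpecResidueField w) := by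
      rw [← isClosed_singleton_iff_isClosedImmersion]
      exact hw
    obtain ⟨p, hp⟩ : ∃ p : 𝟙_ (Over (Spec (CommRingCat.of k))) ⟶ A, p.left (IsLocalRing.closedPoint k) = w := by
      obtain ⟨p, hp⟩ := ((pointEquivClosedPoint A.hom).surjective ⟨w, hw⟩)
      exact ⟨Over.homMk p.1 p.2, congrArg Subtype.val hp⟩
    subst hp
    exact fieldTriv_of_rational hM p (hslice _ (h p))
  exact closure_minimal hsub (isClosed_locus hM) (by rw [closure_closedPoints]; trivial)

/-- An identity between pairings on the constant maps propagates to all pairs of morphisms. -/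
theorem pair_eq_of_points {c d : U A} (hc : Inv c) (hd : Inv d) (f₁ f₂ g₁ g₂ : A ⟶ A) [IsMonHom f₁] [IsMonHom f₂]
    [IsMonHom g₁] [IsMonHom g₂] (m n : ℕ)
    (h : ∀ a : 𝟙_ (Over (Spec (CommRingCat.of k))) ⟶ A,
      pair c f₁ (toUnit A ≫ a ≫ f₂) ^ m = pair d g₁ (toUnit A ≫ a ≫ g₂) ^ n)
    {T : Over (Spec (CommRingCat.of k))} (u v : T ⟶ A) :
    pair c (u ≫ f₁) (v ≫ f₂) ^ m = pair d (u ≫ g₁) (v ≫ g₂) ^ n := by
  have key : pair c (fst A A ≫ f₁) (snd A A ≫ f₂) ^ m = pair d (fst A A ≫ g₁) (snd A A ≫ g₂) ^ n := by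
    refine eq_of_slices (inv_pow (inv_pair hc _ _) m) (inv_pow (inv_pair hd _ _) n) ?_ fun a => ?_
    · simp only [map_pow, pb_pair, lift_fst_assoc, lift_snd_assoc, Category.assoc, IsMonHom.one_hom,
        show (toUnit A ≫ η : A ⟶ A) = 1 from rfl, MonObj.one_comp, pair_one_left hc, pair_one_left hd, one_pow]
    · simp only [map_pow, pb_pair, lift_fst_assoc, lift_snd_assoc, Category.assoc, Category.id_comp]
      exact h a
  have := congrArg (pb (lift u v)) key
  simpa only [map_pow, pb_pair, lift_fst_assoc, lift_snd_assoc] using this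

variable [IsCommMonObj A]

/-- The relation `φ(ρ x) = n α^*φ(x)` gives the adjunction of the pairing. -/
theorem pair_adjoint {L : A.left.Modules} (hL : PicF.IsInvertible L) (α ρ : EndAV.End A) (n : ℕ)
    (hρ : ∀ x : (𝟙_ (Over (Spec (CommRingCat.of k))) ⟶ A), Nonempty (CohB1.tensorMod ((Scheme.Modules.pullback ((𝟙 A * (toUnit A ≫ x ≫ EndAV.End.toHom ρ))).left).obj (L)) ((Scheme.Modules.pullback (EndAV.End.toHom α).left).obj (CohB1.tensorPow L n)) ≅ CohB1.tensorMod (L) ((Scheme.Modules.pullback (EndAV.End.toHom α).left).obj ((Scheme.Modules.pullback ((𝟙 A * (toUnit A ≫ x))).left).obj (CohB1.tensorPow L n)))))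
    {T : Over (Spec (CommRingCat.of k))} (u v : T ⟶ A) :
    pair (unitOf hL) u (v ≫ EndAV.End.toHom ρ) = pair (unitOf hL) (u ≫ EndAV.End.toHom α) v ^ n := by
  set c := unitOf hL
  have hc : Inv c := inv_unitOf hL
  have h := pair_eq_of_points hc hc (𝟙 A) (EndAV.End.toHom ρ) (EndAV.End.toHom α) (𝟙 A) 1 n (fun a => ?_) u v
  · simpa only [pow_one, Category.comp_id] using h
  obtain ⟨e⟩ := hρ a
  have h0 := PicMul.cl_eq_iff.2 ⟨e⟩
  simp only [PicMul.cl_tensor] at h0
  have h1 : pb (tr (a ≫ EndAV.End.toHom ρ)) c * pb (EndAV.End.toHom α) c ^ n =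
      c * pb (EndAV.End.toHom α ≫ tr a) c ^ n := by
    refine Units.ext ?_
    rw [← map_pow, ← map_pow, ← pb_pb]
    simp only [Units.val_mul, coe_pb, Units.val_pow_eq_pow_val, c, coe_unitOf, ← PicMul.cl_tensorPow]
    exact h0
  have h2 : EndAV.End.toHom α ≫ tr a = EndAV.End.toHom α * (toUnit A ≫ a) := by
    rw [MonObj.comp_mul, Category.comp_id, ← Category.assoc, toUnit_unique (EndAV.End.toHom α ≫ toUnit A) (toUnit A)]
  rw [h2] at h1
  simp only [pow_one, Category.comp_id, pair, pb_const hc, pb_id, _root_.mul_one, div_pow]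
  rw [div_eq_div_iff_mul_eq_mul, h1, _root_.mul_comm]

/-- The relation `φ_M(x) = m φ_L(α x)` computes the pairing of `M`. -/
theorem pair_eq_of_rel {L M : A.left.Modules} (hL : PicF.IsInvertible L) (hM : PicF.IsInvertible M)
    (α : EndAV.End A) (m : ℕ)
    (hpos : ∀ x : (𝟙_ (Over (Spec (CommRingCat.of k))) ⟶ A), Nonempty (CohB1.tensorMod ((Scheme.Modules.pullback ((𝟙 A * (toUnit A ≫ x))).left).obj (M)) (CohB1.tensorPow L m) ≅ CohB1.tensorMod (M) ((Scheme.Modules.pullback ((𝟙 A * (toUnit A ≫ x ≫ EndAV.End.toHom (α)))).left).obj (CohB1.tensorPow L m))))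
    {T : Over (Spec (CommRingCat.of k))} (u v : T ⟶ A) :
    pair (unitOf hM) u v = pair (unitOf hL) u (v ≫ EndAV.End.toHom α) ^ m := by
  set c := unitOf hL
  set d := unitOf hM
  have hc : Inv c := inv_unitOf hL
  have hd : Inv d := inv_unitOf hM
  have h := pair_eq_of_points hd hc (𝟙 A) (𝟙 A) (𝟙 A) (EndAV.End.toHom α) 1 m (fun a => ?_) u v
  · simpa only [pow_one, Category.comp_id] using h
  obtain ⟨e⟩ := hpos a
  have h0 := PicMul.cl_eq_iff.2 ⟨e⟩
  simp only [PicMul.cl_tensor] at h0
  have h1 : pb (tr a) d * c ^ m = d * pb (tr (a ≫ EndAV.End.toHom α)) c ^ m := by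
    refine Units.ext ?_
    rw [← map_pow]
    simp only [Units.val_mul, coe_pb, Units.val_pow_eq_pow_val, c, d, coe_unitOf, ← PicMul.cl_tensorPow]
    exact h0
  simp only [pow_one, Category.comp_id, pair, pb_const hc, pb_const hd, pb_id, _root_.mul_one, div_pow]
  rw [div_eq_div_iff_mul_eq_mul, h1, _root_.mul_comm]

end Slices

end Groth.Agent.AVRosati
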