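import Groth.Agent.AVRosati.Trace
import Groth.Agent.AVDegPoly.MatPoly

/-!
The trace form on endomorphisms, symmetric endomorphisms and classes correspondences.
-/

noncomputable section

set_option linter.style.haveILetI false
set_option linter.unusedSectionVars false
set_option backward.isDefEq.respectTransparency false
set_option backward.isDefEq.respectTransparency.types false

universe u

open CategoryTheory CategoryTheory.Limits AlgebraicGeometry MonoidalCategory CartesianMonoidalCategory TopologicalSpace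
open scoped MonObj

namespace Groth.Agent.AVRosati

open H23 H23.CubeAb AVDegPoly

open scoped Groth.Agent.H23.PicMul

attribute [local instance] AVDegPoly.overHom

variable {k : Type u} [Field k] {A : Over (Spec (CommRingCat.of k))}
  [GrpObj A] [IsProper A.hom] [GeometricallyIntegral A.hom]

theorem pair_class_mul {T : Over (Spec (CommRingCat.of k))} (c d : U A) (u v : T ⟶ A) :
    pair (c * d) u v = pair c u v * pair d u v := by
  simp only [pair, map_mul, div_mul_div_comm]
  congr 1
  ac_rfl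

theorem pair_class_one {T : Over (Spec (CommRingCat.of k))} (u v : T ⟶ A) : pair (1 : U A) u v = 1 := by
  simp [pair]

theorem pair_class_pow {T : Over (Spec (CommRingCat.of k))} (c : U A) (n : ℕ) (u v : T ⟶ A) :
    pair (c ^ n) u v = pair c u v ^ n := by
  induction n with
  | zero => simp [pair_class_one]
  | succ n ih => rw [pow_succ, pow_succ, pair_class_mul, ih]

theorem pair_class_prod {T : Over (Spec (CommRingCat.of k))} {ι' : Type*} (s : Finset ι') (f : ι' → U A)
    (u v : T ⟶ A) : pair (∏ i ∈ s, f i) u v = ∏ i ∈ s, pair (f i) u v := by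
  classical
  induction s using Finset.induction_on with
  | empty => simp [pair_class_one]
  | insert a s ha ih => rw [Finset.prod_insert ha, Finset.prod_insert ha, pair_class_mul, ih]

/-- The pairing of a pulled back class. -/
theorem pair_class_pb {T : Over (Spec (CommRingCat.of k))} (f : A ⟶ A) [IsMonHom f] (c : U A) (u v : T ⟶ A) :
    pair (pb f c) u v = pair c (u ≫ f) (v ≫ f) := by
  simp only [pair, pb_pb, MonObj.mul_comp]

theorem translate_comp {T : Over (Spec (CommRingCat.of k))} (u : T ⟶ A) (a : 𝟙_ (Over (Spec (CommRingCat.of k))) ⟶ A) :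
    u ≫ tr a = u * (toUnit T ≫ a) := by
  show u ≫ (𝟙 A * (toUnit A ≫ a)) = _
  rw [MonObj.comp_mul, Category.comp_id, ← Category.assoc, toUnit_unique (u ≫ toUnit A) (toUnit T)]

variable [IsCommMonObj A]

/-- Translations do not change the pairing. -/
theorem pair_class_translate {T : Over (Spec (CommRingCat.of k))} {c : U A} (hc : Inv c)
    (a : 𝟙_ (Over (Spec (CommRingCat.of k))) ⟶ A) (u v : T ⟶ A) : pair (pb (tr a) c) u v = pair c u v := by
  simp only [pair, pb_pb, translate_comp]
  have h : pb (u * v * (toUnit T ≫ a)) c * pb u c * pb v c * pb (toUnit T ≫ a) c =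
      pb (u * v) c * pb (u * (toUnit T ≫ a)) c * pb (v * (toUnit T ≫ a)) c :=
    Units.ext (cube hc u v (toUnit T ≫ a))
  rw [pb_const hc, _root_.mul_one, _root_.mul_assoc, _root_.mul_assoc (pb (u * v) c)] at h
  rw [div_eq_div_iff_mul_eq_mul, h]

/-- An identity of pairings gives a relation between translations. -/
theorem nonempty_rel_of_pair {L M : A.left.Modules} (hL : PicF.IsInvertible L) (hM : PicF.IsInvertible M)
    (f : A ⟶ A) (m : ℕ) (a : 𝟙_ (Over (Spec (CommRingCat.of k))) ⟶ A)
    (h : pair (unitOf hM) (𝟙 A) (toUnit A ≫ a) = pair (unitOf hL) (𝟙 A) (toUnit A ≫ a ≫ f) ^ m) :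
    Nonempty (CohB1.tensorMod ((Scheme.Modules.pullback ((𝟙 A * (toUnit A ≫ a))).left).obj (M)) (CohB1.tensorPow L m) ≅
      CohB1.tensorMod (M) ((Scheme.Modules.pullback ((𝟙 A * (toUnit A ≫ a ≫ f))).left).obj (CohB1.tensorPow L m))) := by
  simp only [pair, pb_const (inv_unitOf hL), pb_const (inv_unitOf hM), pb_id, _root_.mul_one, div_pow] at h
  rw [div_eq_div_iff_mul_eq_mul] at h
  refine PicMul.cl_eq_iff.1 ?_
  simp only [PicMul.cl_tensor]
  have h' := congrArg (fun z : U A => (z : PicF.Cl A.left)) h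
  simp only [Units.val_mul, Units.val_pow_eq_pow_val, coe_pb, coe_unitOf, ← map_pow, ← PicMul.cl_tensorPow] at h'
  exact h'.trans (_root_.mul_comm _ _)

/-- Endomorphisms adjoint to themselves for the pairing of a class. -/
def IsSym (c : U A) (φ : EndAV.End A) : Prop :=
  ∀ u v : A ⟶ A, pair c u (v ≫ EndAV.End.toHom φ) = pair c (u ≫ EndAV.End.toHom φ) v

theorem IsSym.of_rel [IsAlgClosed k] {L : A.left.Modules} (hL : PicF.IsInvertible L) (α : EndAV.End A)
    (hsym : ∀ x : (𝟙_ (Over (Spec (CommRingCat.of k))) ⟶ A), Nonempty (CohB1.tensorMod ((Scheme.Modules.pullback ((𝟙 A * (toUnit A ≫ x ≫ EndAV.End.toHom α))).left).obj (L)) ((Scheme.Modules.pullback (EndAV.End.toHom α).left).obj (L)) ≅ CohB1.tensorMod (L) ((Scheme.Modules.pullback (EndAV.End.toHom α).left).obj ((Scheme.Modules.pullback ((𝟙 A * (toUnit A ≫ x))).left).obj (L))))) :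
    IsSym (unitOf hL) α := fun u v => by
  refine (pair_adjoint hL α α 1 (fun x => PicMul.cl_eq_iff.1 ?_) u v).trans (pow_one _)
  have h := PicMul.cl_eq_iff.2 (hsym x)
  simp only [PicMul.cl_tensor] at h ⊢
  have e : ∀ (g : A ⟶ A) (N N' : A.left.Modules), PicF.cl N = PicF.cl N' →
      PicF.cl ((Scheme.Modules.pullback g.left).obj N) = PicF.cl ((Scheme.Modules.pullback g.left).obj N') :=
    fun g N N' hN => congrArg (PicMul.pullHom g.left) hN
  have h1 : PicF.cl (CohB1.tensorPow L 1) = PicF.cl L := by rw [PicMul.cl_tensorPow, pow_one]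
  rw [e _ _ _ h1, e _ _ _ (e _ _ _ h1)]
  exact h

theorem IsSym.add {c : U A} (hc : Inv c) {φ ψ : EndAV.End A} (hφ : IsSym c φ) (hψ : IsSym c ψ) : IsSym c (φ + ψ) :=
  fun u v => by
    rw [EndAV.End.toHom_add, MonObj.comp_mul, MonObj.comp_mul, pair_comm c u, pair_mul_left hc, pair_mul_left hc,
      pair_comm c _ u, pair_comm c _ u, hφ, hψ]

theorem IsSym.intCast {c : U A} (hc : Inv c) (n : ℤ) : IsSym c (n : EndAV.End A) := fun u v => by
  rw [EndAV.End.toHom_intCast, GrpObj.comp_zpow, GrpObj.comp_zpow, Category.comp_id, Category.comp_id,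
    pair_comm c u, pair_pow_left hc, pair_pow_left hc, pair_comm c v]

theorem IsSym.mul {c : U A} {φ ψ : EndAV.End A} (hφ : IsSym c φ) (hψ : IsSym c ψ) (h : Commute φ ψ) :
    IsSym c (φ * ψ) := fun u v => by
  conv_rhs => rw [show φ * ψ = ψ * φ from h.eq]
  rw [EndAV.End.toHom_mul, EndAV.End.toHom_mul, ← Category.assoc, hφ, hψ, Category.assoc]

theorem IsSym.aeval {c : U A} (hc : Inv c) {φ : EndAV.End A} (hφ : IsSym c φ) (p : Polynomial ℤ) :
    IsSym c (Polynomial.aeval φ p) := by
  induction p using Polynomial.induction_on with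
  | C n => rw [Polynomial.aeval_C, eq_intCast]; exact IsSym.intCast hc n
  | add p q hp hq => rw [map_add]; exact hp.add hc hq
  | monomial n a ih =>
    rw [pow_succ, ← _root_.mul_assoc, map_mul, Polynomial.aeval_X]
    refine ih.mul hφ ?_
    nth_rw 2 [show φ = Polynomial.aeval φ (Polynomial.X : Polynomial ℤ) from (Polynomial.aeval_X φ).symm]
    exact (Commute.all (Polynomial.C a * Polynomial.X ^ n) Polynomial.X).map (Polynomial.aeval φ)

section Form

variable {L : A.left.Modules} (hL : CohB1.IsAmple L) {g : ℕ} (hg : topologicalKrullDim A.left = g)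

/-- Half the trace, multiplied by the volume. -/
def trForm : EndAV.End A →+ ℚ :=
  AddMonoidHom.mk' (fun φ => lin k g (pair (unitOf hL.1) (𝟙 A) (𝟙 A)) (pair (unitOf hL.1) (EndAV.End.toHom φ) (𝟙 A)))
    fun φ ψ => by
      haveI : IsIntegral A.left := GeometricallyIntegral.isIntegral_of_subsingleton A.hom
      have hc := inv_unitOf hL.1
      rw [EndAV.End.toHom_add, pair_mul_left hc,
        lin_mul k hg.le (inv_pair hc _ _) (inv_pair hc _ _) (inv_pair hc _ _)]

theorem trForm_eq (φ : EndAV.End A) : trForm hL hg φ =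
    lin k g (pair (unitOf hL.1) (𝟙 A) (𝟙 A)) (pair (unitOf hL.1) (𝟙 A) (EndAV.End.toHom φ)) := by
  show lin k g _ _ = _
  exact congrArg _ (pair_comm _ _ _)

theorem trForm_mul_self {φ : EndAV.End A} (hφ : IsSym (unitOf hL.1) φ) (ψ : EndAV.End A) :
    trForm hL hg (φ * ψ) =
      lin k g (pair (unitOf hL.1) (𝟙 A) (𝟙 A)) (pair (unitOf hL.1) (EndAV.End.toHom φ) (EndAV.End.toHom ψ)) := by
  rw [trForm_eq, EndAV.End.toHom_mul, hφ, Category.id_comp]

/-- An endomorphism of an abelian variety of dimension zero is zero. -/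
theorem one_le_dim {φ : EndAV.End A} (hφ : φ ≠ 0) (hg : topologicalKrullDim A.left = g) : 1 ≤ g := by
  haveI : IsIntegral A.left := GeometricallyIntegral.isIntegral_of_subsingleton A.hom
  by_contra! h
  obtain rfl : g = 0 := by omega
  refine hφ (EndAV.End.ext (AVHomLib.eq_one_of_range_subsingleton (EndAV.End.toHom φ) ?_))
  have h0 : VarDim.deg A.hom (genericPoint A.left) = 0 := by
    have := (VarDim.topologicalKrullDim_eq_deg_genericPoint A.hom).symm.trans hg
    exact_mod_cast this
  have hall : ∀ x : A.left, x = genericPoint A.left := fun x =>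
    (VarDim.eq_of_specializes_of_deg_le A.hom (genericPoint_specializes x) (by omega)).symm
  rintro _ ⟨a, rfl⟩ _ ⟨b, rfl⟩
  rw [hall a, hall b]

include hg in
theorem lin_pb_sym_pos {φ : EndAV.End A} (hφ : φ ≠ 0) :
    0 < lin k g (pair (unitOf hL.1) (𝟙 A) (𝟙 A)) (pair (unitOf hL.1) (EndAV.End.toHom φ) (EndAV.End.toHom φ)) := by
  haveI : IsIntegral A.left := GeometricallyIntegral.isIntegral_of_subsingleton A.hom
  have hc := inv_unitOf hL.1
  obtain ⟨L', hL', he⟩ := exists_ample_sym hL
  obtain ⟨m, hm, t, ht, ht'⟩ := exists_section_of_ne_zero hL' φ hφ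
  have hpos := lin_pos_of_section k hL' hg (one_le_dim hφ hg)
    (PicClLib.isInvertible_pullback _ (InvX.isInvertible_tensorPow hL'.1 m)) t ht ht' _
    (pb (EndAV.End.toHom φ) (pair (unitOf hL.1) (𝟙 A) (𝟙 A)) ^ m) he (by
      rw [Units.val_pow_eq_pow_val, coe_pb, he, ← map_pow, ← PicMul.cl_tensorPow]
      rfl)
  rw [lin_pow k hg.le (inv_pair hc _ _) (inv_pb _ (inv_pair hc _ _)), pb_pair, Category.comp_id] at hpos
  exact pos_of_mul_pos_right hpos (Nat.cast_nonneg m)

include hg in
/-- Classes with a nonzero section have nonnegative degree. -/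
theorem lin_nonneg_of_section {M : A.left.Modules} (hM : PicF.IsInvertible M) (t : Coh.structureModule A.left ⟶ M)
    (ht : t ≠ 0) (hg1 : 1 ≤ g) (d : U A) (hd : (d : PicF.Cl A.left) = PicF.cl M) :
    0 ≤ lin k g (pair (unitOf hL.1) (𝟙 A) (𝟙 A)) d := by
  haveI : IsIntegral A.left := GeometricallyIntegral.isIntegral_of_subsingleton A.hom
  have hc := inv_unitOf hL.1
  by_cases h : IsIso t
  · have : d = 1 := Units.ext (by
      rw [hd, Units.val_one, PicMul.one_def]
      exact PicMul.cl_eq_iff.2 ⟨(asIso t).symm⟩)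
    rw [this, lin_one k hg.le (inv_pair hc _ _)]
  · obtain ⟨L', hL', he⟩ := exists_ample_sym hL
    exact (lin_pos_of_section k hL' hg hg1 hM t ht h _ _ he hd).le

include hg in
/-- The pairing of a class with a nonzero section is nonnegative on the diagonal. -/
theorem lin_pair_nonneg [IsAlgClosed k] {M : A.left.Modules} (hM : PicF.IsInvertible M)
    (s : Coh.structureModule A.left ⟶ M) (hs : s ≠ 0) (hg1 : 1 ≤ g) (φ : EndAV.End A) :
    0 ≤ lin k g (pair (unitOf hL.1) (𝟙 A) (𝟙 A)) (pair (unitOf hM) (EndAV.End.toHom φ) (EndAV.End.toHom φ)) := by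
  haveI : IsIntegral A.left := GeometricallyIntegral.isIntegral_of_subsingleton A.hom
  haveI : JacobsonSpace ↥A.left := LocallyOfFiniteType.jacobsonSpace A.hom
  have hc := inv_unitOf hL.1
  have hd := inv_unitOf hM
  obtain ⟨w, hwG, hw⟩ : ∃ w, w ∈ CohB1.genLocus M s ∧ w ∈ closedPoints A.left := by
    obtain ⟨w, h⟩ := (dense_iff_inter_open.1 (dense_iff_closure_eq.2 (closure_closedPoints (X := A.left))))
      (CohB1.genLocus M s : Set A.left) (CohB1.genLocus M s).2
      ((Opens.ne_bot_iff_nonempty _).1 (genLocus_ne_bot hM s hs))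
    exact ⟨w, h.1, h.2⟩
  haveI : IsClosedImmersion (A.left.fromSpecResidueField w) := by
    rw [← isClosed_singleton_iff_isClosedImmersion]
    exact hw
  obtain ⟨a, ha⟩ : ∃ p : 𝟙_ (Over (Spec (CommRingCat.of k))) ⟶ A, p.left (IsLocalRing.closedPoint k) = w := by
    obtain ⟨p, hp⟩ := ((pointEquivClosedPoint A.hom).surjective ⟨w, hw⟩)
    exact ⟨Over.homMk p.1 p.2, congrArg Subtype.val hp⟩
  have key : ∀ ψ : A ⟶ A, (η : 𝟙_ (Over (Spec (CommRingCat.of k))) ⟶ A) ≫ ψ = η →
      0 ≤ lin k g (pair (unitOf hL.1) (𝟙 A) (𝟙 A)) (pb (ψ ≫ tr a) (unitOf hM)) := fun ψ hψ => by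
    have hpt : (ψ ≫ tr a).left ((η[A]).left (IsLocalRing.closedPoint k)) ∈ CohB1.genLocus M s := by
      have e : η[A] ≫ ψ ≫ tr a = a := by
        rw [← Category.assoc, hψ, translate_comp, toUnit_unique (toUnit (𝟙_ (Over (Spec (CommRingCat.of k))))) (𝟙 _),
          Category.id_comp, show (η[A] : 𝟙_ (Over (Spec (CommRingCat.of k))) ⟶ A) = 1 by simp [MonObj.one_eq_one],
          _root_.one_mul]
      have e' := congrArg (fun f : 𝟙_ (Over (Spec (CommRingCat.of k))) ⟶ A => f.left (IsLocalRing.closedPoint k)) e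
      simp only [Over.comp_left, Scheme.Hom.comp_apply] at e' ⊢
      rw [e', ha]
      exact hwG
    obtain ⟨e⟩ := PicClLib.nonempty_pullback_structureModule (ψ ≫ tr a).left
    refine lin_nonneg_of_section hL hg (PicClLib.isInvertible_pullback _ hM)
      (e.symm.hom ≫ (Scheme.Modules.pullback (ψ ≫ tr a).left).map s) (fun h => ?_) hg1 _ rfl
    have hgl := InvX.genLocus_pullback (ψ ≫ tr a).left hM s e.symm
    rw [h, AVHomLib.genLocus_eq_bot_of_eq_zero (PicClLib.isInvertible_pullback _ hM)] at hgl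
    exact absurd (show _ ∈ (ψ ≫ tr a).left ⁻¹ᵁ CohB1.genLocus M s from hpt) (by rw [← hgl]; exact id)
  rw [← pair_class_translate hd a, pair_self (inv_pb _ hd), pb_pb, pb_pb,
    lin_mul k hg.le (inv_pair hc _ _) (inv_pb _ hd) (inv_pb _ hd)]
  refine add_nonneg (key _ (IsMonHom.one_hom _)) (key _ ?_)
  rw [← EndAV.End.toHom_neg]
  exact IsMonHom.one_hom _

/-- The trace form is symmetric. -/
theorem trForm_mul_comm (φ ψ : EndAV.End A) : trForm hL hg (φ * ψ) = trForm hL hg (ψ * φ) := by
  haveI : IsIntegral A.left := GeometricallyIntegral.isIntegral_of_subsingleton A.hom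
  rcases Nat.eq_zero_or_pos g with rfl | hg1
  · by_cases h : φ * ψ = 0 ∧ ψ * φ = 0
    · rw [h.1, h.2]
    · rcases not_and_or.1 h with h | h <;> exact absurd (one_le_dim h hg) (by omega)
  obtain ⟨l, hl, F, hF⟩ := exists_rep hg
  have key : ∀ χ : EndAV.End A, ∃ q : ℚ, (q : PadicAlgCl l) = (F χ).trace ∧
      q * (volCl k A.left g ((pair (unitOf hL.1) (𝟙 A) (𝟙 A) : U A) : PicF.Cl A.left) : ℚ) = 2 * trForm hL hg χ := by
    intro χ
    obtain ⟨P, hPm, hPd, hval, -⟩ := exists_charpoly hg χ
    let Q : Polynomial ℚ := (P.map (Int.castRingHom ℚ)).comp (-Polynomial.X)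
    have hev : ∀ j : ℤ, Q.eval (j : ℚ) = ((P.eval (-j) : ℤ) : ℚ) := fun j => by
      simp only [Q, Polynomial.eval_comp, Polynomial.eval_neg, Polynomial.eval_X]
      rw [← Int.cast_neg, Polynomial.eval_intCast_map]
      simp
    have hQ0 : Q ≠ 0 := fun h => by
      have := congrArg (fun R : Polynomial ℚ => R.comp (-Polynomial.X)) h
      simp only [Q, Polynomial.comp_assoc, Polynomial.neg_comp, Polynomial.X_comp, neg_neg, Polynomial.comp_X,
        Polynomial.zero_comp] at this
      exact (hPm.map _).ne_zero this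
    refine ⟨Q.coeff (2 * g - 1), ?_, ?_⟩
    · haveI : Nonempty (Fin (2 * g)) := ⟨⟨0, by omega⟩⟩
      rw [Matrix.trace_eq_neg_charpoly_coeff, hF χ P hval, Fintype.card_fin, Polynomial.coeff_map]
      simp only [Q, show (-Polynomial.X : Polynomial ℚ) = Polynomial.C (-1 : ℚ) * Polynomial.X by simp,
        Polynomial.comp_C_mul_X_coeff, Polynomial.coeff_map, (show Odd (2 * g - 1) from ⟨g - 1, by omega⟩).neg_one_pow]
      simp
    · refine (coeff_trace hL hg hg1 χ Q hQ0 fun j => ?_).trans rfl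
      have e : χ + (j : EndAV.End A) = χ - ((-j : ℤ) : EndAV.End A) := by rw [Int.cast_neg, sub_neg_eq_add]
      rw [e, hev]
      exact ⟨fun h a => by exact_mod_cast (hval (-j)).1 h a, fun h => by exact_mod_cast (hval (-j)).2 h⟩
  obtain ⟨q₁, h₁, e₁⟩ := key (φ * ψ)
  obtain ⟨q₂, h₂, e₂⟩ := key (ψ * φ)
  have : q₁ = q₂ := by
    have h : (q₁ : PadicAlgCl l) = q₂ := by rw [h₁, h₂, map_mul, map_mul, Matrix.trace_mul_comm]
    exact Rat.cast_injective h
  rw [this] at e₁
  linarith

end Form

end Groth.Agent.AVRosati
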