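import Groth.Agent.AVRosati.ConstGrp
import Groth.Agent.H23.MaxAbelian
import Groth.Agent.H23.EquidimFibres
import Groth.Agent.GrpSchLib.Cartier
import Groth.Agent.GrpSchLib.FieldSubgroup
import Groth.Agent.GrpSchLib.RigidHom
import Groth.Agent.WittEndoLib.Basic
import Groth.Prelude.Def_Red
import Groth.Prelude.Def_AlgGrp

/-!
The neutral component of the Albanese scheme of a proper variety is proper.
-/

set_option autoImplicit false
set_option linter.style.haveILetI false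
set_option linter.unusedSectionVars false
set_option backward.isDefEq.respectTransparency false
set_option backward.isDefEq.respectTransparency.types false

universe u

open CategoryTheory CategoryTheory.Limits MonoidalCategory CartesianMonoidalCategory MonObj GrpObj AlgebraicGeometry

namespace Groth.Agent.AVRosati.AlbProper

variable {k : Type u} [Field k]

theorem isTorus_one : Red.IsTorus (𝟙_ (Over (Spec (CommRingCat.of k)))) := by
  let S := Spec (CommRingCat.of k)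
  refine ⟨S, 𝟙 S, inferInstance, inferInstance,
    fun V hV => ⟨V, hV.isCompact, by ext x; exact ⟨by rintro ⟨y, hy, rfl⟩; exact hy, fun hx => ⟨x, hx, rfl⟩⟩⟩,
    fun s => ⟨⊤, trivial, 0, ?_⟩⟩
  let U : Scheme.{u} := (⊤ : S.Opens)
  let T := Red.bc ((⊤ : S.Opens).ι ≫ 𝟙 S) (𝟙_ (Over S))
  let D := Red.DS U (Fin 0 → ℤ)
  haveI : IsIso D.hom := by
    haveI : IsIso (Red.diag (ULift.{u} ℤ) (Fin 0 → ℤ)).hom := by
      change IsIso (Spec.map (CommRingCat.ofHom (algebraMap (ULift.{u} ℤ) (MonoidAlgebra (ULift.{u} ℤ) (Multiplicative (Fin 0 → ℤ))))))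
      have : Function.Bijective (algebraMap (ULift.{u} ℤ) (MonoidAlgebra (ULift.{u} ℤ) (Multiplicative (Fin 0 → ℤ)))) := by
        refine ⟨fun a b h => ?_, fun x => ?_⟩
        · have := congrArg (MonoidAlgebra.lift (ULift.{u} ℤ) (ULift.{u} ℤ) (Multiplicative (Fin 0 → ℤ)) 1) h
          rwa [AlgHom.commutes, AlgHom.commutes, Algebra.algebraMap_self_apply, Algebra.algebraMap_self_apply] at this
        · induction x using MonoidAlgebra.induction_linear with
          | zero => exact ⟨0, map_zero _⟩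
          | add a b ha hb =>
            obtain ⟨a', rfl⟩ := ha
            obtain ⟨b', rfl⟩ := hb
            exact ⟨a' + b', map_add _ _ _⟩
          | single m c => exact ⟨c, by rw [Subsingleton.elim m 1]; rfl⟩
      haveI : IsIso (CommRingCat.ofHom (algebraMap (ULift.{u} ℤ) (MonoidAlgebra (ULift.{u} ℤ) (Multiplicative (Fin 0 → ℤ))))) :=
        (ConcreteCategory.isIso_iff_bijective _).2 this
      infer_instance
    exact inferInstanceAs (IsIso (Limits.pullback.snd _ _))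
  haveI : IsIso (𝟙_ (Over S)).hom := inferInstanceAs (IsIso (𝟙 S))
  haveI : IsIso T.hom := inferInstanceAs (IsIso (Limits.pullback.snd (𝟙_ (Over S)).hom _))
  let e : T ≅ D := Over.isoMk (asIso T.hom ≪≫ (asIso D.hom).symm)
    (by simp)
  have hD : ∀ {W : Over U} (a b : W ⟶ D), a = b := fun a b =>
    Over.OverMorphism.ext ((cancel_mono D.hom).1 ((Over.w a).trans (Over.w b).symm))
  haveI : IsMonHom e.hom := ⟨hD _ _, hD _ _⟩
  exact ⟨Grp.mkIso e (hD _ _) (hD _ _)⟩

theorem isKernel_id {N : Over (Spec (CommRingCat.of k))} [GrpObj N] :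
    AlgGrp.IsKernel (η[N] : 𝟙_ _ ⟶ N) (𝟙 N) := by
  haveI : IsIso (toUnit (𝟙_ (Over (Spec (CommRingCat.of k))))) := by
    rw [toUnit_unique (toUnit (𝟙_ (Over (Spec (CommRingCat.of k))))) (𝟙 _)]
    infer_instance
  refine IsPullback.of_vert_isIso ⟨?_⟩
  rw [Category.comp_id, toUnit_unique (toUnit (𝟙_ (Over (Spec (CommRingCat.of k))))) (𝟙 _), Category.id_comp]

/-- Maps out of a proper variety, normalised at a point, factor through an abelian subvariety. -/
theorem exists_generated [IsAlgClosed k] {X A : Over (Spec (CommRingCat.of k))} [IsIntegral X.left] [IsProper X.hom]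
    [GrpObj A] [IsCommMonObj A] [LocallyOfFiniteType A.hom] (u : X ⟶ A) (x₀ : 𝟙_ _ ⟶ X) :
    ∃ (N : Over (Spec (CommRingCat.of k))) (_ : GrpObj N) (j : N ⟶ A), IsMonHom j ∧ IsClosedImmersion j.left ∧
      IsProper N.hom ∧ GeometricallyIntegral N.hom ∧ ∃ φ : X ⟶ N, φ ≫ j = u * (toUnit X ≫ x₀ ≫ u)⁻¹ := by
  haveI : GeometricallyIntegral X.hom := H23.EquidimFibres.geometricallyIntegral_of_isAlgClosed
  haveI := H23.MaxAbelian.geometricallyIntegral_tensor X X
  haveI : IsProper (X ⊗ X).hom := inferInstanceAs (IsProper (pullback.fst X.hom X.hom ≫ X.hom))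
  haveI : IsLocallyNoetherian A.left := LocallyOfFiniteType.isLocallyNoetherian A.hom
  let ψ₀ : X ⊗ X ⟶ A := (fst X X ≫ u) * (snd X X ≫ u)⁻¹
  let P : Set A.left → Prop := fun Z => ∃ (Q : Over (Spec (CommRingCat.of k))) (_ : IsProper Q.hom)
    (_ : GeometricallyIntegral Q.hom) (ψ : Q ⟶ A) (e : 𝟙_ _ ⟶ Q) (v : Q ⟶ Q),
      e ≫ ψ = η[A] ∧ v ≫ ψ = ψ⁻¹ ∧ Set.range ψ.left = Z ∧ Set.range ψ₀.left ⊆ Z
  have hP0 : P (Set.range ψ₀.left) := by
    refine ⟨X ⊗ X, inferInstance, inferInstance, ψ₀, lift x₀ x₀, lift (snd X X) (fst X X), ?_, ?_, rfl, subset_rfl⟩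
    · simp [ψ₀, MonObj.comp_mul, GrpObj.comp_inv, MonObj.one_eq_one]
    · simp [ψ₀, MonObj.comp_mul, GrpObj.comp_inv, mul_comm]
  obtain ⟨Z, ⟨Q, _, _, ψ, e, v, he, hv, hZ, hZ0⟩, hmax⟩ :=
    H23.MaxAbelian.exists_maximal (η[A].left (IsLocalRing.closedPoint k)) P (fun Z hZ => by
      obtain ⟨Q, hQ, hQg, ψ, e, v, he, -, rfl, -⟩ := hZ
      haveI : IsIntegral Q.left := H23.MaxAbelian.isIntegral_of_geometricallyIntegral
      haveI : IsSeparated A.hom :=
        (isSeparated_iff A.hom).mpr ((GrpSchLib.diagonal_iff_unit @IsClosedImmersion).mpr inferInstance)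
      haveI : IsProper (ψ.left ≫ A.hom) := by rw [Over.w ψ]; infer_instance
      haveI : IsProper ψ.left := IsProper.of_comp ψ.left A.hom
      refine ⟨?_, ψ.left.isClosedMap.isClosed_range, ?_⟩
      · rw [← Set.image_univ]
        exact (IrreducibleSpace.isIrreducible_univ _).image _ ψ.left.continuous.continuousOn
      · rw [← he]; exact ⟨_, rfl⟩) ⟨_, hP0⟩
  haveI := H23.MaxAbelian.geometricallyIntegral_tensor Q Q
  haveI : IsProper (Q ⊗ Q).hom := inferInstanceAs (IsProper (pullback.fst Q.hom Q.hom ≫ Q.hom))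
  let ψ₂ : Q ⊗ Q ⟶ A := (fst Q Q ≫ ψ) * (snd Q Q ≫ ψ)
  have hsub : Z ⊆ Set.range ψ₂.left := by
    rw [← hZ]
    rintro _ ⟨q, rfl⟩
    refine ⟨(lift (𝟙 Q) (toUnit Q ≫ e)).left q, ?_⟩
    rw [← Scheme.Hom.comp_apply, ← Over.comp_left,
      show lift (𝟙 Q) (toUnit Q ≫ e) ≫ ψ₂ = ψ by simp [ψ₂, MonObj.comp_mul, he, MonObj.one_eq_one, MonObj.comp_one]]
  have hP2 : P (Set.range ψ₂.left) := by
    refine ⟨Q ⊗ Q, inferInstance, inferInstance, ψ₂, lift e e, lift (fst Q Q ≫ v) (snd Q Q ≫ v), ?_, ?_, rfl,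
      hZ0.trans hsub⟩
    · simp [ψ₂, MonObj.comp_mul, he, MonObj.one_eq_one]
    · simp [ψ₂, MonObj.comp_mul, hv, GrpObj.comp_inv, mul_comm]
  have heq := hmax _ hP2 hsub
  obtain ⟨N, hN, j, hjm, hjc, hNp, hNg, hjr⟩ := H23.MaxAbelian.exists_image' ψ
    (by rw [← he]; rintro _ ⟨y, rfl⟩; exact ⟨_, rfl⟩)
    (by rw [hZ, heq])
    (by rw [← hv]; rintro _ ⟨y, rfl⟩; exact ⟨_, rfl⟩)
  refine ⟨N, hN, j, hjm, hjc, hNp, hNg, ?_⟩
  let φ : X ⟶ A := u * (toUnit X ≫ x₀ ≫ u)⁻¹
  have hr : Set.range φ.left ⊆ Set.range j.left := by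
    rw [hjr, hZ]
    refine subset_trans ?_ hZ0
    rintro _ ⟨x, rfl⟩
    refine ⟨(lift (𝟙 X) (toUnit X ≫ x₀)).left x, ?_⟩
    rw [← Scheme.Hom.comp_apply, ← Over.comp_left]
    simp [φ, ψ₀, MonObj.comp_mul, GrpObj.comp_inv]
  obtain ⟨m, hm⟩ := H23.RedSub.exists_lift_closed φ.left j.left hr
  exact ⟨Over.homMk m (by rw [← Over.w j, reassoc_of% hm, Over.w]), Over.OverMorphism.ext hm⟩

theorem isProper_neutralComponent [IsAlgClosed k]
    (X : Over (Spec (CommRingCat.of k))) [IsIntegral X.left] [IsProper X.hom]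
    (A : Over (Spec (CommRingCat.of k))) [GrpObj A] [IsCommMonObj A] [IsSeparated A.hom] [LocallyOfFiniteType A.hom]
    (A0 : Over (Spec (CommRingCat.of k))) [GrpObj A0] (e₀ : A0 ⟶ A) [IsMonHom e₀] [IsOpenImmersion e₀.left]
    [ConnectedSpace ↥A0.left]
    (T₀ : Over (Spec (CommRingCat.of k))) [GrpObj T₀] (i₀ : T₀ ⟶ A0) [IsMonHom i₀] [IsClosedImmersion i₀.left]
    (hT₀ : Red.IsTorus T₀)
    (B₀ : Over (Spec (CommRingCat.of k))) [GrpObj B₀] [IsProper B₀.hom] [Smooth B₀.hom] [ConnectedSpace ↥B₀.left]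
    (q₀ : A0 ⟶ B₀) [IsMonHom q₀] [Surjective q₀.left] [Flat q₀.left] (hker₀ : AlgGrp.IsKernel i₀ q₀)
    (u : X ⟶ A)
    (huniv : ∀ (G : Over (Spec (CommRingCat.of k))) [GrpObj G] [IsCommMonObj G] [IsSeparated G.hom] [LocallyOfFiniteType G.hom]
      (G0 : Over (Spec (CommRingCat.of k))) [GrpObj G0] (e : G0 ⟶ G) [IsMonHom e] [IsOpenImmersion e.left]
      [ConnectedSpace ↥G0.left]
      (T : Over (Spec (CommRingCat.of k))) [GrpObj T] (i : T ⟶ G0) [IsMonHom i] [IsClosedImmersion i.left]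
      (_ : Red.IsTorus T)
      (B : Over (Spec (CommRingCat.of k))) [GrpObj B] [IsProper B.hom] [Smooth B.hom] [ConnectedSpace ↥B.left]
      (q : G0 ⟶ B) [IsMonHom q] [Surjective q.left] [Flat q.left] (_ : AlgGrp.IsKernel i q)
      (φ : X ⟶ G), ∃! h : A ⟶ G, IsMonHom h ∧ u ≫ h = φ) :
    IsProper A0.hom := by
  let O1 := 𝟙_ (Over (Spec (CommRingCat.of k)))
  haveI : CompactSpace X.left := QuasiCompact.compactSpace_of_compactSpace X.hom
  haveI : Nonempty X.left := inferInstance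
  obtain ⟨x₀⟩ := GrpSchLib.RigidHom.exists_point X
  obtain ⟨N, _, j, _, _, _, _, φ, hφ⟩ := exists_generated u x₀
  haveI : IsCommMonObj N := isCommMonObj_of_isProper_of_geometricallyIntegral N
  haveI : IsIntegral N.left := GeometricallyIntegral.isIntegral_of_subsingleton N.hom
  haveI : Smooth N.hom := GrpSchLib.smooth_of_isReduced_of_isAlgClosed N
  haveI : IsClosedImmersion (η[N]).left := inferInstance
  haveI : IsOpenImmersion (𝟙 N : N ⟶ N).left := by rw [Over.id_left]; infer_instance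
  haveI : Flat (𝟙 N : N ⟶ N).left := by rw [Over.id_left]; infer_instance
  haveI : Surjective (𝟙 N : N ⟶ N).left := by rw [Over.id_left]; infer_instance
  obtain ⟨h, ⟨hhm, hh⟩, -⟩ := huniv N N (𝟙 N) O1 η[N] isTorus_one N (𝟙 N) isKernel_id φ
  let c : O1 ⟶ A := x₀ ≫ u
  let M : Type u := Multiplicative (ULift.{u} ℤ)
  let Zc := TwC.const (Spec (CommRingCat.of k)) M
  haveI : LocallyOfFiniteType Zc.hom := ConstGrp.locallyOfFiniteType
  haveI : IsSeparated Zc.hom :=
    (isSeparated_iff Zc.hom).mpr ((GrpSchLib.diagonal_iff_unit @IsClosedImmersion).mpr inferInstance)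
  haveI : IsOpenImmersion (η[Zc]).left := ConstGrp.isOpenImmersion_one
  haveI : IsProper O1.hom := inferInstanceAs (IsProper (𝟙 (Spec (CommRingCat.of k))))
  haveI : Smooth O1.hom := inferInstanceAs (Smooth (𝟙 (Spec (CommRingCat.of k))))
  haveI : ConnectedSpace ↥O1.left := inferInstanceAs (ConnectedSpace (PrimeSpectrum k))
  haveI : IsClosedImmersion (η[O1]).left := inferInstance
  haveI : Flat (𝟙 O1 : O1 ⟶ O1).left := by rw [Over.id_left]; infer_instance
  haveI : Surjective (𝟙 O1 : O1 ⟶ O1).left := by rw [Over.id_left]; infer_instance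
  obtain ⟨h3, ⟨h3m, h3u⟩, -⟩ := huniv Zc O1 η[Zc] O1 η[O1] isTorus_one O1 (𝟙 O1) isKernel_id
    (toUnit X ≫ TwC.pt (Spec (CommRingCat.of k)) M (Multiplicative.ofAdd ⟨1⟩))
  let χ : M →* (O1 ⟶ A) :=
    { toFun := fun m => c ^ (Multiplicative.toAdd m).down
      map_one' := zpow_zero c
      map_mul' := fun a b => zpow_add c _ _ }
  haveI := ConstGrp.isMonHom_desc χ
  haveI : IsMonHom (h ≫ j) := inferInstance
  haveI : IsMonHom (h3 ≫ ConstGrp.desc χ) := inferInstance
  haveI hK := WittEndoLib.isMonHom_mul (h ≫ j) (h3 ≫ ConstGrp.desc χ)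
  have hu : u ≫ ((h ≫ j) * (h3 ≫ ConstGrp.desc χ)) = u := by
    rw [MonObj.comp_mul, ← Category.assoc u h, hh, hφ, ← Category.assoc u h3, h3u, Category.assoc, ConstGrp.pt_desc]
    show u * (toUnit X ≫ x₀ ≫ u)⁻¹ * (toUnit X ≫ c ^ ((1 : ℤ))) = u
    rw [zpow_one, inv_mul_cancel_right]
  have hid : (h ≫ j) * (h3 ≫ ConstGrp.desc χ) = 𝟙 A := by
    obtain ⟨h', -, huq⟩ := huniv A A0 e₀ T₀ i₀ hT₀ B₀ q₀ hker₀ u
    exact (huq _ ⟨hK, hu⟩).trans (huq _ ⟨inferInstance, Category.comp_id u⟩).symm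
  have hz : e₀ ≫ h3 = 1 := by
    apply ConstGrp.idx_injective
    rw [ConstGrp.idx_one]
    refine LocallyConstant.ext fun a => ?_
    refine ((ConstGrp.idx (e₀ ≫ h3)).isLocallyConstant.apply_eq_of_preconnectedSpace a
      (η[A0].left (IsLocalRing.closedPoint k))).trans ?_
    have h1 : η[A0] ≫ e₀ ≫ h3 = 1 := by rw [← MonObj.one_eq_one]; exact IsMonHom.one_hom (e₀ ≫ h3)
    have h2 := congrArg (fun f => ConstGrp.idx f (IsLocalRing.closedPoint k)) h1
    rw [ConstGrp.idx_comp, ConstGrp.idx_one] at h2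
    exact h2
  have hfac : e₀ ≫ h ≫ j = e₀ := by
    have := congrArg (e₀ ≫ ·) hid
    simp only [MonObj.comp_mul, Category.comp_id] at this
    rw [← Category.assoc e₀ h3, hz, MonObj.one_comp, _root_.mul_one] at this
    exact this
  -- the neutral component is closed
  haveI : IsClosedImmersion e₀.left := by
    refine IsClosedImmersion.of_isPreimmersion e₀.left ?_
    exact GrpSchLib.isClosed_range_of_isLocallyClosed e₀ e₀.left.isOpenEmbedding.isOpen_range.isLocallyClosed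
  haveI : IsClosedImmersion ((e₀ ≫ h).left ≫ j.left) := by
    rw [← Over.comp_left, Category.assoc, hfac]; infer_instance
  haveI : IsClosedImmersion (e₀ ≫ h).left := IsClosedImmersion.of_comp (e₀ ≫ h).left j.left
  rw [← Over.w (e₀ ≫ h)]
  infer_instance

end Groth.Agent.AVRosati.AlbProper
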