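import Groth.Prelude.Def_TwC
import Mathlib.CategoryTheory.Monoidal.Cartesian.Grp
import Mathlib.Topology.LocallyConstant.Algebra
import Mathlib.AlgebraicGeometry.Morphisms.FiniteType
import Mathlib.AlgebraicGeometry.Morphisms.Etale

/-!
Constant group schemes with an arbitrary abstract commutative group, by their functor of points.
-/

set_option autoImplicit false
set_option linter.style.haveILetI false
set_option linter.unusedSectionVars false
set_option backward.isDefEq.respectTransparency false
set_option backward.isDefEq.respectTransparency.types false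

universe u

open CategoryTheory CategoryTheory.Limits MonoidalCategory CartesianMonoidalCategory MonObj AlgebraicGeometry
  TopologicalSpace

namespace Groth.Agent.AVRosati.ConstGrp

variable {S : Scheme.{u}} {M : Type u}

/-- The index of a point of the constant scheme, as a locally constant function. -/
noncomputable def fstLC (S : Scheme.{u}) (M : Type u) :
    LocallyConstant ↥(∐ fun _ : M => S) M where
  toFun y := ((sigmaMk fun _ : M => S).symm y).1
  isLocallyConstant := (IsLocallyConstant.iff_isOpen_fiber).2 fun m => by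
    have h : (fun y => ((sigmaMk fun _ : M => S).symm y).1) ⁻¹' {m} =
        (sigmaMk fun _ : M => S).symm ⁻¹' Set.range (Sigma.mk m) := by
      ext y
      constructor
      · intro hy
        rcases hz : (sigmaMk fun _ : M => S).symm y with ⟨i, z⟩
        have : i = m := by simpa [hz] using hy
        subst this
        exact ⟨z, hz.symm⟩
      · rintro ⟨z, hz⟩
        show ((sigmaMk fun _ : M => S).symm y).1 = m
        rw [← hz]
    rw [h]
    exact isOpen_range_sigmaMk.preimage (sigmaMk fun _ : M => S).symm.continuous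

theorem fstLC_ι (m : M) (s : S) : fstLC S M (Sigma.ι (fun _ : M => S) m s) = m := by
  show ((sigmaMk fun _ : M => S).symm (Sigma.ι (fun _ : M => S) m s)).1 = m
  rw [← sigmaMk_mk, Homeomorph.symm_apply_apply]

theorem mem_range_of_fstLC {y : ↥(∐ fun _ : M => S)} {m : M} (h : fstLC S M y = m) :
    y ∈ Set.range (Sigma.ι (fun _ : M => S) m) := by
  obtain ⟨⟨i, z⟩, rfl⟩ := (sigmaMk fun _ : M => S).surjective y
  rw [sigmaMk_mk, fstLC_ι] at h
  subst h
  exact ⟨z, (sigmaMk_mk _ _ _).symm⟩

/-- The index function of a point of the constant scheme. -/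
noncomputable def idx {T : Over S} (h : T ⟶ TwC.const S M) : LocallyConstant ↥T.left M :=
  (fstLC S M).comap ⟨h.left, h.left.continuous⟩

theorem idx_comp {T T' : Over S} (f : T' ⟶ T) (h : T ⟶ TwC.const S M) :
    idx (f ≫ h) = (idx h).comap ⟨f.left, f.left.continuous⟩ := rfl

theorem idx_apply {T : Over S} (h : T ⟶ TwC.const S M) (x : T.left) : idx h x = fstLC S M (h.left x) := rfl

theorem idx_pt {T : Over S} (m : M) : idx (toUnit T ≫ TwC.pt S M m) = LocallyConstant.const _ m := by
  ext x
  exact fstLC_ι m _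

/-- The piece where a locally constant function has a given value. -/
noncomputable def piece {T : Over S} (a : LocallyConstant ↥T.left M) (m : M) : T.left.Opens :=
  ⟨a ⁻¹' {m}, a.isLocallyConstant.isOpen_fiber m⟩

theorem iSup_piece {T : Over S} (a : LocallyConstant ↥T.left M) : ⨆ m, piece a m = ⊤ :=
  top_le_iff.mp fun x _ => TopologicalSpace.Opens.mem_iSup.mpr ⟨a x, rfl⟩

theorem left_eq_of_piece {T : Over S} (h : T ⟶ TwC.const S M) (m : M) :
    (piece (idx h) m).ι ≫ h.left = ((piece (idx h) m).ι ≫ T.hom) ≫ Sigma.ι (fun _ : M => S) m := by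
  have hr : Set.range ((piece (idx h) m).ι ≫ h.left) ⊆ Set.range (Sigma.ι (fun _ : M => S) m) := by
    rintro _ ⟨x, rfl⟩
    exact mem_range_of_fstLC x.2
  have hl := IsOpenImmersion.lift_fac (Sigma.ι (fun _ : M => S) m) _ hr
  have h1 := congrArg (· ≫ Sigma.desc fun _ : M => 𝟙 S) hl
  simp only [Category.assoc, Sigma.ι_desc, Category.comp_id] at h1
  have h2 : h.left ≫ (Sigma.desc fun _ : M => 𝟙 S) = T.hom := Over.w h
  rw [h2] at h1
  rw [← hl, h1]

theorem idx_injective {T : Over S} : Function.Injective (idx : (T ⟶ TwC.const S M) → _) := fun a b h => by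
  refine Over.OverMorphism.ext ((T.left.openCoverOfIsOpenCover _ (iSup_piece (idx a))).hom_ext _ _ fun m => ?_)
  show (piece (idx a) m).ι ≫ a.left = (piece (idx a) m).ι ≫ b.left
  rw [left_eq_of_piece a m, h, left_eq_of_piece b m]

theorem idx_surjective {T : Over S} : Function.Surjective (idx : (T ⟶ TwC.const S M) → _) := fun a => by
  let 𝒰 := T.left.openCoverOfIsOpenCover (piece a) (iSup_piece a)
  let f : ∀ m : M, (piece a m : Scheme.{u}) ⟶ ∐ fun _ : M => S := fun m =>
    ((piece a m).ι ≫ T.hom) ≫ Sigma.ι (fun _ : M => S) m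
  have hf : ∀ i j : M, pullback.fst (𝒰.f i) (𝒰.f j) ≫ f i = pullback.snd (𝒰.f i) (𝒰.f j) ≫ f j := by
    intro i j
    by_cases hij : i = j
    · subst hij
      have hc : pullback.fst (piece a i).ι (piece a i).ι = pullback.snd (piece a i).ι (piece a i).ι :=
        (cancel_mono (piece a i).ι).1 pullback.condition
      show pullback.fst (piece a i).ι (piece a i).ι ≫ f i = pullback.snd (piece a i).ι (piece a i).ι ≫ f i
      rw [hc]
    · haveI : IsEmpty ↥(pullback (𝒰.f i) (𝒰.f j)) := ⟨fun z => hij (by
        have h1 := (pullback.fst (piece a i).ι (piece a j).ι z).2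
        have h2 := (pullback.snd (piece a i).ι (piece a j).ι z).2
        have h3 : (piece a i).ι (pullback.fst (piece a i).ι (piece a j).ι z) =
            (piece a j).ι (pullback.snd (piece a i).ι (piece a j).ι z) := by
          rw [← Scheme.Hom.comp_apply, ← Scheme.Hom.comp_apply, pullback.condition]
        exact h1.symm.trans ((congrArg a h3).trans h2))⟩
      exact isInitialOfIsEmpty.hom_ext _ _
  let g := 𝒰.glueMorphisms f hf
  have hg : g ≫ (TwC.const S M).hom = T.hom := 𝒰.hom_ext _ _ fun m => by
    rw [Scheme.Cover.ι_glueMorphisms_assoc]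
    show (((piece a m).ι ≫ T.hom) ≫ Sigma.ι (fun _ : M => S) m) ≫ (Sigma.desc fun _ : M => 𝟙 S) = (piece a m).ι ≫ T.hom
    simp
  refine ⟨Over.homMk g hg, ?_⟩
  ext x
  have hx : x ∈ piece a (a x) := rfl
  show fstLC S M (g x) = a x
  have h := congrArg (fun k : (piece a (a x) : Scheme.{u}) ⟶ ∐ fun _ : M => S => k ⟨x, hx⟩)
    (Scheme.Cover.ι_glueMorphisms 𝒰 f hf (a x))
  refine (congrArg (fstLC S M) h).trans ?_
  exact fstLC_ι _ _

variable [CommGroup M]

/-- The group functor of a constant group. -/
noncomputable def F (S : Scheme.{u}) (M : Type u) [CommGroup M] : (Over S)ᵒᵖ ⥤ GrpCat.{u} where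
  obj T := GrpCat.of (LocallyConstant ↥(T.unop.left) M)
  map f := GrpCat.ofHom (LocallyConstant.comapMonoidHom ⟨f.unop.left, f.unop.left.continuous⟩)

/-- The constant scheme represents it. -/
noncomputable def rep (S : Scheme.{u}) (M : Type u) [CommGroup M] :
    (F S M ⋙ forget _).RepresentableBy (TwC.const S M) where
  homEquiv := Equiv.ofBijective idx ⟨idx_injective, idx_surjective⟩
  homEquiv_comp f h := idx_comp f h

noncomputable instance grpObj : GrpObj (TwC.const S M) := GrpObj.ofRepresentableBy _ (F S M) (rep S M)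

theorem idx_mul {T : Over S} (a b : T ⟶ TwC.const S M) : idx (a * b) = idx a * idx b :=
  ((yonedaGrpObjIsoOfRepresentableBy (TwC.const S M) (F S M) (rep S M)).hom.app (Opposite.op T)).hom.map_mul a b

theorem idx_one {T : Over S} : idx (1 : T ⟶ TwC.const S M) = 1 :=
  ((yonedaGrpObjIsoOfRepresentableBy (TwC.const S M) (F S M) (rep S M)).hom.app (Opposite.op T)).hom.map_one

theorem one_eq_pt : (η[TwC.const S M] : 𝟙_ (Over S) ⟶ TwC.const S M) = TwC.pt S M 1 := by
  apply idx_injective
  have h := idx_pt (S := S) (T := 𝟙_ (Over S)) (1 : M)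
  rw [toUnit_unique (toUnit (𝟙_ (Over S))) (𝟙 _), Category.id_comp] at h
  rw [h, MonObj.one_eq_one, idx_one]
  rfl

instance isCommMonObj : IsCommMonObj (TwC.const S M) where
  mul_comm := by
    have h : μ[TwC.const S M] = fst _ _ * snd _ _ := by rw [Hom.mul_def, lift_fst_snd, Category.id_comp]
    rw [h, MonObj.comp_mul, braiding_hom_fst, braiding_hom_snd]
    exact idx_injective (by rw [idx_mul, idx_mul, mul_comm])

theorem isOpenImmersion_one : IsOpenImmersion (η[TwC.const S M]).left := by
  rw [one_eq_pt]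
  exact inferInstanceAs (IsOpenImmersion (Sigma.ι (fun _ : M => S) 1))

theorem locallyOfFiniteType : LocallyOfFiniteType (TwC.const S M).hom :=
  IsZariskiLocalAtSource.sigmaDesc fun _ => inferInstanceAs (LocallyOfFiniteType (𝟙 S))

/-- Points are locally the standard sections. -/
theorem restrict_eq {T W : Over S} (j : W ⟶ T) (a : T ⟶ TwC.const S M) (m : M) (h : ∀ x, idx a (j.left x) = m) :
    j ≫ a = toUnit W ≫ TwC.pt S M m := by
  apply idx_injective
  rw [idx_pt, idx_comp]
  ext x
  exact h x

/-- The homomorphism out of a constant group given by a homomorphism to the group of sections. -/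
noncomputable def desc {G : Over S} [GrpObj G] (χ : M →* (𝟙_ (Over S) ⟶ G)) : TwC.const S M ⟶ G :=
  Over.homMk (Sigma.desc fun m => (χ m).left) (Sigma.hom_ext _ _ fun m => by
    rw [Sigma.ι_desc_assoc]
    show (χ m).left ≫ G.hom = Sigma.ι (fun _ : M => S) m ≫ (Sigma.desc fun _ : M => 𝟙 S)
    rw [Sigma.ι_desc]
    exact Over.w (χ m))

theorem pt_desc {G : Over S} [GrpObj G] (χ : M →* (𝟙_ (Over S) ⟶ G)) (m : M) : TwC.pt S M m ≫ desc χ = χ m :=
  Over.OverMorphism.ext (Sigma.ι_desc _ _)

theorem isMonHom_desc {G : Over S} [GrpObj G] (χ : M →* (𝟙_ (Over S) ⟶ G)) : IsMonHom (desc χ) := by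
  refine ⟨?_, ?_⟩
  · rw [one_eq_pt, pt_desc, map_one, MonObj.one_eq_one]
  · have h : μ[TwC.const S M] = fst _ _ * snd _ _ := by rw [Hom.mul_def, lift_fst_snd, Category.id_comp]
    have h' : μ[G] = fst _ _ * snd _ _ := by rw [Hom.mul_def, lift_fst_snd, Category.id_comp]
    rw [h, h', MonObj.comp_mul, tensorHom_fst, tensorHom_snd]
    let P := TwC.const S M ⊗ TwC.const S M
    let a : P ⟶ TwC.const S M := fst _ _
    let b : P ⟶ TwC.const S M := snd _ _
    show (a * b) ≫ desc χ = (a ≫ desc χ) * (b ≫ desc χ)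
    refine Over.OverMorphism.ext ((P.left.openCoverOfIsOpenCover
      (fun mn : M × M => piece (idx a) mn.1 ⊓ piece (idx b) mn.2) (top_le_iff.mp fun x _ =>
        TopologicalSpace.Opens.mem_iSup.mpr ⟨(idx a x, idx b x), rfl, rfl⟩)).hom_ext _ _ fun mn => ?_)
    let W : Over S := Over.mk ((piece (idx a) mn.1 ⊓ piece (idx b) mn.2).ι ≫ P.hom)
    let j : W ⟶ P := Over.homMk (piece (idx a) mn.1 ⊓ piece (idx b) mn.2).ι rfl
    show (j ≫ (a * b) ≫ desc χ).left = (j ≫ ((a ≫ desc χ) * (b ≫ desc χ))).left
    congr 1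
    have ha := restrict_eq j a mn.1 fun x => x.2.1
    have hb := restrict_eq j b mn.2 fun x => x.2.2
    have hab := restrict_eq j (a * b) (mn.1 * mn.2) fun x => by
      rw [idx_mul]
      exact congrArg₂ (· * ·) x.2.1 x.2.2
    rw [← Category.assoc, hab, MonObj.comp_mul, ← Category.assoc j a, ha, ← Category.assoc j b, hb,
      Category.assoc, Category.assoc, Category.assoc, pt_desc, pt_desc, pt_desc, map_mul, MonObj.comp_mul]

end Groth.Agent.AVRosati.ConstGrp
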