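import Groth.Agent.AVRosati.Lin
import Groth.Agent.HilbPoly.Pos
import Groth.Agent.AmpleX.Basis
import Groth.Agent.InvX.GenLocusPull
import Groth.Agent.VarDim.Local

/-!
An effective divisor meets the power of an ample class positively.
-/

noncomputable section

set_option linter.style.haveILetI false
set_option linter.unusedSectionVars false
set_option backward.isDefEq.respectTransparency false
set_option backward.isDefEq.respectTransparency.types false

universe u

open CategoryTheory CategoryTheory.Limits AlgebraicGeometry TopologicalSpace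

namespace Groth.Agent.AVRosati

open AVDegPoly HilbPoly

open scoped Groth.Agent.H23.PicMul

section Sections

variable {X : Scheme.{u}} {M : X.Modules}

/-- A section generating everywhere is an isomorphism. -/
theorem isIso_of_genLocus_eq_top (s : Coh.structureModule X ⟶ M) (h : CohB1.genLocus M s = ⊤) : IsIso s := by
  have hfr : InvX.IsFrame (InvX.one s) := InvX.isFrame_of_germ fun y hy => by
    obtain ⟨W, hyW, hW⟩ := InvX.mem_genLocus (h ▸ hy : y ∈ CohB1.genLocus M s)
    have := hW.germ_bijective hyW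
    rw [InvX.germ_res'] at this
    exact this
  rw [Scheme.Modules.Hom.isIso_iff_isIso_app]
  intro V
  refine (ConcreteCategory.isIso_iff_bijective _).2 ?_
  show Function.Bijective (s.app V : _ → _)
  rw [show (s.app V : _ → _) = fun r : Γ(X, V) => r • AModX.res M (le_top : V ≤ ⊤) (InvX.one s) from
    funext fun r => InvX.app_eq_smul s r]
  exact hfr V le_top

theorem genLocus_ne_top (s : Coh.structureModule X ⟶ M) (hs : ¬ IsIso s) : CohB1.genLocus M s ≠ ⊤ :=
  fun h => hs (isIso_of_genLocus_eq_top s h)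

theorem genLocus_eq_top_of_isIso (s : Coh.structureModule X ⟶ M) [IsIso s] : CohB1.genLocus M s = ⊤ :=
  top_le_iff.1 (le_sSup (show IsIso ((Scheme.Modules.restrictFunctor (⊤ : X.Opens).ι).map s) from inferInstance))

/-- A nonzero section of an invertible module generates somewhere. -/
theorem genLocus_ne_bot [IsReduced X] (hM : PicF.IsInvertible M) (s : Coh.structureModule X ⟶ M) (hs : s ≠ 0) :
    CohB1.genLocus M s ≠ ⊥ := fun h => by
  choose U hxU e he using fun x => InvX.exists_frame hM x
  refine hs (InvX.hom_ext_of_frames (M := Coh.structureModule X) U (fun x => ⟨x, hxU x⟩) _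
    (fun a => InvX.isFrame_one (U a)) fun a => ?_)
  obtain ⟨g, hg⟩ := (he a).exists_coord le_rfl (AModX.res M (le_top : U a ≤ ⊤) (InvX.one s))
  rw [AModX.res_self] at hg
  have h0 := InvX.genLocus_inf s (he a) hg
  rw [h, bot_inf_eq] at h0
  have hg0 : g = 0 := (basicOpen_eq_bot_iff g).1 h0.symm
  rw [show s.app (U a) (show Γ(Coh.structureModule X, U a) from (1 : Γ(X, U a))) = _ from InvX.app_eq_smul s 1,
    one_smul, hg, hg0, zero_smul]
  rfl

/-- A nonzero section on an integral scheme is injective. -/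
theorem mono_of_ne_zero [IsIntegral X] (hM : PicF.IsInvertible M) (s : Coh.structureModule X ⟶ M) (hs : s ≠ 0) :
    Mono s := by
  obtain ⟨x, hx⟩ := (Opens.ne_bot_iff_nonempty _).1 (genLocus_ne_bot hM s hs)
  obtain ⟨W, hxW, hW⟩ := InvX.mem_genLocus hx
  refine QCoh.mono_of_app_injective _ fun V => (injective_iff_map_eq_zero _).2 fun r hr => ?_
  rcases (V : Set X).eq_empty_or_nonempty with hV | hV
  · obtain rfl : V = ⊥ := Opens.ext hV
    haveI : Subsingleton Γ(X, (⊥ : X.Opens)) := inferInstance
    exact @Subsingleton.elim Γ(X, (⊥ : X.Opens)) inferInstance _ _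
  · haveI : Nonempty (V ⊓ W : X.Opens) :=
      (nonempty_preirreducible_inter V.2 W.2 hV ⟨x, hxW⟩).to_subtype
    refine map_injective_of_isIntegral X (homOfLE (inf_le_left : V ⊓ W ≤ V))
      (show AModX.resR (inf_le_left : V ⊓ W ≤ V) r = AModX.resR (inf_le_left : V ⊓ W ≤ V) 0 from ?_)
    refine hW.coord_unique inf_le_right ?_
    have := congrArg (AModX.res M (inf_le_left : V ⊓ W ≤ V))
      ((InvX.app_eq_smul s (show Γ(X, V) from r)).symm.trans hr)
    rw [AModX.res_smul, AModX.res_res, map_zero] at this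
    rw [AModX.res_res, this, map_zero, zero_smul]

end Sections

variable (k : Type u) [Field k] {X : Scheme.{u}} [X.Over (Spec (CommRingCat.of k))]
  [IsProper (X ↘ Spec (CommRingCat.of k))] [IsIntegral X]

include k in
/-- The cokernel of a section has dimension one less. -/
theorem dim_support_cokernel {g : ℕ} (hg : topologicalKrullDim X = (g + 1 : ℕ)) {M : X.Modules} (hM : PicF.IsInvertible M)
    (s : Coh.structureModule X ⟶ M) (hs : s ≠ 0) (hs' : ¬ IsIso s) :
    topologicalKrullDim ↥(CohB1.support (cokernel (mulHom s (Coh.structureModule X)))) = (g : WithBot ℕ∞) := by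
  haveI : IsNoetherian X := CurveCohLib.isNoetherian_of_proper (k := k)
  set f := X ↘ Spec (CommRingCat.of k) with hf
  set G := CohB1.genLocus M s
  set C := cokernel (mulHom s (Coh.structureModule X))
  have hsub : CohB1.support C ⊆ ((G : Set X))ᶜ := fun x hx hxG => by
    obtain ⟨U, hU, hxU⟩ : ∃ U : X.Opens, IsIso ((Scheme.Modules.restrictFunctor U.ι).map s) ∧ x ∈ U :=
      Opens.mem_sSup.1 hxG
    haveI := hU
    haveI := isIso_restrict_mulHom s (Coh.structureModule X) (U := U)
    exact notMem_support_of_isZero_restrict (isZero_restrict_cokernel U _) hxU hx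
  have hO : ∀ x : X, x ∈ CohB1.support (Coh.structureModule X) := fun x h => by
    haveI : Subsingleton ((Coh.structureModule X).presheaf.stalk x) := h
    obtain ⟨W, hxW, _, _, he⟩ := (Coh.structureModule X).presheaf.germ_eq x (U := ⊤) (V := ⊤) trivial trivial
      (show Γ(Coh.structureModule X, ⊤) from (1 : Γ(X, ⊤))) 0 (Subsingleton.elim _ _)
    haveI : Nonempty W := ⟨⟨x, hxW⟩⟩
    rw [map_zero] at he
    exact one_ne_zero (α := Γ(X, W)) ((map_one (X.presheaf.map (homOfLE le_top).op).hom).symm.trans he)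
  have hsupp : CohB1.support C = ((G : Set X))ᶜ := hsub.antisymm fun x hx =>
    mem_support_cokernel_mulHom QCoh.isCoh_structureModule' hM s (hO x) hx
  rw [hsupp]
  have hη : genericPoint X ∈ G := by
    obtain ⟨x, hx⟩ := (Opens.ne_bot_iff_nonempty _).1 (genLocus_ne_bot hM s hs)
    exact (genericPoint_specializes x).mem_open G.2 hx
  have huniv : closure ({genericPoint X} : Set X) = Set.univ := (genericPoint_spec X).def
  refine le_antisymm (le_of_lt_succ (dim_lt_closure (x := genericPoint X) ?_ G.2.isClosed_compl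
    (huniv.symm ▸ Set.subset_univ _) fun h => h hη)) ?_
  · rw [huniv, (Homeomorph.Set.univ X).isHomeomorph.topologicalKrullDim_eq, hg]
  obtain ⟨x, hx⟩ : ((G : Set X))ᶜ.Nonempty := Set.nonempty_compl.2 fun h => genLocus_ne_top s hs' (Opens.ext h)
  obtain ⟨U₀, hxU₀, e₀, he₀⟩ := InvX.exists_frame hM x
  obtain ⟨U, hU, hxU, hle⟩ := exists_isAffineOpen_mem_and_subset (x := x) (U := U₀) hxU₀
  obtain ⟨a, ha⟩ := (he₀.res (show U ≤ U₀ from hle)).exists_coord le_rfl (AModX.res M (le_top : U ≤ ⊤) (InvX.one s))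
  rw [AModX.res_self] at ha
  have key : ∀ Q : PrimeSpectrum Γ(X, U), hU.fromSpec Q ∈ G ↔ a ∉ Q.asIdeal := fun Q => by
    have h1 : hU.fromSpec Q ∈ X.basicOpen a ↔ Q ∈ PrimeSpectrum.basicOpen a := by
      rw [← hU.fromSpec_preimage_basicOpen]
      rfl
    rw [← PrimeSpectrum.mem_basicOpen, ← h1, ← InvX.genLocus_inf s (he₀.res (show U ≤ U₀ from hle)) ha]
    exact ⟨fun h => ⟨h, VarDim.fromSpec_mem hU Q⟩, fun h => h.1⟩
  obtain ⟨P₀, rfl⟩ := VarDim.exists_fromSpec_eq hU hxU
  obtain ⟨p, hp, -⟩ := Ideal.exists_minimalPrimes_le (I := Ideal.span {a}) (J := P₀.asIdeal)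
    (Ideal.span_le.2 (Set.singleton_subset_iff.2 (not_not.1 ((key P₀).not.1 hx))))
  haveI : IsNoetherianRing Γ(X, U) := IsLocallyNoetherian.component_noetherian ⟨U, hU⟩
  let P : PrimeSpectrum Γ(X, U) := ⟨p, hp.1.1⟩
  have hP : hU.fromSpec P ∈ ((G : Set X))ᶜ := fun h =>
    (key P).1 h (hp.1.2 (Ideal.mem_span_singleton_self a))
  have h1 := Ideal.height_le_one_of_isPrincipal_of_mem_minimalPrimes (Ideal.span {a}) P.asIdeal hp
  rw [PrimeSpectrum.height_eq_orderHeight] at h1
  obtain ⟨b, hb, -, hb'⟩ := VarDim.exists_deg_add_stalk f (hU.fromSpec P)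
  rw [VarDim.ringKrullDim_stalk_fromSpec] at hb
  have hb1 : b ≤ 1 := by
    have : ((b : ℕ∞) : WithBot ℕ∞) ≤ ((1 : ℕ∞) : WithBot ℕ∞) := by
      rw [show ((b : ℕ∞) : WithBot ℕ∞) = (b : WithBot ℕ∞) from rfl, ← hb]
      exact_mod_cast h1
    exact_mod_cast this
  have hgen := hb' _ (genericPoint_specializes (hU.fromSpec P))
  have hdeg := VarDim.topologicalKrullDim_eq_deg_genericPoint f
  rw [hg] at hdeg
  have hdeg' : VarDim.deg f (genericPoint X) = g + 1 := by exact_mod_cast hdeg.symm
  have hcl := VarDim.topologicalKrullDim_closure_singleton f (hU.fromSpec P)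
  have hmono : topologicalKrullDim ↥(closure ({hU.fromSpec P} : Set X)) ≤ topologicalKrullDim ↥((G : Set X))ᶜ :=
    (Topology.IsEmbedding.inclusion (G.2.isClosed_compl.closure_subset_iff.2
      (Set.singleton_subset_iff.2 hP))).isInducing.topologicalKrullDim_le
  refine le_trans ?_ hmono
  rw [hcl]
  exact_mod_cast (show g ≤ VarDim.deg f (hU.fromSpec P) by omega)

/-- An effective divisor meets the power of an ample class positively. -/
theorem lin_pos_of_section {L : X.Modules} (hL : CohB1.IsAmple L) {g : ℕ} (hg : topologicalKrullDim X = g)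
    (hg1 : 1 ≤ g) {M : X.Modules} (hM : PicF.IsInvertible M) (s : Coh.structureModule X ⟶ M) (hs : s ≠ 0) (hs' : ¬ IsIso s)
    (c d : (PicF.Cl X)ˣ) (hc : (c : PicF.Cl X) = PicF.cl L) (hd : (d : PicF.Cl X) = PicF.cl M) :
    0 < lin k g c d := by
  obtain ⟨g, rfl⟩ := Nat.exists_eq_add_of_le' hg1
  haveI : IsNoetherian X := CurveCohLib.isNoetherian_of_proper (k := k)
  haveI := mono_of_ne_zero hM s hs
  obtain ⟨E, hE, hEn⟩ := exists_poly_eulerCl k hg.le ![d, c] (fun i => by
    fin_cases i
    exacts [hd ▸ ⟨M, rfl, hM⟩, hc ▸ ⟨L, rfl, hL.1⟩])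
  have hpos : 0 < mult k L g (cokernel (mulHom s (Coh.structureModule X))) := by
    have hd := dim_support_cokernel k hg hM s hs hs'
    exact (mult_nonneg_and_pos k hL g _ (QCoh.isCoh_cokernel QCoh.isQCoh_structureModule
      (CurveDeg.isCoh_of_isInvertible (InvX.isInvertible_tensorMod InvX.isInvertible_structureModule hM)) _) hd.le).2 hd
  haveI : Mono (mulHom s (Coh.structureModule X)) := by
    let e : (DCoh.tensorBi (X := X)).obj (Coh.structureModule X) ≅ 𝟭 X.Modules :=
      ((KFlatLib.tensorBiFlipIso X).app (Coh.structureModule X)).symm ≪≫ AmpleVan.twUnit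
    haveI : Mono (((DCoh.tensorBi (X := X)).obj (Coh.structureModule X)).map s) := by
      rw [← NatIso.naturality_2 e s]
      infer_instance
    rw [mulHom]
    exact mono_comp _ _
  have hC := (additive_lead (additive_euler k) hL.1 g).add
    (ShortComplex.mk _ (cokernel.π (mulHom s (Coh.structureModule X))) (cokernel.condition _))
    { exact := ShortComplex.exact_cokernel _ } QCoh.isCoh_structureModule'
    (CurveDeg.isCoh_of_isInvertible (InvX.isInvertible_tensorMod InvX.isInvertible_structureModule hM))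
    (QCoh.isCoh_cokernel QCoh.isQCoh_structureModule
      (CurveDeg.isCoh_of_isInvertible (InvX.isInvertible_tensorMod InvX.isInvertible_structureModule hM)) _)
  change mult k L g (CohB1.tensorMod (Coh.structureModule X) M) =
    mult k L g (Coh.structureModule X) + mult k L g (cokernel (mulHom s (Coh.structureModule X))) at hC
  have hev : ∀ (i : ℕ) (m : ℕ), (eulerCl k X ((d ^ (i : ℤ) * c ^ (m : ℤ) : (PicF.Cl X)ˣ) : PicF.Cl X) : ℚ) =
      (MvPolynomial.aeval ![Polynomial.C (i : ℚ), Polynomial.X] E).eval (m : ℚ) := fun i m => by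
    rw [eval_aeval_poly, show d ^ (i : ℤ) * c ^ (m : ℤ) = ∏ j, ![d, c] j ^ ![(i : ℤ), (m : ℤ)] j by
      simp [Fin.prod_univ_two], hEn]
    congr 2
    funext j
    fin_cases j <;> simp
  let q : Polynomial ℚ := MvPolynomial.aeval ![Polynomial.C ((1 : ℕ) : ℚ), Polynomial.X] E -
    MvPolynomial.aeval ![Polynomial.C ((0 : ℕ) : ℚ), Polynomial.X] E
  have hq : ∀ m : ℕ, ((Curv2.euler k X (pw L (CohB1.tensorMod (Coh.structureModule X) M) m) -
      Curv2.euler k X (pw L (Coh.structureModule X) m) : ℤ) : ℚ) = q.eval (m : ℚ) := fun m => by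
    rw [Polynomial.eval_sub, ← hev, ← hev]
    push_cast
    refine congrArg₂ (fun a b : ℤ => (a : ℚ) - (b : ℚ)) ?_ ?_
    · refine Eq.trans ?_ (congrArg (eulerCl k X) (show PicF.cl (pw L (CohB1.tensorMod (Coh.structureModule X) M) m) = _ from ?_))
      · rfl
      · unfold pw
        simp only [H23.PicMul.cl_tensor, H23.PicMul.cl_tensorPow, Units.val_mul, zpow_natCast, zpow_one,
          Units.val_pow_eq_pow_val, hc, hd, ← H23.PicMul.one_def, one_mul]
    · refine Eq.trans ?_ (congrArg (eulerCl k X) (show PicF.cl (pw L (Coh.structureModule X) m) = _ from ?_))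
      · rfl
      · unfold pw
        simp only [H23.PicMul.cl_tensor, H23.PicMul.cl_tensorPow, Units.val_mul, zpow_natCast, zpow_zero,
          Units.val_pow_eq_pow_val, hc, ← H23.PicMul.one_def, one_mul, Units.val_one]
  have hdeg : ∀ t ∈ E.support, t 0 + t 1 ≤ g + 1 := fun t ht => by
    have := (MvPolynomial.le_totalDegree ht).trans hE
    rwa [Finsupp.sum_fintype _ _ (fun i => rfl), Fin.sum_univ_two] at this
  have hqcoeff : ∀ j, g ≤ j → q.coeff j = ∑ t ∈ E.support, if t 0 = 1 ∧ t 1 = j then E.coeff t else 0 := fun j hj => by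
    simp only [q, Polynomial.coeff_sub, coeff_aeval_eq_sum, ← Finset.sum_sub_distrib, Fin.prod_univ_two,
      Matrix.cons_val_zero, Matrix.cons_val_one, ← map_pow, Polynomial.coeff_C_mul, Polynomial.coeff_X_pow]
    refine Finset.sum_congr rfl fun t ht => ?_
    have := hdeg t ht
    by_cases hj' : j = t 1
    · subst hj'
      rcases h0 : t 0 with _ | _ | n
      · simp
      · simp
      · omega
    · rw [if_neg hj', if_neg fun h => hj' h.2.symm]
      simp
  have hqdeg : q.natDegree ≤ g := Polynomial.natDegree_le_iff_coeff_eq_zero.2 fun j hj => by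
    rw [hqcoeff j hj.le]
    exact Finset.sum_eq_zero fun t ht => if_neg fun h => by have := hdeg t ht; omega
  have hdiff : (mult k L g (cokernel (mulHom s (Coh.structureModule X))) : ℚ) = g.factorial * q.coeff g := by
    rw [← fwdDiff_eval_eq q hqdeg _ hq]
    rw [show mult k L g (cokernel (mulHom s (Coh.structureModule X))) =
      mult k L g (CohB1.tensorMod (Coh.structureModule X) M) - mult k L g (Coh.structureModule X) from by linarith [hC],
      mult_eq_diff k X hL.1, mult_eq_diff k X hL.1, fwdDiff_iter_eq_sum_shift, fwdDiff_iter_eq_sum_shift,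
      fwdDiff_iter_eq_sum_shift, ← Finset.sum_sub_distrib]
    push_cast
    exact Finset.sum_congr rfl fun j _ => by simp [mul_sub]
  have hlin : lin k (g + 1) c d = ((g + 1).factorial : ℚ) * q.coeff g := by
    rw [(isLin_of_poly k (vol_eq_of_eulerPoly k ![d, c] E hE hEn) c d ![1, 0] ![0, 1]
      (by simp [Fin.prod_univ_two]) (by simp [Fin.prod_univ_two])).lin_eq]
    rw [map_mul, MvPolynomial.aeval_C, Polynomial.algebraMap_eq, Polynomial.coeff_C_mul, hqcoeff g le_rfl]
    congr 1
    rw [MvPolynomial.homogeneousComponent_apply, map_sum, Polynomial.finset_sum_coeff, Finset.sum_filter]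
    refine Finset.sum_congr rfl fun t ht => ?_
    have := hdeg t ht
    rw [MvPolynomial.aeval_monomial, Finsupp.prod_fintype _ _ (fun i => pow_zero _), Fin.prod_univ_two,
      Polynomial.algebraMap_eq, Finsupp.degree_eq_sum, Fin.sum_univ_two]
    simp only [Matrix.cons_val_zero, Matrix.cons_val_one, Int.cast_one, Int.cast_zero, map_one, map_zero, one_mul,
      zero_mul, add_zero, zero_add, one_pow, _root_.mul_one, Polynomial.coeff_C_mul, Polynomial.coeff_X_pow,
      mul_ite, mul_zero]
    split_ifs <;> first | rfl | omega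
  rw [hlin, Nat.factorial_succ, Nat.cast_mul, mul_assoc, ← hdiff]
  exact mul_pos (by positivity) (by exact_mod_cast hpos)

end Groth.Agent.AVRosati
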