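import Groth.Agent.H23.PicMul
import Groth.Agent.InvX.Pullback
import Groth.Agent.InvX.GenLocusPull
import Groth.Agent.AmpleX.Extend

/-!
The pullback of an invertible module by a Frobenius is its power.
-/

noncomputable section

set_option autoImplicit false
set_option linter.style.haveILetI false
set_option linter.unusedSectionVars false
set_option backward.isDefEq.respectTransparency false
set_option backward.isDefEq.respectTransparency.types false

universe u

open CategoryTheory AlgebraicGeometry TopologicalSpace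

namespace Groth.Agent.AVRosati

open AModX InvX AmpleX

open scoped Groth.Agent.H23.PicMul

/-- Morphisms exchanging two families of frames are mutually inverse. -/
theorem nonempty_iso_of_frames {X : Scheme.{u}} {M N : X.Modules} {ι : Type u} (U : ι → X.Opens)
    (hcov : ∀ x, ∃ a, x ∈ U a) (e : ∀ a, Γ(M, U a)) (n : ∀ a, Γ(N, U a)) (he : ∀ a, IsFrame (e a))
    (hn : ∀ a, IsFrame (n a))
    (hc : ∀ (a b : ι) (W : X.Opens) (ha : W ≤ U a) (hb : W ≤ U b) (g : Γ(X, W)),
      res M hb (e b) = g • res M ha (e a) → res N hb (n b) = g • res N ha (n a)) :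
    Nonempty (M ≅ N) := by
  have hc' : ∀ (a b : ι) (W : X.Opens) (ha : W ≤ U a) (hb : W ≤ U b) (g : Γ(X, W)),
      res N hb (n b) = g • res N ha (n a) → res M hb (e b) = g • res M ha (e a) := fun a b W ha hb g hg => by
    obtain ⟨g', hg'⟩ := (he a).exists_coord ha (res M hb (e b))
    rw [hg', (hn a).coord_unique ha ((hc a b W ha hb g' hg').symm.trans hg)]
  refine ⟨⟨ofFrames hcov he hc, ofFrames hcov hn hc', ?_, ?_⟩⟩
  · refine hom_ext_of_frames U hcov e he fun a => ?_
    show (ofFrames hcov hn hc').app (U a) ((ofFrames hcov he hc).app (U a) (e a)) = e a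
    rw [ofFrames_app, ofFrames_app]
  · refine hom_ext_of_frames U hcov n hn fun a => ?_
    show (ofFrames hcov he hc).app (U a) ((ofFrames hcov hn hc').app (U a) (n a)) = n a
    rw [ofFrames_app, ofFrames_app]

variable {X : Scheme.{u}} (F : X ⟶ X) (hFb : F.base = 𝟙 _) (hle : ∀ U : X.Opens, U ≤ F ⁻¹ᵁ U) (q : ℕ)
  (hFapp : ∀ (U : X.Opens) (s : Γ(X, U)), (F.appLE U U (hle U)).hom s = s ^ q)

include hFb in
theorem preimage_eq (U : X.Opens) : F ⁻¹ᵁ U ≤ U := fun x hx => by
  have h : F.base x ∈ U := hx
  rw [hFb] at h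
  exact h

include hFb hle hFapp in
/-- The Frobenius pulls invertible modules back to their `q`-th powers. -/
theorem cl_pullback_frob {L : X.Modules} (hL : PicF.IsInvertible L) :
    PicF.cl ((Scheme.Modules.pullback F).obj L) = PicF.cl L ^ q := by
  choose U hxU e he using fun x => exists_frame hL x
  rw [← H23.PicMul.cl_tensorPow]
  refine H23.PicMul.cl_eq_iff.2 (nonempty_iso_of_frames (fun x => F ⁻¹ᵁ U x) (fun x => ⟨x, hle _ (hxU x)⟩)
    (fun x => pullElt F (e x)) (fun x => res _ (preimage_eq F hFb (U x)) (powElt (e x) q))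
    (fun x => isFrame_pullElt F (he x)) (fun x => (isFrame_powElt (he x) q).res _) fun a b W ha hb g hg => ?_)
  obtain ⟨h, hh⟩ := (he a).exists_coord (inf_le_left : U a ⊓ U b ≤ U a) (res L (inf_le_right : U a ⊓ U b ≤ U b) (e b))
  have hW : W ≤ F ⁻¹ᵁ (U a ⊓ U b) := le_inf ha hb
  have hW' : W ≤ U a ⊓ U b := hW.trans (preimage_eq F hFb _)
  have hgh : g = resR hW (F.app (U a ⊓ U b) h) := by
    refine (isFrame_pullElt F (he a)).coord_unique ha (hg.symm.trans ?_)
    have h1 := congrArg (res _ hW) (congrArg (pullElt F) hh)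
    rw [pullElt_smul, res_smul, ← res_pullElt F inf_le_left, ← res_pullElt F inf_le_right, res_res, res_res] at h1
    exact h1
  have hpow : g = resR hW' h ^ q := by
    rw [hgh, ← map_pow, ← hFapp, Scheme.Hom.appLE]
    exact (resR_resR (hle (U a ⊓ U b)) hW' _).symm
  have h2 := congrArg (fun z : Γ(L, U a ⊓ U b) => res _ hW' (powElt z q)) hh
  simp only [powElt_smul, res_smul, map_pow] at h2
  rw [← res_powElt inf_le_left, ← res_powElt inf_le_right, res_res, res_res] at h2
  rw [res_res, res_res, hpow]
  exact h2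

end Groth.Agent.AVRosati
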