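import Groth.Agent.H23.PosInv
import Mathlib.RingTheory.Artinian.Module
import Mathlib.RingTheory.Polynomial.RationalRoot
import Mathlib.Analysis.Complex.Basic

/-!
Similitudes of a positive definite form on a monogenic commutative rational algebra.
-/

noncomputable section

set_option autoImplicit false
set_option linter.style.haveILetI false
set_option linter.unusedSectionVars false

open Polynomial

namespace Groth.Agent.AVRosati

section

variable {R : Type*} [CommRing R] [Algebra ℚ R] [Module.Finite ℚ R]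
  (S : LinearMap.BilinForm ℚ R) (hsymm : ∀ a b, S a b = S b a) (hpos : ∀ a, a ≠ 0 → 0 < S a a)

include hpos in
theorem eq_zero_of_form {a : R} (h : S a a = 0) : a = 0 := by
  by_contra ha
  exact (hpos a ha).ne' h

include hsymm hpos in
/-- An algebra with positive form and adjoints is reduced. -/
theorem isReduced_of_adjoint (hadj : ∀ y : R, ∃ y' : R, ∀ a b, S (y * a) b = S a (y' * b)) : IsReduced R := by
  refine (isReduced_iff_pow_one_lt 2 one_lt_two).2 fun y hy => ?_
  obtain ⟨y', hy'⟩ := hadj y
  rw [pow_two] at hy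
  have hw : y' * y = 0 := eq_zero_of_form S hpos (by
    have h1 : S (y' * y) (y' * y) = S (y * (y' * y)) y := by rw [hy', hsymm]
    rw [h1, show y * (y' * y) = y' * (y * y) by ring, hy, mul_zero, map_zero, LinearMap.zero_apply])
  refine eq_zero_of_form S hpos ?_
  have h2 := hy' 1 y
  rw [mul_one, hw, map_zero] at h2
  exact h2

variable {x : R} {q : ℕ} (hq : 0 < q) (hsim : ∀ a b, S (x * a) (x * b) = q * S a b)

include hpos hq hsim in
theorem exists_adjoint_similitude : ∃ x' : R, x * x' = (q : R) ∧ ∀ a b, S (x * a) b = S a (x' * b) := by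
  have hinj : Function.Injective (LinearMap.mulLeft ℚ x) := by
    rw [injective_iff_map_eq_zero]
    intro a ha
    refine eq_zero_of_form S hpos ?_
    have h := hsim a a
    rw [LinearMap.mulLeft_apply] at ha
    rw [ha] at h
    simp only [map_zero] at h
    have hq' : (q : ℚ) ≠ 0 := by exact_mod_cast hq.ne'
    exact (mul_eq_zero.1 h.symm).resolve_left hq'
  obtain ⟨v, hv⟩ := (LinearMap.injective_iff_surjective.mp hinj) 1
  rw [LinearMap.mulLeft_apply] at hv
  refine ⟨q * v, by rw [mul_left_comm, hv, mul_one], fun a b => ?_⟩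
  conv_lhs => rw [show b = x * (v * b) by rw [← mul_assoc, hv, one_mul]]
  rw [hsim, mul_assoc, ← nsmul_eq_mul q (v * b), map_nsmul, nsmul_eq_mul]

include hsymm hpos hq hsim in
/-- Characters have absolute value `√q` on a similitude of ratio `q`. -/
theorem normSq_similitude (ρ : R →ₐ[ℚ] ℂ) : Complex.normSq (ρ x) = q := by
  obtain ⟨x', hx', hadj⟩ := exists_adjoint_similitude S hpos hq hsim
  have h := H23.PosInv.map_adjoint S hsymm hpos x x' hadj ρ
  have h2 := congrArg ρ hx'
  rw [map_mul, h, Complex.mul_conj, map_natCast] at h2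
  exact_mod_cast h2

include hsymm hpos hq hsim in
theorem isReduced_similitude (hgen : ∀ y : R, ∃ p : ℚ[X], aeval x p = y) : IsReduced R := by
  obtain ⟨x', -, hadj⟩ := exists_adjoint_similitude S hpos hq hsim
  refine isReduced_of_adjoint S hsymm hpos fun y => ?_
  obtain ⟨p, rfl⟩ := hgen y
  refine ⟨aeval x' p, ?_⟩
  induction p using Polynomial.induction_on with
  | C r =>
    intro a b
    simp only [aeval_C, ← Algebra.smul_def, map_smul, LinearMap.smul_apply]
  | add p r hp hr => intro a b; simp only [map_add, add_mul, LinearMap.add_apply, hp, hr]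
  | monomial n r ih =>
    intro a b
    rw [pow_succ, ← mul_assoc, map_mul (aeval x), map_mul (aeval x'), aeval_X, aeval_X, mul_assoc, ih, hadj, mul_left_comm,
      ← mul_assoc, mul_comm (aeval x' (C r * X ^ n))]

end

/-- A root of the minimal polynomial gives a character of the generated subalgebra. -/
theorem exists_hom {R : Type*} [Ring R] [Algebra ℚ R] (x : R) (z : ℂ) (hz : aeval z (minpoly ℚ x) = 0) :
    ∃ ρ : Algebra.adjoin ℚ ({x} : Set R) →ₐ[ℚ] ℂ, ρ ⟨x, Algebra.self_mem_adjoin_singleton ℚ x⟩ = z := by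
  have hs : ∀ a : Algebra.adjoin ℚ ({x} : Set R), ∃ p : ℚ[X], aeval x p = (a : R) := fun a => by
    have h : (a : R) ∈ Algebra.adjoin ℚ ({x} : Set R) := a.2
    generalize (a : R) = b at h ⊢
    rw [Algebra.adjoin_singleton_eq_range_aeval] at h; exact h
  choose p hp using hs
  have key : ∀ (a : Algebra.adjoin ℚ ({x} : Set R)) (r : ℚ[X]), aeval x r = (a : R) →
      aeval z (p a) = aeval z r := by
    intro a r hr
    obtain ⟨c, hc⟩ := minpoly.dvd ℚ x (p := p a - r) (by rw [map_sub, hp, hr, sub_self])
    rw [← sub_eq_zero, ← map_sub, hc, map_mul, hz, zero_mul]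
  refine ⟨
    { toFun := fun a => aeval z (p a)
      map_one' := (key 1 1 (by simp)).trans (map_one _)
      map_zero' := (key 0 0 (by simp)).trans (map_zero _)
      map_mul' := fun a b => (key (a * b) (p a * p b) (by simp [hp])).trans (map_mul _ _ _)
      map_add' := fun a b => (key (a + b) (p a + p b) (by simp [hp])).trans (map_add _ _ _)
      commutes' := fun r => (key _ (C r) (by simp [Subalgebra.coe_algebraMap])).trans (aeval_C _ _) }, ?_⟩
  exact (key _ X (by simp)).trans (aeval_X _)

/-- The consequences for an element whose algebra has a positive form scaled by it. -/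
theorem similitude_consequences {R : Type*} [Ring R] [Algebra ℚ R] [Module.Finite ℚ R] (x : R)
    (S : LinearMap.BilinForm ℚ R) (hsymm : ∀ a b, S a b = S b a)
    (hpos : ∀ a ∈ Algebra.adjoin ℚ ({x} : Set R), a ≠ 0 → 0 < S a a) (q : ℕ) (hq : 0 < q)
    (hsim : ∀ a b, S (x * a) (x * b) = q * S a b) :
    (∀ z : ℂ, aeval z (minpoly ℚ x) = 0 → Complex.normSq z = q) ∧
      IsSemisimpleRing (Algebra.adjoin ℚ ({x} : Set R)) ∧ Squarefree (minpoly ℚ x) := by
  let B := Algebra.adjoin ℚ ({x} : Set R)
  letI : CommRing B :=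
    { (inferInstance : Ring B) with
      mul_comm := fun a b => Subtype.ext (Algebra.commute_of_mem_adjoin_singleton_of_commute b.2
        (Algebra.commute_of_mem_adjoin_self a.2).symm) }
  haveI : Module.Finite ℚ B := Module.Finite.of_injective B.val.toLinearMap Subtype.val_injective
  let T : LinearMap.BilinForm ℚ B := S.compl₁₂ B.val.toLinearMap B.val.toLinearMap
  let x₀ : B := ⟨x, Algebra.self_mem_adjoin_singleton ℚ x⟩
  have hT : ∀ a : B, a ≠ 0 → 0 < T a a := fun a ha => hpos a a.2 fun h => ha (Subtype.ext h)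
  have hTs : ∀ a b : B, T (x₀ * a) (x₀ * b) = q * T a b := fun a b => hsim a b
  have hgen : ∀ y : B, ∃ p : ℚ[X], aeval x₀ p = y := fun y => by
    have h : (y : R) ∈ Algebra.adjoin ℚ ({x} : Set R) := y.2
    rw [Algebra.adjoin_singleton_eq_range_aeval] at h
    obtain ⟨p, hp⟩ := h
    exact ⟨p, Subtype.ext ((aeval_algHom_apply B.val x₀ p).symm.trans hp)⟩
  haveI hred : IsReduced B := isReduced_similitude T (fun a b => hsymm a b) hT hq hTs hgen
  refine ⟨fun z hz => ?_, ?_, ?_⟩
  · obtain ⟨ρ, hρ⟩ := exists_hom x z hz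
    rw [← hρ]
    exact normSq_similitude T (fun a b => hsymm a b) hT hq hTs ρ
  · haveI : IsArtinianRing B := .of_finite ℚ B
    exact IsArtinianRing.isSemisimpleRing_of_isReduced B
  · intro p hp
    obtain ⟨r, hr⟩ := hp
    have h0 : IsNilpotent (aeval x₀ (p * r)) := ⟨2, by
      rw [← map_pow, show (p * r) ^ 2 = (p * p * r) * r by ring, ← hr, map_mul]
      have : aeval x₀ (minpoly ℚ x) = 0 := Subtype.ext ((aeval_algHom_apply B.val x₀ _).symm.trans (minpoly.aeval ℚ x))
      rw [this, zero_mul]⟩
    have h1 : aeval x (p * r) = 0 := by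
      have := congrArg Subtype.val (h0.eq_zero)
      exact ((aeval_algHom_apply B.val x₀ (p * r))).trans this
    obtain ⟨c, hc⟩ := minpoly.dvd ℚ x h1
    have hm : minpoly ℚ x ≠ 0 := minpoly.ne_zero (IsIntegral.of_finite ℚ x)
    have hpr : p * r ≠ 0 := fun h => hm (by rw [hr, mul_assoc, h, mul_zero])
    rw [hr] at hc
    exact IsUnit.of_mul_eq_one c (mul_left_cancel₀ hpr (by linear_combination -hc))

end Groth.Agent.AVRosati
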