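import Groth.Agent.AVRosati.Squares
import Groth.Agent.AVRosati.Frob
import Groth.Agent.AVRosati.Similitude
import Groth.Agent.AVDegPoly.RootCount

/-!
The Riemann hypothesis for Frobenius endomorphisms of abelian varieties.
-/

noncomputable section

set_option linter.style.haveILetI false
set_option linter.unusedSectionVars false
set_option backward.isDefEq.respectTransparency false
set_option backward.isDefEq.respectTransparency.types false

universe u

open CategoryTheory CategoryTheory.Limits AlgebraicGeometry MonoidalCategory CartesianMonoidalCategory TopologicalSpace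
open scoped MonObj TensorProduct

namespace Groth.Agent.AVRosati

open H23 H23.CubeAb AVDegPoly

open scoped Groth.Agent.H23.PicMul

attribute [local instance] AVDegPoly.overHom

variable {k : Type u} [Field k] {A : Over (Spec (CommRingCat.of k))}
  [GrpObj A] [IsProper A.hom] [GeometricallyIntegral A.hom] [IsCommMonObj A]

/-- The bilinear trace form of a class on endomorphisms. -/
def formEnd {L : A.left.Modules} (hL : CohB1.IsAmple L) {g : ℕ} (hg : topologicalKrullDim A.left = g) :
    EndAV.End A →+ EndAV.End A →+ ℚ :=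
  AddMonoidHom.mk' (fun φ => AddMonoidHom.mk'
      (fun ψ => lin k g (pair (unitOf hL.1) (𝟙 A) (𝟙 A)) (pair (unitOf hL.1) (EndAV.End.toHom φ) (EndAV.End.toHom ψ)))
      fun ψ ψ' => by
        haveI : IsIntegral A.left := GeometricallyIntegral.isIntegral_of_subsingleton A.hom
        have hc := inv_unitOf hL.1
        rw [EndAV.End.toHom_add, pair_comm _ _ (_ * _), pair_mul_left hc,
          lin_mul k hg.le (inv_pair hc _ _) (inv_pair hc _ _) (inv_pair hc _ _), pair_comm _ _ (EndAV.End.toHom φ),
          pair_comm _ _ (EndAV.End.toHom φ)])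
    fun φ φ' => AddMonoidHom.ext fun ψ => by
      haveI : IsIntegral A.left := GeometricallyIntegral.isIntegral_of_subsingleton A.hom
      have hc := inv_unitOf hL.1
      show lin k g _ _ = lin k g _ _ + lin k g _ _
      rw [EndAV.End.toHom_add, pair_mul_left hc, lin_mul k hg.le (inv_pair hc _ _) (inv_pair hc _ _) (inv_pair hc _ _)]

theorem formEnd_apply {L : A.left.Modules} (hL : CohB1.IsAmple L) {g : ℕ} (hg : topologicalKrullDim A.left = g)
    (φ ψ : EndAV.End A) : formEnd hL hg φ ψ =
      lin k g (pair (unitOf hL.1) (𝟙 A) (𝟙 A)) (pair (unitOf hL.1) (EndAV.End.toHom φ) (EndAV.End.toHom ψ)) := rfl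

/-- The bilinear trace form on the rational endomorphism algebra. -/
def form0 {L : A.left.Modules} (hL : CohB1.IsAmple L) {g : ℕ} (hg : topologicalKrullDim A.left = g) :
    LinearMap.BilinForm ℚ (EndAV.End0 A) :=
  LinearMap.liftBaseChange ℚ
    (((LinearMap.liftBaseChangeEquiv ℚ).restrictScalars ℤ).toLinearMap.comp
      (AddMonoidHom.toIntLinearMap
        { toFun := fun φ => (formEnd hL hg φ).toIntLinearMap
          map_zero' := by ext; simp
          map_add' := fun φ φ' => by ext; simp }))

theorem form0_tmul {L : A.left.Modules} (hL : CohB1.IsAmple L) {g : ℕ} (hg : topologicalKrullDim A.left = g)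
    (r s : ℚ) (φ ψ : EndAV.End A) : form0 hL hg (r ⊗ₜ[ℤ] φ) (s ⊗ₜ[ℤ] ψ) = r * (s * formEnd hL hg φ ψ) := by
  rw [form0, LinearMap.liftBaseChange_tmul, LinearMap.smul_apply, smul_eq_mul]
  congr 1
  -- ok

theorem form0_ext {L : A.left.Modules} (hL : CohB1.IsAmple L) {g : ℕ} (hg : topologicalKrullDim A.left = g)
    (π : EndAV.End A) (q : ℚ) (h : ∀ φ ψ, formEnd hL hg (π * φ) (π * ψ) = q * formEnd hL hg φ ψ)
    (a b : EndAV.End0 A) :
    form0 hL hg (EndAV.toEnd0 π * a) (EndAV.toEnd0 π * b) = q * form0 hL hg a b := by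
  induction a using TensorProduct.induction_on with
  | zero => simp
  | add a a' ha ha' => simp only [mul_add, map_add, LinearMap.add_apply, ha, ha']
  | tmul r φ =>
    induction b using TensorProduct.induction_on with
    | zero => simp
    | add b b' hb hb' => simp only [mul_add, map_add, hb, hb']
    | tmul s ψ =>
      rw [EndAV.toEnd0_apply, Algebra.TensorProduct.tmul_mul_tmul, Algebra.TensorProduct.tmul_mul_tmul, form0_tmul,
        form0_tmul, h, _root_.one_mul, _root_.one_mul]
      ring

theorem form0_symm {L : A.left.Modules} (hL : CohB1.IsAmple L) {g : ℕ} (hg : topologicalKrullDim A.left = g)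
    (a b : EndAV.End0 A) : form0 hL hg a b = form0 hL hg b a := by
  induction a using TensorProduct.induction_on with
  | zero => simp
  | add a a' ha ha' => simp only [map_add, LinearMap.add_apply, ha, ha']
  | tmul r φ =>
    induction b using TensorProduct.induction_on with
    | zero => simp
    | add b b' hb hb' => simp only [map_add, LinearMap.add_apply, hb, hb']
    | tmul s ψ =>
      rw [form0_tmul, form0_tmul, formEnd_apply, formEnd_apply, pair_comm _ (EndAV.End.toHom ψ)]
      ring

/-- The rational algebra of an endomorphism scaling an ample class by `q`. -/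
theorem frob_consequences (π : EndAV.End A) {q : ℕ} (hq : 0 < q) {g : ℕ} (hg : topologicalKrullDim A.left = g)
    {L : A.left.Modules} (hL : CohB1.IsAmple L)
    (hπ : PicF.cl ((Scheme.Modules.pullback (EndAV.End.toHom π).left).obj L) = PicF.cl L ^ q) :
    (∀ z : ℂ, Polynomial.aeval z (minpoly ℚ (EndAV.toEnd0 π)) = 0 → Complex.normSq z = q) ∧
      IsSemisimpleRing (EndAV.QAdj π) ∧ Squarefree (minpoly ℚ (EndAV.toEnd0 π)) := by
  haveI : IsIntegral A.left := GeometricallyIntegral.isIntegral_of_subsingleton A.hom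
  haveI := finite_End0 (A := A)
  have hc := inv_unitOf hL.1
  refine similitude_consequences _ (form0 hL hg) (form0_symm hL hg) (fun a ha ha0 => ?_) q hq
    (fun a b => form0_ext hL hg π q (fun φ ψ => ?_) a b)
  · obtain ⟨N, p, hN, hp⟩ := exists_scaled ha
    have hN' : (0 : ℚ) < N := by exact_mod_cast hN
    have hne : Polynomial.aeval π p ≠ 0 := fun h => by
      rw [h, map_zero, smul_eq_zero] at hp
      exact hp.elim hN'.ne' ha0
    have h : ((N : ℚ) * N) * form0 hL hg a a =
        formEnd hL hg (Polynomial.aeval π p) (Polynomial.aeval π p) := by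
      have h1 := form0_tmul hL hg 1 1 (Polynomial.aeval π p) (Polynomial.aeval π p)
      rw [← EndAV.toEnd0_apply, ← hp, _root_.one_mul, _root_.one_mul, map_smul, map_smul, LinearMap.smul_apply,
        smul_eq_mul, smul_eq_mul] at h1
      linarith
    rw [formEnd_apply] at h
    exact pos_of_mul_pos_right ((lin_pb_sym_pos hL hg hne).trans_eq h.symm) (mul_pos hN' hN').le
  · have hpb : pb (EndAV.End.toHom π) (unitOf hL.1) = unitOf hL.1 ^ q := Units.ext (by
      rw [Units.val_pow_eq_pow_val, coe_unitOf, ← hπ]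
      rfl)
    rw [formEnd_apply, formEnd_apply, EndAV.End.toHom_mul, EndAV.End.toHom_mul, ← pair_class_pb, hpb, pair_class_pow,
      lin_pow k hg.le (inv_pair hc _ _) (inv_pair hc _ _)]

/-- The roots of the characteristic polynomial are roots of the minimal polynomial. -/
theorem charpoly_dvd_minpoly_pow (φ : EndAV.End A) {g : ℕ} (hg : topologicalKrullDim A.left = g) (P : Polynomial ℤ)
    (hPm : P.Monic) (hPd : P.natDegree = 2 * g)
    (hval : ∀ n : ℤ, (IsFinite (φ - (n : EndAV.End A)).toHom.left →
        ∀ a : A.left, ((φ - (n : EndAV.End A)).toHom.left.finrank a : ℤ) = P.eval n) ∧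
      (¬ IsFinite (φ - (n : EndAV.End A)).toHom.left → P.eval n = 0)) :
    P.map (Int.castRingHom ℚ) ∣ minpoly ℚ (EndAV.toEnd0 φ) ^ (2 * g) := by
  obtain ⟨l, hl, F, hF⟩ := exists_rep hg
  set m := minpoly ℚ (EndAV.toEnd0 φ)
  have h0 : Polynomial.aeval (F φ) (m.map (algebraMap ℚ (PadicAlgCl l))) = 0 := by
    rw [Polynomial.aeval_map_algebraMap, ← rep0_toEnd0 F φ, Polynomial.aeval_algHom_apply, minpoly.aeval, map_zero]
  have hroots := aeval_root_eq_zero (F φ) _ h0
  rw [hF φ P hval] at hroots
  rw [← Polynomial.map_dvd_map' (algebraMap ℚ (PadicAlgCl l)), Polynomial.map_map,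
    show (algebraMap ℚ (PadicAlgCl l)).comp (Int.castRingHom ℚ) = Int.castRingHom (PadicAlgCl l) from RingHom.ext_int _ _,
    Polynomial.map_pow]
  have hs := IsAlgClosed.splits (P.map (Int.castRingHom (PadicAlgCl l)))
  have hd := prod_X_sub_C_dvd_pow _ _ hroots
  rw [← hs.eq_prod_roots_of_monic (hPm.map _), ← hs.natDegree_eq_card_roots, hPm.natDegree_map, hPd] at hd
  exact hd

/-- The Riemann hypothesis: the roots of the characteristic polynomial have absolute value `√q`. -/
theorem norm_roots_charpoly (π : EndAV.End A) {q : ℕ} (hq : 0 < q) {g : ℕ} (hg : topologicalKrullDim A.left = g)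
    {L : A.left.Modules} (hL : CohB1.IsAmple L)
    (hπ : PicF.cl ((Scheme.Modules.pullback (EndAV.End.toHom π).left).obj L) = PicF.cl L ^ q) (P : Polynomial ℤ)
    (hPm : P.Monic) (hPd : P.natDegree = 2 * g)
    (hval : ∀ n : ℤ, (IsFinite (π - (n : EndAV.End A)).toHom.left →
        ∀ a : A.left, ((π - (n : EndAV.End A)).toHom.left.finrank a : ℤ) = P.eval n) ∧
      (¬ IsFinite (π - (n : EndAV.End A)).toHom.left → P.eval n = 0)) :
    ∀ z ∈ (P.map (Int.castRingHom ℂ)).roots, ‖z‖ = Real.sqrt q := by
  intro z hz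
  have hdvd := Polynomial.map_dvd (algebraMap ℚ ℂ) (charpoly_dvd_minpoly_pow π hg P hPm hPd hval)
  rw [Polynomial.map_map, show (algebraMap ℚ ℂ).comp (Int.castRingHom ℚ) = Int.castRingHom ℂ from RingHom.ext_int _ _,
    Polynomial.map_pow] at hdvd
  have h1 := Polynomial.eval_eq_zero_of_dvd_of_eval_eq_zero hdvd (Polynomial.mem_roots'.1 hz).2
  rw [Polynomial.eval_pow] at h1
  have h2 : Polynomial.aeval z (minpoly ℚ (EndAV.toEnd0 π)) = 0 := by
    rw [Polynomial.aeval_def, ← Polynomial.eval_map]
    exact (pow_eq_zero_iff'.1 h1).1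
  rw [Complex.norm_def, (frob_consequences π hq hg hL hπ).1 z h2]

/-- The constant term is positive. -/
theorem charpoly_eval_zero_pos (π : EndAV.End A) {q : ℕ} (hq : 0 < q) {g : ℕ} (hg : topologicalKrullDim A.left = g)
    {L : A.left.Modules} (hL : CohB1.IsAmple L)
    (hπ : PicF.cl ((Scheme.Modules.pullback (EndAV.End.toHom π).left).obj L) = PicF.cl L ^ q) (P : Polynomial ℤ)
    (hPm : P.Monic) (hPd : P.natDegree = 2 * g)
    (hval : ∀ n : ℤ, (IsFinite (π - (n : EndAV.End A)).toHom.left →
        ∀ a : A.left, ((π - (n : EndAV.End A)).toHom.left.finrank a : ℤ) = P.eval n) ∧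
      (¬ IsFinite (π - (n : EndAV.End A)).toHom.left → P.eval n = 0)) : 0 < P.eval 0 := by
  have hne : P.eval 0 ≠ 0 := fun h => by
    have hmem : (0 : ℂ) ∈ (P.map (Int.castRingHom ℂ)).roots := by
      rw [Polynomial.mem_roots (hPm.map _).ne_zero, Polynomial.IsRoot.def, Polynomial.eval_map, Polynomial.eval₂_at_zero,
        Polynomial.coeff_zero_eq_eval_zero, h, map_zero]
    have h2 := norm_roots_charpoly π hq hg hL hπ P hPm hPd hval 0 hmem
    rw [norm_zero, eq_comm, Real.sqrt_eq_zero (Nat.cast_nonneg q)] at h2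
    exact hq.ne' (by exact_mod_cast h2)
  refine lt_of_le_of_ne ?_ hne.symm
  by_cases h : IsFinite (π - ((0 : ℤ) : EndAV.End A)).toHom.left
  · rw [← (hval 0).1 h ((η[A]).left (IsLocalRing.closedPoint k))]
    exact Int.natCast_nonneg _
  · exact absurd ((hval 0).2 h) hne

/-- An abelian variety has an ample module whose pullback by a Frobenius is its power. -/
theorem exists_ample_frob (πA : A ⟶ A) (hb : πA.left.base = 𝟙 _) (hle : ∀ U : A.left.Opens, U ≤ πA.left ⁻¹ᵁ U)
    (q : ℕ) (happ : ∀ (U : A.left.Opens) (s : Γ(A.left, U)), (πA.left.appLE U U (hle U)).hom s = s ^ q) :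
    ∃ (L : A.left.Modules), CohB1.IsAmple L ∧
      PicF.cl ((Scheme.Modules.pullback πA.left).obj L) = PicF.cl L ^ q := by
  obtain ⟨L, hL⟩ := AVProj.exists_isAmple (X := A)
  exact ⟨L, hL, cl_pullback_frob πA.left hb hle q happ hL.1⟩

end Groth.Agent.AVRosati
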