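import Groth.Agent.AVRosati.ZetaAV

/-!
The functional equation of the products over sub-multisets.
-/

noncomputable section

set_option linter.style.haveILetI false
set_option linter.unusedSectionVars false

open scoped Polynomial

namespace Groth.Agent.AVRosati

variable {F : Type*} [Field F]

/-- The alternating product over the sub-multisets of a multiset with at least two elements. -/
theorem alternating_prod_eq_one (S : Multiset F) (hS : ∀ a ∈ S, a ≠ 0) :
    (S.card = 1 → ∀ c, c ≠ 0 → (S.powerset.map fun I => (c * I.prod) ^ ((-1 : ℤ) ^ I.card)).prod = S.prod⁻¹) ∧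
    (2 ≤ S.card → ∀ c, c ≠ 0 → (S.powerset.map fun I => (c * I.prod) ^ ((-1 : ℤ) ^ I.card)).prod = 1) := by
  induction S using Multiset.induction_on with
  | empty => simp
  | cons a S ih =>
    have ha : a ≠ 0 := hS a (Multiset.mem_cons_self a S)
    obtain ⟨ih1, ih2⟩ := ih fun b hb => hS b (Multiset.mem_cons_of_mem hb)
    have key : ∀ c, ((a ::ₘ S).powerset.map fun I => (c * I.prod) ^ ((-1 : ℤ) ^ I.card)).prod =
        (S.powerset.map fun I => (c * I.prod) ^ ((-1 : ℤ) ^ I.card)).prod *
          ((S.powerset.map fun I => (c * a * I.prod) ^ ((-1 : ℤ) ^ I.card)).prod)⁻¹ := fun c => by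
      rw [Multiset.powerset_cons, Multiset.map_add, Multiset.prod_add, Multiset.map_map, ← Multiset.prod_map_inv']
      congr 2
      try rw [Multiset.map_map]
      refine Multiset.map_congr rfl fun I _ => ?_
      simp only [Function.comp_apply, Multiset.prod_cons, Multiset.card_cons, pow_succ, mul_neg, mul_one, zpow_neg,
        mul_assoc]
    refine ⟨fun h c hc => ?_, fun h c hc => ?_⟩
    · rw [Multiset.card_cons] at h
      obtain rfl : S = 0 := Multiset.card_eq_zero.1 (by omega)
      rw [key]
      simp [mul_inv_rev]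
      field_simp
    · rw [Multiset.card_cons] at h
      rw [key]
      rcases lt_or_eq_of_le (show 1 ≤ S.card by omega) with h2 | h2
      · rw [ih2 h2 c hc, ih2 h2 (c * a) (mul_ne_zero hc ha), inv_one, one_mul]
      · rw [ih1 h2.symm c hc, ih1 h2.symm (c * a) (mul_ne_zero hc ha), inv_inv,
          inv_mul_cancel₀ (Multiset.prod_ne_zero fun h0 => hS 0 (Multiset.mem_cons_of_mem h0) rfl)]

theorem extPoly_prod_zpow (S : Multiset F) (t : F) (f : ℕ → ℤ) :
    ∏ j ∈ Finset.range (S.card + 1), ((extPoly S j).eval t) ^ f j =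
      (S.powerset.map fun I => (1 - I.prod * t) ^ f I.card).prod := by
  conv_rhs => rw [← Multiset.bind_powerset_len S, Multiset.map_bind, Multiset.prod_bind]
  refine congrArg Multiset.prod (Multiset.map_congr rfl fun j hj => ?_)
  rw [extPoly, Polynomial.eval_multiset_prod, Multiset.map_map, ← Multiset.prod_map_zpow]
  refine congrArg Multiset.prod (Multiset.map_congr rfl fun I hI => ?_)
  simp [(Multiset.mem_powersetCard.1 hI).2]

/-- The functional equation. -/
theorem extPoly_funcEq (S : Multiset F) (hS : ∀ a ∈ S, a ≠ 0) (heven : Even S.card) (h2 : 2 ≤ S.card) (s t : F)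
    (hst : S.prod * (s * t) = 1) :
    ∏ j ∈ Finset.range (S.card + 1), ((extPoly S j).eval s) ^ ((-1 : ℤ) ^ (j + 1)) =
      ∏ j ∈ Finset.range (S.card + 1), ((extPoly S j).eval t) ^ ((-1 : ℤ) ^ (j + 1)) := by
  rw [extPoly_prod_zpow, extPoly_prod_zpow]
  have hs : s ≠ 0 := left_ne_zero_of_mul (right_ne_zero_of_mul (ne_of_eq_of_ne hst one_ne_zero))
  conv_lhs => rw [← Multiset.antidiagonal_map_fst S, Multiset.map_map]
  conv_rhs => rw [← Multiset.antidiagonal_map_snd S, Multiset.map_map]
  have key : ∀ p ∈ S.antidiagonal, (1 - p.1.prod * s) ^ ((-1 : ℤ) ^ (p.1.card + 1)) =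
      ((-s) * p.1.prod) ^ ((-1 : ℤ) ^ (p.1.card + 1)) * (1 - p.2.prod * t) ^ ((-1 : ℤ) ^ (p.2.card + 1)) := by
    intro p hp
    have hp' := Multiset.mem_antidiagonal.1 hp
    have hcard : p.1.card + p.2.card = S.card := by rw [← Multiset.card_add, hp']
    have hpar : ((-1 : ℤ) ^ (p.2.card + 1)) = (-1) ^ (p.1.card + 1) := by
      obtain ⟨m, hm⟩ := heven
      rw [neg_one_pow_eq_ite, neg_one_pow_eq_ite]
      refine if_congr ?_ rfl rfl
      simp only [Nat.even_add_one]
      constructor <;> intro h h' <;> apply h <;> obtain ⟨r, hr⟩ := h' <;> exact ⟨m - r, by omega⟩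
    rw [hpar, ← mul_zpow]
    congr 1
    have : p.1.prod * p.2.prod * (s * t) = 1 := by rw [← Multiset.prod_add, hp', hst]
    linear_combination (-1 : F) * this
  simp only [Function.comp_def]
  rw [Multiset.map_congr rfl key, Multiset.prod_map_mul]
  have h1 : (S.antidiagonal.map fun p => ((-s) * p.1.prod) ^ ((-1 : ℤ) ^ (p.1.card + 1))).prod = 1 := by
    have h := ((alternating_prod_eq_one S hS).2 h2 (-s) (neg_ne_zero.2 hs))
    rw [← Multiset.antidiagonal_map_fst S, Multiset.map_map] at h
    rw [show (fun p : Multiset F × Multiset F => ((-s) * p.1.prod) ^ ((-1 : ℤ) ^ (p.1.card + 1))) =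
      fun p => (((-s) * p.1.prod) ^ ((-1 : ℤ) ^ p.1.card))⁻¹ from funext fun p => by
        rw [pow_succ, mul_neg_one, zpow_neg]]
    rw [Multiset.prod_map_inv]
    exact inv_eq_one.2 h
  rw [h1, one_mul]

theorem IsWeilPoly.prod_roots {P : ℤ[X]} {q g : ℕ} (hP : IsWeilPoly P q g) :
    (P.map (Int.castRingHom ℂ)).roots.prod = (q : ℂ) ^ g := by
  have h2 := (IsAlgClosed.splits (P.map (Int.castRingHom ℂ))).coeff_zero_eq_prod_roots_of_monic (hP.monic.map _)
  rw [Polynomial.coeff_map, Polynomial.coeff_zero_eq_eval_zero, eq_intCast, hP.monic.natDegree_map, hP.natDegree_eq,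
    (even_two_mul g).neg_one_pow, one_mul] at h2
  have hn : ‖(P.map (Int.castRingHom ℂ)).roots.prod‖ = (q : ℝ) ^ g := by
    rw [← normHom_apply, map_multiset_prod]
    simp only [normHom_apply]
    rw [Multiset.map_congr rfl fun z hz => hP.norm_root z hz, Multiset.map_const',
      Multiset.prod_replicate, hP.card_roots, pow_mul, Real.sq_sqrt (Nat.cast_nonneg q)]
  rw [← h2, Complex.norm_intCast, abs_of_pos (by exact_mod_cast hP.eval_zero_pos)] at hn
  rw [← h2]
  exact_mod_cast congrArg Complex.ofReal hn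

end Groth.Agent.AVRosati
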