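import Groth.Agent.SqZeroLib.Basic
import Groth.Agent.AVTorsLib.GeomPts
import Mathlib.AlgebraicGeometry.Stalk
import Mathlib.RingTheory.Filtration

/-!
The torsion of prime power order of an abelian variety is scheme-theoretically dense.
-/

set_option autoImplicit false
set_option linter.style.haveILetI false
set_option linter.unusedSectionVars false
set_option backward.isDefEq.respectTransparency false
set_option backward.isDefEq.respectTransparency.types false

universe u

open CategoryTheory CategoryTheory.Limits MonoidalCategory CartesianMonoidalCategory MonObj AlgebraicGeometry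

namespace Groth.Agent.AVRosati.InfTors

variable {k : Type u} [Field k] {X : Over (Spec (CommRingCat.of k))} [GrpObj X]

theorem one_left_eq {P : Over (Spec (CommRingCat.of k))} (u : P.left) :
    (1 : P ⟶ X).left u = η[X].left (IsLocalRing.closedPoint k) := by
  show η[X].left ((toUnit P).left u) = _
  exact congrArg _ (Subsingleton.elim (α := PrimeSpectrum k) _ _)

theorem pow_eq_one_of_restrict {P P' : Over (Spec (CommRingCat.of k))} [IsAffine P.left] [IsAffine P'.left]
    (r : P' ⟶ P) (hr : Function.Surjective r.left.appTop) {p : ℕ}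
    (hI : RingHom.ker r.left.appTop.hom * RingHom.ker r.left.appTop.hom = ⊥) (hp : (p : Γ(P.left, ⊤)) = 0)
    (y : P ⟶ X) (hy : r ≫ y = 1) : y ^ p = 1 := by
  set I := RingHom.ker r.left.appTop.hom
  obtain ⟨j, hj⟩ : ∃ j, j ≫ r.left = SqZeroLib.inclusion I := by
    let e : (Γ(P.left, ⊤) ⧸ I) ≃+* Γ(P'.left, ⊤) := RingHom.quotientKerEquivOfSurjective hr
    have he : r.left.appTop ≫ CommRingCat.ofHom e.symm.toRingHom = CommRingCat.ofHom (Ideal.Quotient.mk I) := by
      ext z
      show e.symm (r.left.appTop z) = _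
      rw [RingEquiv.symm_apply_eq]
      rfl
    refine ⟨Spec.map (CommRingCat.ofHom e.symm.toRingHom) ≫ P'.left.isoSpec.inv, ?_⟩
    rw [SqZeroLib.inclusion, Category.assoc, ← Scheme.isoSpec_inv_naturality, ← Category.assoc, ← Spec.map_comp, he]
  have hk : ∀ z : P ⟶ X, r ≫ z = 1 →
      SqZeroLib.inclusion I ≫ 𝟙 P.left ≫ z.left = SqZeroLib.inclusion I ≫ 𝟙 P.left ≫ (1 : P ⟶ X).left := by
    intro z hz
    rw [← hj, Category.id_comp, Category.id_comp, Category.assoc, Category.assoc, ← Over.comp_left, ← Over.comp_left,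
      hz, MonObj.comp_one]
  let e₀ : X.left := η[X].left (IsLocalRing.closedPoint k)
  obtain ⟨W, hW, heW, -⟩ := exists_isAffineOpen_mem_and_subset (X := X.left) (x := e₀) (U := ⊤) trivial
  let e₁ : (X ⊗ X).left := (lift (1 : 𝟙_ (Over (Spec (CommRingCat.of k))) ⟶ X) 1).left (IsLocalRing.closedPoint k)
  have he₁ : e₁ ∈ (fst X X).left ⁻¹ᵁ W ⊓ (snd X X).left ⁻¹ᵁ W ⊓ μ[X].left ⁻¹ᵁ W := by
    refine ⟨⟨?_, ?_⟩, ?_⟩
    · show (fst X X).left.base _ ∈ W
      rw [← Scheme.Hom.comp_apply, ← Over.comp_left, lift_fst, one_left_eq]; exact heW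
    · show (snd X X).left.base _ ∈ W
      rw [← Scheme.Hom.comp_apply, ← Over.comp_left, lift_snd, one_left_eq]; exact heW
    · show μ[X].left.base _ ∈ W
      rw [← Scheme.Hom.comp_apply, ← Over.comp_left, ← Hom.mul_def, _root_.one_mul, one_left_eq]; exact heW
  obtain ⟨V, hV, heV, hVle⟩ := exists_isAffineOpen_mem_and_subset he₁
  have hd : ∀ u, (𝟙 P.left ≫ (lift (1 : P ⟶ X) 1).left).base u ∈ V := by
    intro u
    rw [Category.id_comp, show lift (1 : P ⟶ X) 1 = toUnit P ≫ lift (1 : 𝟙_ _ ⟶ X) 1 by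
      rw [comp_lift, MonObj.comp_one]]
    show (lift (1 : 𝟙_ _ ⟶ X) 1).left ((toUnit P).left u) ∈ V
    rw [Subsingleton.elim (α := PrimeSpectrum k) ((toUnit P).left u) (IsLocalRing.closedPoint k)]
    exact heV
  haveI : IsAffine W := hW
  obtain ⟨gy, -, g1, -, hgy, -, hg1, -, -⟩ := SqZeroLib.isSum_mul I X hI (𝟙 P.left) W hW V hV
    (hVle.trans (inf_le_left.trans inf_le_left)) (hVle.trans (inf_le_left.trans inf_le_right))
    (hVle.trans inf_le_right) hd (hk y hy) (hk y hy)
  have key : ∀ n : ℕ, ∃ gn : P.left ⟶ W, gn ≫ W.ι = 𝟙 P.left ≫ (y ^ n).left ∧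
      ∀ f, gn.appTop f = g1.appTop f + (n : Γ(P.left, ⊤)) * (gy.appTop f - g1.appTop f) := by
    intro n
    induction n with
    | zero => exact ⟨g1, by rw [pow_zero, hg1], fun f => by simp⟩
    | succ n ih =>
      obtain ⟨gn, hgn, hf⟩ := ih
      obtain ⟨ga, gb, g1', gab, h1, h2, h3, h4, hs⟩ := SqZeroLib.isSum_mul I X hI (𝟙 P.left) W hW V hV
        (hVle.trans (inf_le_left.trans inf_le_left)) (hVle.trans (inf_le_left.trans inf_le_right))
        (hVle.trans inf_le_right) hd (hk (y ^ n) (by rw [MonObj.comp_pow, hy, one_pow])) (hk y hy)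
      obtain rfl : ga = gn := by rw [← cancel_mono W.ι, h1, hgn]
      obtain rfl : gb = gy := by rw [← cancel_mono W.ι, h2, hgy]
      obtain rfl : g1' = g1 := by rw [← cancel_mono W.ι, h3, hg1]
      refine ⟨gab, by rw [pow_succ, h4], fun f => ?_⟩
      rw [hs f, hf f]
      push_cast
      ring
  obtain ⟨gp, hgp, hf⟩ := key p
  have : gp = g1 := ext_of_isAffine (CommRingCat.hom_ext (RingHom.ext fun f => by
    show gp.appTop f = g1.appTop f
    rw [hf f, hp, zero_mul, add_zero]))
  rw [this, hg1, Category.id_comp, Category.id_comp] at hgp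
  exact (Over.OverMorphism.ext hgp).symm

variable (X)

/-- The unit as a point of the underlying scheme. -/
noncomputable abbrev unitPt : X.left := η[X].left (IsLocalRing.closedPoint k)

/-- The local ring at the unit. -/
noncomputable abbrev O : CommRingCat.{u} := X.left.presheaf.stalk (unitPt X)

/-- The `n`-th infinitesimal neighbourhood of the unit. -/
noncomputable def nbhd (n : ℕ) : Over (Spec (CommRingCat.of k)) :=
  Over.mk (Spec.map (CommRingCat.ofHom (Ideal.Quotient.mk (IsLocalRing.maximalIdeal (O X) ^ n))) ≫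
    X.left.fromSpecStalk (unitPt X) ≫ X.hom)

/-- The neighbourhood maps into the group. -/
noncomputable def nbhdι (n : ℕ) : nbhd X n ⟶ X :=
  Over.homMk (Spec.map (CommRingCat.ofHom (Ideal.Quotient.mk (IsLocalRing.maximalIdeal (O X) ^ n))) ≫
    X.left.fromSpecStalk (unitPt X)) (Category.assoc _ _ _)

instance isAffine_nbhd (n : ℕ) : IsAffine (nbhd X n).left :=
  inferInstanceAs (IsAffine (Spec (CommRingCat.of (O X ⧸ IsLocalRing.maximalIdeal (O X) ^ n))))

theorem nbhdι_one : nbhdι X 1 = 1 := by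
  let ε : Spec (CommRingCat.of k) ⟶ X.left := η[X].left
  let φ : O X ⟶ CommRingCat.of k := Scheme.stalkClosedPointTo ε
  have hε : Spec.map φ ≫ X.left.fromSpecStalk (unitPt X) = ε :=
    Scheme.Spec_stalkClosedPointTo_fromSpecStalk ε
  haveI : IsLocalHom φ.hom := inferInstanceAs (IsLocalHom (Scheme.stalkClosedPointTo ε).hom)
  let ι₀ : CommRingCat.of k ⟶ O X := Spec.preimage (X.left.fromSpecStalk (unitPt X) ≫ X.hom)
  have hι₀ : Spec.map ι₀ = X.left.fromSpecStalk (unitPt X) ≫ X.hom := Spec.map_preimage _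
  have hφι : ι₀ ≫ φ = 𝟙 _ := Spec.map_injective (by
    rw [Spec.map_comp, hι₀, reassoc_of% hε, Spec.map_id]
    exact Over.w η[X])
  let q : O X ⟶ CommRingCat.of (O X ⧸ IsLocalRing.maximalIdeal (O X) ^ 1) :=
    CommRingCat.ofHom (Ideal.Quotient.mk _)
  have hq : φ ≫ ι₀ ≫ q = q := by
    ext a
    show Ideal.Quotient.mk _ (ι₀ (φ a)) = Ideal.Quotient.mk _ a
    rw [Ideal.Quotient.eq, pow_one]
    by_contra h
    have hu : IsUnit (φ (ι₀ (φ a) - a)) := IsUnit.map φ.hom (not_not.1 fun h' => h h')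
    rw [map_sub, show φ (ι₀ (φ a)) = φ a from congrArg (fun f => f (φ a)) hφι, sub_self] at hu
    exact not_isUnit_zero hu
  refine Over.OverMorphism.ext ?_
  show Spec.map q ≫ X.left.fromSpecStalk (unitPt X) =
    (Spec.map q ≫ X.left.fromSpecStalk (unitPt X) ≫ X.hom) ≫ ε
  rw [← hι₀, ← hε, Category.assoc, ← Spec.map_comp_assoc, ← Spec.map_comp_assoc, hq]

theorem nbhdι_pow (p : ℕ) (hp : (p : k) = 0) : ∀ n : ℕ, nbhdι X (n + 1) ^ (p ^ n) = 1 := by
  intro n
  induction n with
  | zero => rw [pow_zero, pow_one]; exact nbhdι_one X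
  | succ n ih =>
    let m := IsLocalRing.maximalIdeal (O X)
    have hle : m ^ (n + 1 + 1) ≤ m ^ (n + 1) := Ideal.pow_le_pow_right (by omega)
    let φ : CommRingCat.of (O X ⧸ m ^ (n + 1 + 1)) ⟶ CommRingCat.of (O X ⧸ m ^ (n + 1)) :=
      CommRingCat.ofHom (Ideal.Quotient.factor hle)
    have hφ : Spec.map φ ≫ Spec.map (CommRingCat.ofHom (Ideal.Quotient.mk (m ^ (n + 1 + 1)))) =
        Spec.map (CommRingCat.ofHom (Ideal.Quotient.mk (m ^ (n + 1)))) := by
      rw [← Spec.map_comp]
      rfl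
    let r : nbhd X (n + 1) ⟶ nbhd X (n + 1 + 1) :=
      Over.homMk (Spec.map φ) (by
        show Spec.map φ ≫ Spec.map _ ≫ _ = Spec.map _ ≫ _
        rw [← Category.assoc, hφ])
    have hr : r ≫ nbhdι X (n + 1 + 1) = nbhdι X (n + 1) := Over.OverMorphism.ext (by
      show Spec.map φ ≫ Spec.map _ ≫ _ = Spec.map _ ≫ _
      rw [← Category.assoc, hφ])
    let Ψ := (Scheme.ΓSpecIso (CommRingCat.of (O X ⧸ m ^ (n + 1 + 1)))).commRingCatIsoToRingEquiv
    have hnat : ∀ z, (Scheme.ΓSpecIso (CommRingCat.of (O X ⧸ m ^ (n + 1)))).hom (r.left.appTop z) = φ (Ψ z) :=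
      fun z => congrArg (fun f => f z) (Scheme.ΓSpecIso_naturality φ)
    rw [pow_succ p, pow_mul]
    refine pow_eq_one_of_restrict r ?_ ?_ ?_ _ ?_
    · intro w
      obtain ⟨v, hv⟩ := Ideal.Quotient.factor_surjective hle
        ((Scheme.ΓSpecIso (CommRingCat.of (O X ⧸ m ^ (n + 1)))).hom w)
      refine ⟨Ψ.symm v, (Scheme.ΓSpecIso (CommRingCat.of (O X ⧸ m ^ (n + 1)))).commRingCatIsoToRingEquiv.injective ?_⟩
      show (Scheme.ΓSpecIso _).hom (r.left.appTop _) = (Scheme.ΓSpecIso _).hom w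
      rw [hnat, RingEquiv.apply_symm_apply]
      exact hv
    · have hmem : ∀ z ∈ RingHom.ker r.left.appTop.hom, Ψ z ∈ (m ^ (n + 1)).map (Ideal.Quotient.mk (m ^ (n + 1 + 1))) := by
        intro z hz
        have h0 : φ (Ψ z) = 0 := by
          rw [← hnat, show r.left.appTop z = 0 from hz, map_zero]
        obtain ⟨a, ha⟩ := Ideal.Quotient.mk_surjective (Ψ z)
        rw [← ha] at h0 ⊢
        exact Ideal.mem_map_of_mem _ (Ideal.Quotient.eq_zero_iff_mem.1 h0)
      rw [← le_bot_iff, Ideal.mul_le]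
      intro a ha b hb
      rw [Ideal.mem_bot]
      apply Ψ.injective
      rw [map_mul, map_zero]
      have := Ideal.mul_mem_mul (hmem a ha) (hmem b hb)
      rw [← Ideal.map_mul, ← pow_add] at this
      have hz : (m ^ (n + 1 + (n + 1))).map (Ideal.Quotient.mk (m ^ (n + 1 + 1))) = ⊥ := by
        rw [Ideal.map_eq_bot_iff_le_ker, Ideal.mk_ker]
        exact Ideal.pow_le_pow_right (by omega)
      rw [hz] at this
      exact Ideal.mem_bot.1 this
    · let ρ : k →+* Γ((nbhd X (n + 1 + 1)).left, ⊤) :=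
        (nbhd X (n + 1 + 1)).hom.appTop.hom.comp (Scheme.ΓSpecIso (CommRingCat.of k)).inv.hom
      rw [← map_natCast ρ, hp, map_zero]
    · rw [MonObj.comp_pow, hr, ih]

/-- A closed subscheme containing all `p`-power torsion of a reduced irreducible group is everything, when `p` is zero
in the field. -/
theorem surjective_of_torsion [LocallyOfFiniteType X.hom] [IrreducibleSpace X.left] (p : ℕ) (hp : (p : k) = 0)
    {Z : Scheme.{u}} (c : Z ⟶ X.left) [IsClosedImmersion c]
    (hc : ∀ m : ℕ, 0 < m →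
      ∃ t : pullback η[X].left ((𝟙 X ^ (p ^ m)).left) ⟶ Z,
        t ≫ c = pullback.snd η[X].left ((𝟙 X ^ (p ^ m)).left)) :
    Surjective c := by
  let f := X.left.fromSpecStalk (unitPt X)
  let s : pullback c f ⟶ Spec (O X) := pullback.snd c f
  haveI : IsClosedImmersion s := MorphismProperty.pullback_snd (P := @IsClosedImmersion) _ _ inferInstance
  obtain ⟨hA, hsurj⟩ := IsClosedImmersion.isAffine_surjective_of_isAffine s
  haveI : IsLocallyNoetherian X.left := LocallyOfFiniteType.isLocallyNoetherian X.hom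
  let Ψ := (Scheme.ΓSpecIso (O X)).commRingCatIsoToRingEquiv
  have hker : ∀ (n : ℕ) z, s.appTop z = 0 → Ψ z ∈ IsLocalRing.maximalIdeal (O X) ^ n := by
    intro n z hz
    rcases n with _ | n
    · simp
    let q : O X ⟶ CommRingCat.of (O X ⧸ IsLocalRing.maximalIdeal (O X) ^ (n + 1)) :=
      CommRingCat.ofHom (Ideal.Quotient.mk _)
    have hx : nbhdι X (n + 1) ^ (p ^ (n + 1)) = 1 := by
      rw [pow_succ, pow_mul, nbhdι_pow X p hp n, one_pow]
    have hw : (toUnit (nbhd X (n + 1))).left ≫ η[X].left = (nbhdι X (n + 1)).left ≫ (𝟙 X ^ (p ^ (n + 1))).left := by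
      rw [← Over.comp_left, ← Over.comp_left, MonObj.comp_pow, Category.comp_id, hx]
      rfl
    obtain ⟨t, ht⟩ := hc (n + 1) n.succ_pos
    let l := pullback.lift _ _ hw ≫ t
    have hl : l ≫ c = Spec.map q ≫ f := by
      rw [Category.assoc, ht, pullback.lift_snd]
      rfl
    have hb : pullback.lift l (Spec.map q) hl ≫ s = Spec.map q := pullback.lift_snd _ _ _
    have h1 : (Spec.map q).appTop z = 0 := by
      rw [← hb, Scheme.Hom.comp_appTop]
      show (pullback.lift l (Spec.map q) hl).appTop (s.appTop z) = 0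
      rw [hz, map_zero]
    have h2 : q (Ψ z) = 0 := by
      have := congrArg (fun g => g z) (Scheme.ΓSpecIso_naturality q)
      refine this.symm.trans ?_
      show (Scheme.ΓSpecIso _).hom ((Spec.map q).appTop z) = 0
      rw [h1, map_zero]
    exact Ideal.Quotient.eq_zero_iff_mem.1 h2
  have hinj : Function.Injective s.appTop := by
    rw [injective_iff_map_eq_zero]
    intro z hz
    refine Ψ.injective ?_
    rw [map_zero]
    have := Ideal.iInf_pow_eq_bot_of_isLocalRing (IsLocalRing.maximalIdeal (O X)) (IsLocalRing.maximalIdeal.isMaximal _).ne_top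
    rw [← Ideal.mem_bot, ← this]
    exact Submodule.mem_iInf _ |>.2 fun n => hker n z hz
  haveI : IsAffine (pullback c f) := hA
  haveI : IsIso s.appTop := (ConcreteCategory.isIso_iff_bijective _).2 ⟨hinj, hsurj⟩
  haveI : IsIso s := by
    rw [show s = (pullback c f).isoSpec.hom ≫ Spec.map s.appTop ≫ (Spec (O X)).isoSpec.inv by
      rw [Scheme.isoSpec_hom_naturality_assoc, Iso.hom_inv_id, Category.comp_id]]
    infer_instance
  refine ⟨fun x => ?_⟩
  have hrange : Set.range f ⊆ Set.range c := by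
    rintro _ ⟨w, rfl⟩
    obtain ⟨v, rfl⟩ := s.surjective w
    exact ⟨pullback.fst c f v, by rw [← Scheme.Hom.comp_apply, pullback.condition]; rfl⟩
  have hgen : genericPoint X.left ∈ Set.range c := hrange (by
    rw [Scheme.range_fromSpecStalk]
    exact genericPoint_specializes _)
  exact (genericPoint_specializes x).mem_closed c.isClosedEmbedding.isClosed_range hgen

/-- A closed subscheme containing all `p`-power torsion of an abelian variety is everything, when `p` is invertible. -/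
theorem surjective_of_torsion' [IsProper X.hom] [GeometricallyIntegral X.hom] (p : ℕ) [Fact p.Prime] (hp : (p : k) ≠ 0)
    {Z : Scheme.{u}} (c : Z ⟶ X.left) [IsClosedImmersion c]
    (hc : ∀ m : ℕ, 0 < m →
      ∃ t : pullback η[X].left ((𝟙 X ^ (p ^ m)).left) ⟶ Z,
        t ≫ c = pullback.snd η[X].left ((𝟙 X ^ (p ^ m)).left)) :
    Surjective c := by
  let Ω := AlgebraicClosure k
  haveI : IsCommMonObj X := isCommMonObj_of_isProper_of_geometricallyIntegral X
  haveI := (AVTorsLib.isAV_bc (A := X) Ω).1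
  haveI := (AVTorsLib.isAV_bc (A := X) Ω).2
  haveI : IsCommMonObj (Red.bc (AVTorsLib.extMap (k := k) Ω) X) :=
    isCommMonObj_of_isProper_of_geometricallyIntegral _
  have hpΩ : (p : Ω) ≠ 0 := by
    rw [← map_natCast (algebraMap k Ω)]
    exact fun h => hp ((map_eq_zero _).1 h)
  have hden := AVTorsLib.torsClosure_eq_univ (A := Red.bc (AVTorsLib.extMap (k := k) Ω) X) p hpΩ
  let π : (Red.bc (AVTorsLib.extMap (k := k) Ω) X).left ⟶ X.left := pullback.fst X.hom (AVTorsLib.extMap Ω)
  haveI : Surjective (AVTorsLib.extMap (k := k) Ω) :=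
    ⟨fun y => ⟨IsLocalRing.closedPoint Ω, Subsingleton.elim (α := PrimeSpectrum k) _ _⟩⟩
  haveI : Surjective π := inferInstanceAs (Surjective (pullback.fst X.hom (AVTorsLib.extMap Ω)))
  have hsub : AVTorsLib.pnt '' (AVTorsLib.torsAll (Red.bc (AVTorsLib.extMap (k := k) Ω) X) p : Set _) ⊆
      π ⁻¹' Set.range c := by
    rintro _ ⟨a, ⟨n, hn⟩, rfl⟩
    let b := AVTorsLib.down Ω a
    have hb : b ^ (p ^ (n + 1)) = 1 := by
      rw [← AVTorsLib.down_pow, pow_succ, pow_mul, hn, one_pow, AVTorsLib.down_one]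
    have hw : (toUnit (SGA7.pt (K := k) Ω)).left ≫ η[X].left = b.left ≫ (𝟙 X ^ (p ^ (n + 1))).left := by
      rw [← Over.comp_left, ← Over.comp_left, MonObj.comp_pow, Category.comp_id, hb]
      rfl
    obtain ⟨t, ht⟩ := hc (n + 1) n.succ_pos
    refine ⟨(pullback.lift _ _ hw ≫ t) (IsLocalRing.closedPoint Ω), ?_⟩
    rw [← Scheme.Hom.comp_apply, Category.assoc, ht, pullback.lift_snd]
    rfl
  have huniv : AVTorsLib.torsClosure (Red.bc (AVTorsLib.extMap (k := k) Ω) X) p ⊆ π ⁻¹' Set.range c :=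
    closure_minimal hsub (c.isClosedEmbedding.isClosed_range.preimage π.continuous)
  refine ⟨fun x => ?_⟩
  obtain ⟨w, rfl⟩ := π.surjective x
  exact huniv (by rw [hden]; trivial)

end Groth.Agent.AVRosati.InfTors
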