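import Groth.Agent.AVDegPoly.SnapperZ

/-!
The first order term of the volume in a direction.
-/

noncomputable section

set_option linter.style.haveILetI false
set_option linter.unusedSectionVars false
set_option backward.isDefEq.respectTransparency false
set_option backward.isDefEq.respectTransparency.types false

universe u

open CategoryTheory AlgebraicGeometry TopologicalSpace

namespace Groth.Agent.AVRosati

open AVDegPoly MvPolynomial

open scoped Groth.Agent.H23.PicMul

/-- Coefficients of a specialisation of a multivariate polynomial. -/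
theorem coeff_aeval_eq_sum {r : ℕ} (v : Fin r → Polynomial ℚ) (H : MvPolynomial (Fin r) ℚ) (j : ℕ) :
    (aeval v H).coeff j = ∑ s ∈ H.support, H.coeff s * (∏ i, v i ^ s i).coeff j := by
  conv_lhs => rw [H.as_sum, map_sum, Polynomial.finset_sum_coeff]
  refine Finset.sum_congr rfl fun s _ => ?_
  rw [aeval_monomial, Polynomial.algebraMap_eq, Polynomial.coeff_C_mul, Finsupp.prod_fintype]
  exact fun i => pow_zero _

/-- Evaluations of a specialisation. -/
theorem eval_aeval_poly {r : ℕ} (v : Fin r → Polynomial ℚ) (H : MvPolynomial (Fin r) ℚ) (x : ℚ) :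
    (aeval v H).eval x = eval (fun i => (v i).eval x) H := by
  rw [← Polynomial.coe_evalRingHom, map_aeval, coe_eval₂Hom, eval₂_eq_eval_map]
  have hC : (Polynomial.evalRingHom x).comp (algebraMap ℚ (Polynomial ℚ)) = RingHom.id ℚ :=
    RingHom.ext fun y => by simp [Polynomial.algebraMap_eq]
  rw [hC, MvPolynomial.map_id]

theorem infinite_range_int : (Set.range fun n : ℤ => (n : ℚ)).Infinite :=
  Set.infinite_range_of_injective Int.cast_injective

variable (k : Type u) [Field k] {X : Scheme.{u}} [X.Over (Spec (CommRingCat.of k))]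
  [IsProper (X ↘ Spec (CommRingCat.of k))]

/-- The volumes on the line through `c` in the direction `d` are a polynomial with linear coefficient `l`. -/
def IsLin (g : ℕ) (c d : (PicF.Cl X)ˣ) (l : ℚ) : Prop :=
  ∃ p : Polynomial ℚ, (∀ x : ℤ, (volCl k X g ((d ^ x * c : (PicF.Cl X)ˣ) : PicF.Cl X) : ℚ) = p.eval (x : ℚ)) ∧
    p.coeff 1 = l

theorem IsLin.unique {g : ℕ} {c d : (PicF.Cl X)ˣ} {l l' : ℚ} (h : IsLin k g c d l) (h' : IsLin k g c d l') :
    l = l' := by
  obtain ⟨p, hp, rfl⟩ := h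
  obtain ⟨q, hq, rfl⟩ := h'
  rw [Polynomial.eq_of_infinite_eval_eq p q (infinite_range_int.mono ?_)]
  rintro _ ⟨x, rfl⟩
  exact (hp x).symm.trans (hq x)

open Classical in
/-- The first order term of the volume at `c` in the direction `d`. -/
def lin (g : ℕ) (c d : (PicF.Cl X)ˣ) : ℚ :=
  if h : ∃ l, IsLin k g c d l then h.choose else 0

theorem IsLin.lin_eq {g : ℕ} {c d : (PicF.Cl X)ˣ} {l : ℚ} (h : IsLin k g c d l) : lin k g c d = l := by
  rw [lin, dif_pos ⟨l, h⟩]
  exact IsLin.unique k (Exists.choose_spec (⟨l, h⟩ : ∃ l, IsLin k g c d l)) h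

/-- A specialisation of the volume polynomial computes `lin`. -/
theorem isLin_of_poly {g r : ℕ} {u : Fin r → (PicF.Cl X)ˣ} {H : MvPolynomial (Fin r) ℚ}
    (hH : ∀ n : Fin r → ℤ, (volCl k X g ((∏ i, u i ^ n i : (PicF.Cl X)ˣ) : PicF.Cl X) : ℚ) =
      eval (fun i => (n i : ℚ)) H)
    (c d : (PicF.Cl X)ˣ) (a b : Fin r → ℤ) (hc : ∏ i, u i ^ b i = c) (hd : ∏ i, u i ^ a i = d) :
    IsLin k g c d ((aeval (fun i => Polynomial.C (a i : ℚ) * Polynomial.X + Polynomial.C (b i : ℚ)) H).coeff 1) := by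
  refine ⟨_, fun x => ?_, rfl⟩
  have h : d ^ x * c = ∏ i, u i ^ (a i * x + b i) := by
    rw [← hc, ← hd, ← Finset.prod_zpow, ← Finset.prod_mul_distrib]
    exact Finset.prod_congr rfl fun i _ => by rw [← zpow_mul, ← zpow_add]
  rw [h, hH, eval_aeval_poly]
  congr 2
  funext i
  simp

theorem lin_mul {g : ℕ} (hg : topologicalKrullDim X ≤ g) {c d e : (PicF.Cl X)ˣ}
    (hc : PicF.IsInvertibleCl (c : PicF.Cl X)) (hd : PicF.IsInvertibleCl (d : PicF.Cl X))
    (he : PicF.IsInvertibleCl (e : PicF.Cl X)) : lin k g c (d * e) = lin k g c d + lin k g c e := by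
  obtain ⟨H, -, hn⟩ := exists_homogeneous_vol k hg ![d, e, c]
    (fun i => by fin_cases i <;> simpa)
  rw [(isLin_of_poly k hn c (d * e) ![1, 1, 0] ![0, 0, 1] (by simp [Fin.prod_univ_three]) (by simp [Fin.prod_univ_three])).lin_eq,
    (isLin_of_poly k hn c d ![1, 0, 0] ![0, 0, 1] (by simp [Fin.prod_univ_three]) (by simp [Fin.prod_univ_three])).lin_eq,
    (isLin_of_poly k hn c e ![0, 1, 0] ![0, 0, 1] (by simp [Fin.prod_univ_three]) (by simp [Fin.prod_univ_three])).lin_eq,
    coeff_aeval_eq_sum, coeff_aeval_eq_sum, coeff_aeval_eq_sum, ← Finset.sum_add_distrib]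
  refine Finset.sum_congr rfl fun s _ => ?_
  rw [← mul_add]
  congr 1
  simp only [Fin.prod_univ_three, Matrix.cons_val_zero, Matrix.cons_val_one, Matrix.cons_val,
    Int.cast_one, Int.cast_zero, map_one, map_zero, one_mul, zero_mul, add_zero, zero_add, one_pow, _root_.mul_one,
    ← pow_add, Polynomial.coeff_X_pow]
  rcases h0 : s 0 with _ | a <;> rcases h1 : s 1 with _ | b <;>
    simp [Polynomial.coeff_X_pow, Polynomial.coeff_one] <;> omega

theorem lin_one {g : ℕ} (hg : topologicalKrullDim X ≤ g) {c : (PicF.Cl X)ˣ}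
    (hc : PicF.IsInvertibleCl (c : PicF.Cl X)) : lin k g c 1 = 0 := by
  have h := lin_mul k hg hc (d := 1) (e := 1) isInvertibleCl_one isInvertibleCl_one
  rw [one_mul] at h
  linarith

theorem lin_pow {g : ℕ} (hg : topologicalKrullDim X ≤ g) {c d : (PicF.Cl X)ˣ}
    (hc : PicF.IsInvertibleCl (c : PicF.Cl X)) (hd : PicF.IsInvertibleCl (d : PicF.Cl X)) (n : ℕ) :
    lin k g c (d ^ n) = n * lin k g c d := by
  induction n with
  | zero => simp [lin_one k hg hc]
  | succ n ih =>
    have hp : PicF.IsInvertibleCl ((d ^ n : (PicF.Cl X)ˣ) : PicF.Cl X) := by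
      simpa using isInvertibleCl_zpow d hd (n : ℤ)
    rw [pow_succ, lin_mul k hg hc hp hd, ih]
    push_cast
    ring

/-- The coefficient below the top of the volume along the parabola `(1, x, x²)`. -/
theorem coeff_parabola {g : ℕ} (hg : topologicalKrullDim X ≤ g) (hg1 : 1 ≤ g) {c d e : (PicF.Cl X)ˣ}
    (hc : PicF.IsInvertibleCl (c : PicF.Cl X)) (hd : PicF.IsInvertibleCl (d : PicF.Cl X))
    (he : PicF.IsInvertibleCl (e : PicF.Cl X)) (Q : Polynomial ℚ)
    (hQ : ∃ S : Set ℤ, S.Infinite ∧ ∀ x ∈ S,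
      (volCl k X g ((e * d ^ x * c ^ (x * x) : (PicF.Cl X)ˣ) : PicF.Cl X) : ℚ) = Q.eval (x : ℚ)) :
    Q.coeff (2 * g - 1) = lin k g c d := by
  obtain ⟨H, hH, hn⟩ := exists_homogeneous_vol k hg ![e, d, c] (fun i => by fin_cases i <;> simpa)
  obtain ⟨S, hS, hSQ⟩ := hQ
  have hQ' : Q = aeval ![1, Polynomial.X, Polynomial.X ^ 2] H := by
    refine Polynomial.eq_of_infinite_eval_eq _ _ ((hS.image Int.cast_injective.injOn).mono ?_)
    rintro _ ⟨x, hx, rfl⟩
    show Q.eval _ = _
    rw [← hSQ x hx, eval_aeval_poly, show e * d ^ x * c ^ (x * x) = ∏ i, ![e, d, c] i ^ ![1, x, x * x] i by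
      simp [Fin.prod_univ_three], hn]
    congr 2
    funext i
    fin_cases i <;> simp [pow_two]
  rw [hQ', (isLin_of_poly k hn c d ![0, 1, 0] ![0, 0, 1] (by simp [Fin.prod_univ_three]) (by simp [Fin.prod_univ_three])).lin_eq,
    coeff_aeval_eq_sum, coeff_aeval_eq_sum]
  refine Finset.sum_congr rfl fun s hs => ?_
  congr 1
  have hdeg := hH (mem_support_iff.1 hs)
  rw [Finsupp.weight_apply, Finsupp.sum_fintype _ _ (fun i => by simp), Fin.sum_univ_three] at hdeg
  simp only [Pi.one_apply, smul_eq_mul, _root_.mul_one] at hdeg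
  simp only [Fin.prod_univ_three, Matrix.cons_val_zero, Matrix.cons_val_one, Matrix.cons_val,
    Int.cast_one, Int.cast_zero, map_one, map_zero, one_mul, zero_mul, add_zero, zero_add, one_pow, _root_.mul_one,
    ← pow_mul, ← pow_add, Polynomial.coeff_X_pow]
  rcases h0 : s 0 with _ | a
  · rw [pow_zero, one_mul, Polynomial.coeff_X_pow]
    exact if_congr (by omega) rfl rfl
  · rw [pow_succ, mul_zero, zero_mul, Polynomial.coeff_zero, if_neg (by omega)]

end Groth.Agent.AVRosati
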