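import Groth.Agent.GrpSchLib.HomFlat
import Groth.Prelude.Def_AbDual
import Mathlib.GroupTheory.QuotientGroup.Basic
import Mathlib.AlgebraicGeometry.AlgClosed.Basic

/-!
The exponent of the `p`-primary torsion is invariant under surjective homomorphisms with finite kernel.
-/

set_option autoImplicit false
set_option linter.style.haveILetI false
set_option linter.unusedSectionVars false
set_option backward.isDefEq.respectTransparency false
set_option backward.isDefEq.respectTransparency.types false

universe u

open CategoryTheory CategoryTheory.Limits MonoidalCategory CartesianMonoidalCategory MonObj AlgebraicGeometry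

namespace Groth.Agent.AVRosati

theorem natCard_multiplicative_pi (i n : ℕ) [NeZero n] :
    Nat.card (Multiplicative (Fin i → ZMod n)) = n ^ i := by
  rw [Nat.card_congr Multiplicative.toAdd, Nat.card_fun, Nat.card_zmod, Nat.card_eq_fintype_card, Fintype.card_fin]

theorem rank_eq_of_surjective_finite_ker {A B : Type*} [CommGroup A] [CommGroup B] (f : A →* B)
    (hf : Function.Surjective f) [Finite f.ker] (p : ℕ) [hp : Fact p.Prime] (i j : ℕ)
    (hi : ∀ m : ℕ, Nonempty ((powMonoidHom (p ^ m) : A →* A).ker ≃* Multiplicative (Fin i → ZMod (p ^ m))))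
    (hj : ∀ m : ℕ, Nonempty ((powMonoidHom (p ^ m) : B →* B).ker ≃* Multiplicative (Fin j → ZMod (p ^ m)))) :
    i = j := by
  have hp1 : 1 < p := hp.out.one_lt
  have hne : ∀ m, NeZero (p ^ m) := fun m => ⟨pow_ne_zero _ hp.out.ne_zero⟩
  have cA : ∀ m, Nat.card (powMonoidHom (p ^ m) : A →* A).ker = p ^ (m * i) := fun m => by
    haveI := hne m
    obtain ⟨e⟩ := hi m
    rw [Nat.card_congr e.toEquiv, natCard_multiplicative_pi, ← pow_mul]
  have cB : ∀ m, Nat.card (powMonoidHom (p ^ m) : B →* B).ker = p ^ (m * j) := fun m => by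
    haveI := hne m
    obtain ⟨e⟩ := hj m
    rw [Nat.card_congr e.toEquiv, natCard_multiplicative_pi, ← pow_mul]
  have fA : ∀ m, Finite (powMonoidHom (p ^ m) : A →* A).ker := fun m =>
    Nat.finite_of_card_ne_zero (by rw [cA]; exact pow_ne_zero _ hp.out.ne_zero)
  have fB : ∀ m, Finite (powMonoidHom (p ^ m) : B →* B).ker := fun m =>
    Nat.finite_of_card_ne_zero (by rw [cB]; exact pow_ne_zero _ hp.out.ne_zero)
  set N := Nat.card f.ker with hN
  have hN0 : 0 < N := Nat.card_pos
  refine le_antisymm ?_ ?_
  · by_contra hlt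
    push Not at hlt
    let m := N + 1
    haveI := fA m
    haveI := fB m
    let g : (powMonoidHom (p ^ m) : A →* A).ker →* (powMonoidHom (p ^ m) : B →* B).ker :=
      (f.comp (Subgroup.subtype _)).codRestrict _ fun x => by
        have hx : (x : A) ^ p ^ m = 1 := x.2
        show (f (x : A)) ^ p ^ m = 1
        rw [← map_pow, hx, map_one]
    have hker : Nat.card g.ker ≤ N := by
      refine Nat.card_le_card_of_injective
        (fun x : g.ker => (⟨((x : (powMonoidHom (p ^ m) : A →* A).ker) : A),
          congrArg Subtype.val (x.2 : g x = 1)⟩ : f.ker)) ?_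
      intro x y hxy
      exact Subtype.ext (Subtype.ext (Subtype.mk.inj hxy))
    have h1 : p ^ (m * i) ≤ N * p ^ (m * j) := by
      rw [← cA m, ← cB m, Subgroup.card_eq_card_quotient_mul_card_subgroup g.ker, mul_comm]
      refine Nat.mul_le_mul hker ?_
      exact Nat.card_le_card_of_injective _ (QuotientGroup.kerLift_injective g)
    have h2 : N * p ^ (m * j) < p ^ (m * i) :=
      calc N * p ^ (m * j) < p ^ m * p ^ (m * j) :=
            Nat.mul_lt_mul_of_pos_right ((Nat.lt_succ_self N).trans (Nat.lt_pow_self hp1))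
              (pow_pos hp.out.pos _)
        _ = p ^ (m * (j + 1)) := by ring
        _ ≤ p ^ (m * i) := Nat.pow_le_pow_right hp.out.pos (Nat.mul_le_mul_left m hlt)
    omega
  · obtain ⟨e, N', hN', heN⟩ := Nat.exists_eq_pow_mul_and_not_dvd hN0.ne' p hp.out.ne_one
    by_contra hlt
    push Not at hlt
    let m := e * i + 1
    haveI := fA (m + e)
    haveI := fB m
    have hcop : Nat.Coprime (p ^ m) N' := Nat.Coprime.pow_left _ ((hp.out.coprime_iff_not_dvd).2 hN')
    obtain ⟨a, ha1, ha0⟩ := Nat.chineseRemainder hcop 1 0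
    have key : ∀ y : (powMonoidHom (p ^ m) : B →* B).ker, ∃ x : (powMonoidHom (p ^ (m + e)) : A →* A).ker,
        f (x : A) = (y : B) := by
      intro y
      obtain ⟨x, hx⟩ := hf y
      have hy : (y : B) ^ p ^ m = 1 := y.2
      have hxk : x ^ p ^ m ∈ f.ker := by
        show f (x ^ p ^ m) = 1
        rw [map_pow, hx, hy]
      have hxN : (x ^ p ^ m) ^ N = 1 := congrArg Subtype.val (pow_card_eq_one' (x := (⟨_, hxk⟩ : f.ker)))
      obtain ⟨c, rfl⟩ : N' ∣ a := Nat.modEq_zero_iff_dvd.1 ha0
      refine ⟨⟨x ^ (N' * c), ?_⟩, ?_⟩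
      · show (x ^ (N' * c)) ^ p ^ (m + e) = 1
        rw [← pow_mul] at hxN ⊢
        rw [show N' * c * p ^ (m + e) = p ^ m * N * c by rw [heN, pow_add]; ring, pow_mul, hxN, one_pow]
      · show f (x ^ (N' * c)) = y
        rw [map_pow, hx, pow_eq_pow_mod (N' * c) hy, ha1, ← pow_eq_pow_mod 1 hy, pow_one]
    choose σ hσ using key
    have hinj : Function.Injective σ := fun y y' h => Subtype.ext (by rw [← hσ y, ← hσ y', h])
    have h1 := Nat.card_le_card_of_injective σ hinj
    rw [cA, cB] at h1
    have h2 := (Nat.pow_le_pow_iff_right hp1).1 h1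
    have h3 : m * (i + 1) ≤ m * j := Nat.mul_le_mul_left m hlt
    simp only [m] at h2 h3 ⊢
    ring_nf at h2 h3
    omega

variable {k : Type u} [Field k] {X Y : Over (Spec (CommRingCat.of k))}

theorem finite_fibre_points (h : X ⟶ Y) [IsFinite h.left] (K : Type u) [Field K] [Algebra k K] [IsAlgClosed K]
    (y : Over.mk (Spec.map (CommRingCat.ofHom (algebraMap k K))) ⟶ Y) :
    Finite {x : Over.mk (Spec.map (CommRingCat.ofHom (algebraMap k K))) ⟶ X // x ≫ h = y} := by
  let q : pullback h.left y.left ⟶ Spec (CommRingCat.of K) := pullback.snd h.left y.left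
  haveI : IsFinite q := MorphismProperty.pullback_snd (P := @IsFinite) _ _ inferInstance
  haveI : LocallyOfFiniteType q := inferInstance
  haveI : Finite (pullback h.left y.left : Scheme.{u}) := by
    have hfin := q.finite_preimage_singleton (IsLocalRing.closedPoint K)
    have hu : q ⁻¹' {IsLocalRing.closedPoint K} = Set.univ :=
      Set.eq_univ_of_forall fun z => Subsingleton.elim (α := ↥(Spec (CommRingCat.of K))) _ _
    rw [hu] at hfin
    exact Set.finite_univ_iff.1 hfin
  haveI : Finite {s : Spec (CommRingCat.of K) ⟶ pullback h.left y.left // s ≫ q = 𝟙 _} :=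
    Finite.of_equiv _ (pointEquivClosedPoint q).symm
  refine Finite.of_injective (β := {s : Spec (CommRingCat.of K) ⟶ pullback h.left y.left // s ≫ q = 𝟙 _})
    (fun x => ⟨pullback.lift x.1.left (𝟙 _) (by
      rw [Category.id_comp]; exact congrArg (fun f => f.left) x.2), pullback.lift_snd _ _ _⟩) ?_
  intro x x' hxx
  refine Subtype.ext (Over.OverMorphism.ext ?_)
  simpa [pullback.lift_fst] using congrArg (fun s => s.1 ≫ pullback.fst h.left y.left) hxx

end Groth.Agent.AVRosati
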