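import Groth.Agent.VarDim.Intersection
import Mathlib.RingTheory.Kaehler.Basic
import Mathlib.RingTheory.Unramified.Field
import Mathlib.RingTheory.Ideal.KrullsHeightTheorem
import Mathlib.RingTheory.RegularLocalRing.Defs
import Mathlib.RingTheory.EssentialFiniteness

/-!
The algebra behind Poincaré reducibility: a transversal section through a rational point and the
unramifiedness of the multiplication map at that point.
-/

noncomputable section

set_option linter.style.haveILetI false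
set_option linter.unusedSectionVars false
set_option backward.isDefEq.respectTransparency false
set_option backward.isDefEq.respectTransparency.types false

universe u

open TensorProduct Order

namespace Groth.Agent.AVRosati.ReducAlg

variable {k : Type u} [Field k]

theorem exists_mul_sub_one_mem_sq {B : Type u} [CommRing B] [Algebra k B] (e : B →ₐ[k] k) {s : B}
    (hs : e s ≠ 0) : ∃ t, s * t - 1 ∈ RingHom.ker e ^ 2 := by
  have hu : s - algebraMap k B (e s) ∈ RingHom.ker e := by simp [RingHom.mem_ker]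
  refine ⟨algebraMap k B (e s)⁻¹ - algebraMap k B ((e s)⁻¹ * (e s)⁻¹) * (s - algebraMap k B (e s)), ?_⟩
  have h1 : algebraMap k B (e s) * algebraMap k B (e s)⁻¹ = 1 := by
    rw [← map_mul, mul_inv_cancel₀ hs, map_one]
  have h2 : s * (algebraMap k B (e s)⁻¹ - algebraMap k B ((e s)⁻¹ * (e s)⁻¹) * (s - algebraMap k B (e s))) - 1
      = (-algebraMap k B ((e s)⁻¹ * (e s)⁻¹)) *
        ((s - algebraMap k B (e s)) * (s - algebraMap k B (e s))) := by
    rw [map_mul]
    linear_combination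
      (algebraMap k B (e s) * algebraMap k B (e s)⁻¹ + 1 - s * algebraMap k B (e s)⁻¹) * h1
  rw [h2, pow_two]
  exact Ideal.mul_mem_left _ _ (Ideal.mul_mem_mul hu hu)

theorem isUnit_mk_sq {B : Type u} [CommRing B] [Algebra k B] (e : B →ₐ[k] k) {s : B} (hs : e s ≠ 0) :
    IsUnit (Ideal.Quotient.mk (RingHom.ker e ^ 2) s) := by
  obtain ⟨t, ht⟩ := exists_mul_sub_one_mem_sq e hs
  refine IsUnit.of_mul_eq_one (Ideal.Quotient.mk _ t) ?_
  rw [← map_mul, ← map_one (Ideal.Quotient.mk (RingHom.ker e ^ 2))]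
  exact Ideal.Quotient.eq.2 ht

theorem ker_sq_le {B : Type u} [CommRing B] [Algebra k B] (e : B →ₐ[k] k) {x : B}
    (hx : x ∈ RingHom.ker e ^ 2) : e x = 0 :=
  RingHom.mem_ker.1 (Ideal.pow_le_self two_ne_zero hx)

section Aug

variable {C₁ D : Type u} [CommRing C₁] [Algebra k C₁] [CommRing D] [Algebra k D]
  (e₁ : C₁ →ₐ[k] k) (e₂ : D →ₐ[k] k)

/-- The augmentation of the tensor product. -/
def eps0 : C₁ ⊗[k] D →ₐ[k] k :=
  Algebra.TensorProduct.lift e₁ e₂ (fun _ _ => Commute.all _ _)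

/-- Restriction to the first factor. -/
def psi1 : C₁ ⊗[k] D →ₐ[k] C₁ :=
  Algebra.TensorProduct.lift (AlgHom.id k C₁) ((Algebra.ofId k C₁).comp e₂) (fun _ _ => Commute.all _ _)

/-- Restriction to the second factor. -/
def psi2 : C₁ ⊗[k] D →ₐ[k] D :=
  Algebra.TensorProduct.lift ((Algebra.ofId k D).comp e₁) (AlgHom.id k D) (fun _ _ => Commute.all _ _)

@[simp] theorem eps0_tmul (a : C₁) (b : D) : eps0 e₁ e₂ (a ⊗ₜ b) = e₁ a * e₂ b :=
  Algebra.TensorProduct.lift_tmul _ _ _ _ _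

@[simp] theorem psi1_tmul (a : C₁) (b : D) :
    psi1 e₂ (a ⊗ₜ b) = a * algebraMap k C₁ (e₂ b) :=
  Algebra.TensorProduct.lift_tmul _ _ _ _ _

@[simp] theorem psi2_tmul (a : C₁) (b : D) :
    psi2 e₁ (a ⊗ₜ b) = algebraMap k D (e₁ a) * b :=
  Algebra.TensorProduct.lift_tmul _ _ _ _ _

theorem e₁_psi1 (r : C₁ ⊗[k] D) : e₁ (psi1 e₂ r) = eps0 e₁ e₂ r := by
  have : e₁.comp (psi1 e₂) = eps0 e₁ e₂ := Algebra.TensorProduct.ext' fun a b => by simp
  exact DFunLike.congr_fun this r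

theorem e₂_psi2 (r : C₁ ⊗[k] D) : e₂ (psi2 e₁ r) = eps0 e₁ e₂ r := by
  have : e₂.comp (psi2 e₁) = eps0 e₁ e₂ := Algebra.TensorProduct.ext' fun a b => by simp
  exact DFunLike.congr_fun this r

/-- The kernel of the augmentation. -/
abbrev M0 : Ideal (C₁ ⊗[k] D) := RingHom.ker (eps0 e₁ e₂)

instance isMaximal_M0 : (M0 e₁ e₂).IsMaximal :=
  RingHom.ker_isMaximal_of_surjective _ fun c => ⟨algebraMap k _ c, by simp⟩

theorem sub_mem_sq (r : C₁ ⊗[k] D) :
    r - (psi1 e₂ r) ⊗ₜ[k] (1 : D) - (1 : C₁) ⊗ₜ[k] (psi2 e₁ r)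
      + algebraMap k (C₁ ⊗[k] D) (eps0 e₁ e₂ r) ∈ M0 e₁ e₂ ^ 2 := by
  induction r using TensorProduct.induction_on with
  | zero => simp
  | add r r' h h' =>
    convert add_mem h h' using 1
    simp only [map_add, TensorProduct.add_tmul, TensorProduct.tmul_add]
    abel
  | tmul a b =>
    have ha : a ⊗ₜ[k] (1 : D) - algebraMap k (C₁ ⊗[k] D) (e₁ a) ∈ M0 e₁ e₂ := by
      simp [RingHom.mem_ker]
    have hb : (1 : C₁) ⊗ₜ[k] b - algebraMap k (C₁ ⊗[k] D) (e₂ b) ∈ M0 e₁ e₂ := by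
      simp [RingHom.mem_ker]
    rw [pow_two]
    convert Ideal.mul_mem_mul ha hb using 1
    have h1 : (a * algebraMap k C₁ (e₂ b)) ⊗ₜ[k] (1 : D)
        = a ⊗ₜ[k] (1 : D) * algebraMap k (C₁ ⊗[k] D) (e₂ b) := by
      rw [Algebra.TensorProduct.algebraMap_apply, Algebra.TensorProduct.tmul_mul_tmul, one_mul]
    have h2 : (1 : C₁) ⊗ₜ[k] (algebraMap k D (e₁ a) * b)
        = algebraMap k (C₁ ⊗[k] D) (e₁ a) * (1 : C₁) ⊗ₜ[k] b := by
      rw [Algebra.TensorProduct.algebraMap_apply', Algebra.TensorProduct.tmul_mul_tmul, one_mul]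
    have h3 : a ⊗ₜ[k] b = a ⊗ₜ[k] (1 : D) * (1 : C₁) ⊗ₜ[k] b := by
      rw [Algebra.TensorProduct.tmul_mul_tmul, mul_one, one_mul]
    rw [psi1_tmul, psi2_tmul, eps0_tmul, h1, h2, map_mul, h3]
    ring

theorem includeLeft_mem {a : C₁} (ha : e₁ a = 0) : a ⊗ₜ[k] (1 : D) ∈ M0 e₁ e₂ := by
  simp [RingHom.mem_ker, ha]

theorem includeRight_mem {b : D} (hb : e₂ b = 0) : (1 : C₁) ⊗ₜ[k] b ∈ M0 e₁ e₂ := by
  simp [RingHom.mem_ker, hb]

/-- The local ring at the origin. -/
abbrev LocS : Type u := Localization.AtPrime (M0 e₁ e₂)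

/-- Its maximal ideal. -/
abbrev MS : Ideal (LocS e₁ e₂) := (M0 e₁ e₂).map (algebraMap _ _)

/-- Inclusion of the first factor. -/
def L1 : C₁ →ₐ[k] LocS e₁ e₂ :=
  (IsScalarTower.toAlgHom k (C₁ ⊗[k] D) (LocS e₁ e₂)).comp Algebra.TensorProduct.includeLeft

/-- Inclusion of the second factor. -/
def L2 : D →ₐ[k] LocS e₁ e₂ :=
  (IsScalarTower.toAlgHom k (C₁ ⊗[k] D) (LocS e₁ e₂)).comp Algebra.TensorProduct.includeRight

theorem L1_apply (a : C₁) : L1 e₁ e₂ a = algebraMap _ (LocS e₁ e₂) (a ⊗ₜ[k] (1 : D)) := rfl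

theorem L2_apply (b : D) : L2 e₁ e₂ b = algebraMap _ (LocS e₁ e₂) ((1 : C₁) ⊗ₜ[k] b) := rfl

theorem L1_mem {a : C₁} (ha : e₁ a = 0) : L1 e₁ e₂ a ∈ MS e₁ e₂ :=
  Ideal.mem_map_of_mem _ (includeLeft_mem e₁ e₂ ha)

theorem L2_mem {b : D} (hb : e₂ b = 0) : L2 e₁ e₂ b ∈ MS e₁ e₂ :=
  Ideal.mem_map_of_mem _ (includeRight_mem e₁ e₂ hb)

theorem L1_mem_sq {a : C₁} (ha : a ∈ RingHom.ker e₁ ^ 2) : L1 e₁ e₂ a ∈ MS e₁ e₂ ^ 2 := by
  have h : (RingHom.ker e₁).map (L1 e₁ e₂) ≤ MS e₁ e₂ :=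
    Ideal.map_le_iff_le_comap.2 fun x hx => L1_mem e₁ e₂ (RingHom.mem_ker.1 hx)
  have h' := Ideal.mem_map_of_mem (L1 e₁ e₂) ha
  rw [Ideal.map_pow] at h'
  exact Ideal.pow_right_mono h 2 h'

theorem L2_mem_sq {b : D} (hb : b ∈ RingHom.ker e₂ ^ 2) : L2 e₁ e₂ b ∈ MS e₁ e₂ ^ 2 := by
  have h : (RingHom.ker e₂).map (L2 e₁ e₂) ≤ MS e₁ e₂ :=
    Ideal.map_le_iff_le_comap.2 fun x hx => L2_mem e₁ e₂ (RingHom.mem_ker.1 hx)
  have h' := Ideal.mem_map_of_mem (L2 e₁ e₂) hb
  rw [Ideal.map_pow] at h'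
  exact Ideal.pow_right_mono h 2 h'

theorem mk_psi1_isUnit (y : (M0 e₁ e₂).primeCompl) :
    IsUnit (((Ideal.Quotient.mkₐ k (RingHom.ker e₁ ^ 2)).comp (psi1 e₂)) (y : C₁ ⊗[k] D)) :=
  isUnit_mk_sq e₁ fun h => y.2 (RingHom.mem_ker.2 ((e₁_psi1 e₁ e₂ y.1).symm.trans h))

theorem mk_psi2_isUnit (y : (M0 e₁ e₂).primeCompl) :
    IsUnit (((Ideal.Quotient.mkₐ k (RingHom.ker e₂ ^ 2)).comp (psi2 e₁)) (y : C₁ ⊗[k] D)) :=
  isUnit_mk_sq e₂ fun h => y.2 (RingHom.mem_ker.2 ((e₂_psi2 e₁ e₂ y.1).symm.trans h))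

/-- The first-order restriction to the first factor. -/
def chi1 : LocS e₁ e₂ →ₐ[k] C₁ ⧸ RingHom.ker e₁ ^ 2 :=
  IsLocalization.liftAlgHom (mk_psi1_isUnit e₁ e₂)

/-- The first-order restriction to the second factor. -/
def chi2 : LocS e₁ e₂ →ₐ[k] D ⧸ RingHom.ker e₂ ^ 2 :=
  IsLocalization.liftAlgHom (mk_psi2_isUnit e₁ e₂)

theorem chi1_algebraMap (r : C₁ ⊗[k] D) :
    chi1 e₁ e₂ (algebraMap _ _ r) = Ideal.Quotient.mk _ (psi1 e₂ r) :=
  IsLocalization.lift_eq (mk_psi1_isUnit e₁ e₂) r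

theorem chi2_algebraMap (r : C₁ ⊗[k] D) :
    chi2 e₁ e₂ (algebraMap _ _ r) = Ideal.Quotient.mk _ (psi2 e₁ r) :=
  IsLocalization.lift_eq (mk_psi2_isUnit e₁ e₂) r

theorem chi1_eq_zero {x : LocS e₁ e₂} (hx : x ∈ MS e₁ e₂ ^ 2) : chi1 e₁ e₂ x = 0 := by
  have h : MS e₁ e₂ ^ 2 ≤ RingHom.ker (chi1 e₁ e₂) := by
    rw [← Ideal.map_pow, Ideal.map_le_iff_le_comap]
    intro r hr
    rw [Ideal.mem_comap, RingHom.mem_ker, chi1_algebraMap, Ideal.Quotient.eq_zero_iff_mem]
    have hM : (M0 e₁ e₂).map (psi1 e₂) ≤ RingHom.ker e₁ :=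
      Ideal.map_le_iff_le_comap.2 fun r hr => by
        rw [Ideal.mem_comap, RingHom.mem_ker, e₁_psi1]
        exact RingHom.mem_ker.1 hr
    have h' := Ideal.mem_map_of_mem (psi1 e₂) hr
    rw [Ideal.map_pow] at h'
    exact Ideal.pow_right_mono hM 2 h'
  exact RingHom.mem_ker.1 (h hx)

theorem chi2_eq_zero {x : LocS e₁ e₂} (hx : x ∈ MS e₁ e₂ ^ 2) : chi2 e₁ e₂ x = 0 := by
  have h : MS e₁ e₂ ^ 2 ≤ RingHom.ker (chi2 e₁ e₂) := by
    rw [← Ideal.map_pow, Ideal.map_le_iff_le_comap]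
    intro r hr
    rw [Ideal.mem_comap, RingHom.mem_ker, chi2_algebraMap, Ideal.Quotient.eq_zero_iff_mem]
    have hM : (M0 e₁ e₂).map (psi2 e₁) ≤ RingHom.ker e₂ :=
      Ideal.map_le_iff_le_comap.2 fun r hr => by
        rw [Ideal.mem_comap, RingHom.mem_ker, e₂_psi2]
        exact RingHom.mem_ker.1 hr
    have h' := Ideal.mem_map_of_mem (psi2 e₁) hr
    rw [Ideal.map_pow] at h'
    exact Ideal.pow_right_mono hM 2 h'
  exact RingHom.mem_ker.1 (h hx)

theorem exists_approx (x : LocS e₁ e₂) :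
    ∃ r : C₁ ⊗[k] D, x - algebraMap _ _ r ∈ MS e₁ e₂ ^ 2 := by
  obtain ⟨⟨r, s⟩, hs⟩ := IsLocalization.surj (M0 e₁ e₂).primeCompl x
  obtain ⟨t, ht⟩ := exists_mul_sub_one_mem_sq (eps0 e₁ e₂) (s := s.1) fun h => s.2 (RingHom.mem_ker.2 h)
  refine ⟨r * t, ?_⟩
  have e : x - algebraMap _ _ (r * t) = -x * algebraMap _ _ (s.1 * t - 1) := by
    rw [map_mul, ← hs, map_sub, map_mul, map_one]
    ring
  rw [e, ← Ideal.map_pow]
  exact Ideal.mul_mem_left _ _ (Ideal.mem_map_of_mem _ ht)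

/-- An element is determined to first order by its two restrictions. -/
theorem congr_mod_sq (x : LocS e₁ e₂) (a : C₁) (b : D)
    (h1 : chi1 e₁ e₂ x = Ideal.Quotient.mk _ a) (h2 : chi2 e₁ e₂ x = Ideal.Quotient.mk _ b) :
    x - L1 e₁ e₂ a - L2 e₁ e₂ b + algebraMap k _ (e₁ a) ∈ MS e₁ e₂ ^ 2 := by
  obtain ⟨r, hr⟩ := exists_approx e₁ e₂ x
  have hx1 := chi1_eq_zero e₁ e₂ hr
  have hx2 := chi2_eq_zero e₁ e₂ hr
  rw [map_sub, chi1_algebraMap, h1, sub_eq_zero, Ideal.Quotient.eq] at hx1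
  rw [map_sub, chi2_algebraMap, h2, sub_eq_zero, Ideal.Quotient.eq] at hx2
  have he : e₁ a = eps0 e₁ e₂ r := by
    have := ker_sq_le e₁ hx1
    rwa [map_sub, e₁_psi1, sub_eq_zero] at this
  have hd : algebraMap _ (LocS e₁ e₂) r - L1 e₁ e₂ (psi1 e₂ r) - L2 e₁ e₂ (psi2 e₁ r)
      + algebraMap k _ (eps0 e₁ e₂ r) ∈ MS e₁ e₂ ^ 2 := by
    have h' := Ideal.mem_map_of_mem (algebraMap _ (LocS e₁ e₂)) (sub_mem_sq e₁ e₂ r)
    rw [Ideal.map_pow] at h'
    simp only [map_sub, map_add, ← L1_apply, ← L2_apply] at h'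
    rwa [← IsScalarTower.algebraMap_apply] at h'
  have := add_mem (add_mem hr hd)
    (neg_mem (add_mem (L1_mem_sq e₁ e₂ hx1) (L2_mem_sq e₁ e₂ hx2)))
  convert this using 1
  rw [he, map_sub, map_sub]
  ring

end Aug

theorem finiteType_tensor {C₁ D : Type u} [CommRing C₁] [Algebra k C₁] [CommRing D] [Algebra k D]
    [Algebra.FiniteType k C₁] [Algebra.FiniteType k D] : Algebra.FiniteType k (C₁ ⊗[k] D) :=
  Algebra.FiniteType.trans (R := k) (S := C₁) (A := C₁ ⊗[k] D) inferInstance inferInstance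

/-- The multiplication map is unramified at the origin. -/
theorem formallyUnramified {C C₁ D : Type u} [CommRing C] [Algebra k C] [CommRing C₁] [Algebra k C₁]
    [CommRing D] [Algebra k D] [Algebra.FiniteType k C₁] [Algebra.FiniteType k D]
    (e₁ : C₁ →ₐ[k] k) (e₂ : D →ₐ[k] k) (p₁ : C →ₐ[k] C₁) (p₂ : C →ₐ[k] D)
    (hp₁ : Function.Surjective p₁) (hcompat : ∀ c, e₁ (p₁ c) = e₂ (p₂ c))
    (hgen : ∀ d, e₂ d = 0 → ∃ s, e₂ s ≠ 0 ∧ s * d ∈ (RingHom.ker p₁).map p₂)
    [Algebra C (LocS e₁ e₂)] [IsScalarTower k C (LocS e₁ e₂)]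
    (h1 : ∀ c, chi1 e₁ e₂ (algebraMap C _ c) = Ideal.Quotient.mk _ (p₁ c))
    (h2 : ∀ c, chi2 e₁ e₂ (algebraMap C _ c) = Ideal.Quotient.mk _ (p₂ c)) :
    Algebra.FormallyUnramified C (LocS e₁ e₂) := by
  let M := MS e₁ e₂
  let I : Ideal (LocS e₁ e₂) := Ideal.span ((algebraMap C (LocS e₁ e₂)) '' {c | e₁ (p₁ c) = 0})
  have key : ∀ c, algebraMap C (LocS e₁ e₂) c - L1 e₁ e₂ (p₁ c) - L2 e₁ e₂ (p₂ c)
      + algebraMap k (LocS e₁ e₂) (e₁ (p₁ c)) ∈ M ^ 2 := fun c => congr_mod_sq e₁ e₂ _ _ _ (h1 c) (h2 c)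
  have hsq : M ^ 2 ≤ M := Ideal.pow_le_self two_ne_zero
  have hIc : ∀ c, e₁ (p₁ c) = 0 → algebraMap C (LocS e₁ e₂) c ∈ M := by
    intro c hc
    have h := key c
    rw [hc, map_zero, add_zero] at h
    have := add_mem (add_mem (hsq h) (L1_mem e₁ e₂ hc))
      (L2_mem e₁ e₂ ((hcompat c).symm.trans hc))
    convert this using 1
    ring
  have hIle : ∀ c, e₁ (p₁ c) = 0 → algebraMap C (LocS e₁ e₂) c ∈ I ⊔ M ^ 2 := fun c hc =>
    le_sup_left (a := I) (Ideal.subset_span ⟨c, hc, rfl⟩)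
  have hD : ∀ d, e₂ d = 0 → L2 e₁ e₂ d ∈ I ⊔ M ^ 2 := by
    have hmap : (RingHom.ker p₁).map p₂ ≤ (I ⊔ M ^ 2).comap (L2 e₁ e₂) := by
      rw [Ideal.map_le_iff_le_comap]
      intro c hc
      have hc0 : p₁ c = 0 := RingHom.mem_ker.1 hc
      have h := key c
      rw [hc0, map_zero, map_zero, map_zero, sub_zero, add_zero] at h
      rw [Ideal.mem_comap, Ideal.mem_comap]
      have := sub_mem (hIle c (by rw [hc0, map_zero])) (le_sup_right (a := I) h)
      rwa [sub_sub_cancel] at this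
    intro d hd
    obtain ⟨s, hs, hsd⟩ := hgen d hd
    have h := hmap hsd
    rw [Ideal.mem_comap, map_mul] at h
    have hu : IsUnit (L2 e₁ e₂ s) := IsLocalization.map_units (M := (M0 e₁ e₂).primeCompl) (LocS e₁ e₂)
      ⟨(1 : C₁) ⊗ₜ[k] s, fun h => hs (by simpa [RingHom.mem_ker] using h)⟩
    exact (Ideal.unit_mul_mem_iff_mem _ hu).1 h
  have hC₁ : ∀ a, e₁ a = 0 → L1 e₁ e₂ a ∈ I ⊔ M ^ 2 := by
    intro a ha
    obtain ⟨c, rfl⟩ := hp₁ a
    have h := key c
    rw [ha, map_zero, add_zero] at h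
    have := sub_mem (sub_mem (hIle c ha) (hD _ ((hcompat c).symm.trans ha))) (le_sup_right (a := I) h)
    convert this using 1
    ring
  have hM : M ≤ I ⊔ M ^ 2 := by
    refine Ideal.map_le_iff_le_comap.2 fun r hr => ?_
    have hr0 : eps0 e₁ e₂ r = 0 := RingHom.mem_ker.1 hr
    have h := Ideal.mem_map_of_mem (algebraMap _ (LocS e₁ e₂)) (sub_mem_sq e₁ e₂ r)
    rw [Ideal.map_pow, hr0, map_zero, add_zero] at h
    simp only [map_sub, ← L1_apply, ← L2_apply] at h
    have := add_mem (add_mem (le_sup_right (a := I) h)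
      (hC₁ _ ((e₁_psi1 e₁ e₂ r).trans hr0))) (hD _ ((e₂_psi2 e₁ e₂ r).trans hr0))
    rw [Ideal.mem_comap]
    convert this using 1
    rw [L1_apply, L2_apply]
    ring
  let d := KaehlerDifferential.D C (LocS e₁ e₂)
  let N : Submodule (LocS e₁ e₂) (Ω[(LocS e₁ e₂)⁄C]) := M • ⊤
  have hm : ∀ x ∈ M, ∀ w : Ω[(LocS e₁ e₂)⁄C], x • w ∈ N := fun x hx w =>
    Submodule.smul_mem_smul hx trivial
  have hImem : ∀ x ∈ I, x ∈ M ∧ d x ∈ N := by
    intro x hx
    induction hx using Submodule.span_induction with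
    | mem x hx =>
      obtain ⟨c, hc, rfl⟩ := hx
      exact ⟨hIc c hc, by rw [Derivation.map_algebraMap]; exact zero_mem _⟩
    | zero => exact ⟨zero_mem _, by rw [map_zero]; exact zero_mem _⟩
    | add x y _ _ hx hy => exact ⟨add_mem hx.1 hy.1, by rw [map_add]; exact add_mem hx.2 hy.2⟩
    | smul a x _ hx =>
      refine ⟨Ideal.mul_mem_left _ a hx.1, ?_⟩
      rw [smul_eq_mul, Derivation.leibniz]
      exact add_mem (N.smul_mem a hx.2) (hm x hx.1 _)
  have hsqmem : ∀ x ∈ M ^ 2, d x ∈ N := by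
    intro x hx
    rw [pow_two] at hx
    induction hx using Submodule.mul_induction_on' with
    | mem_mul_mem y hy z hz =>
      rw [Derivation.leibniz]
      exact add_mem (hm y hy _) (hm z hz _)
    | add x _ y _ hx hy => rw [map_add]; exact add_mem hx hy
  have hMmem : ∀ x ∈ M, d x ∈ N := by
    intro x hx
    obtain ⟨y, hy, z, hz, rfl⟩ := Submodule.mem_sup.1 (hM hx)
    rw [map_add]
    exact add_mem (hImem y hy).2 (hsqmem z hz)
  have hall : ∀ x, d x ∈ N := by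
    intro x
    obtain ⟨r, hr⟩ := exists_approx e₁ e₂ x
    have h0 : algebraMap _ (LocS e₁ e₂) (r - algebraMap k _ (eps0 e₁ e₂ r)) ∈ M :=
      Ideal.mem_map_of_mem _ (by simp [RingHom.mem_ker])
    rw [map_sub, ← IsScalarTower.algebraMap_apply, IsScalarTower.algebraMap_apply k C (LocS e₁ e₂)] at h0
    have e : x = (x - algebraMap _ (LocS e₁ e₂) r)
        + (algebraMap _ (LocS e₁ e₂) r - algebraMap C (LocS e₁ e₂) (algebraMap k C (eps0 e₁ e₂ r)))
        + algebraMap C (LocS e₁ e₂) (algebraMap k C (eps0 e₁ e₂ r)) := by ring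
    rw [e, map_add, map_add, Derivation.map_algebraMap, add_zero]
    exact add_mem (hsqmem _ hr) (hMmem _ h0)
  have hess : Algebra.EssFiniteType k (LocS e₁ e₂) := by
    have := finiteType_tensor (k := k) (C₁ := C₁) (D := D)
    have : Algebra.EssFiniteType k (C₁ ⊗[k] D) := inferInstance
    have : Algebra.EssFiniteType (C₁ ⊗[k] D) (LocS e₁ e₂) :=
      Algebra.EssFiniteType.of_isLocalization (LocS e₁ e₂) (M0 e₁ e₂).primeCompl
    exact Algebra.EssFiniteType.comp k (C₁ ⊗[k] D) (LocS e₁ e₂)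
  have : Algebra.EssFiniteType C (LocS e₁ e₂) := Algebra.EssFiniteType.of_comp k C (LocS e₁ e₂)
  have htop : (⊤ : Submodule (LocS e₁ e₂) (Ω[(LocS e₁ e₂)⁄C])) ≤ M • ⊤ := by
    rw [← KaehlerDifferential.span_range_derivation C (LocS e₁ e₂), Submodule.span_le]
    rintro _ ⟨x, rfl⟩
    rw [KaehlerDifferential.span_range_derivation C (LocS e₁ e₂)]
    exact hall x
  have hjac : M ≤ Ideal.jacobson ⊥ := by
    refine le_trans ?_ (IsLocalRing.maximalIdeal_le_jacobson _)
    exact (Localization.AtPrime.map_eq_maximalIdeal (I := M0 e₁ e₂)).le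
  have := Submodule.eq_bot_of_le_smul_of_le_jacobson_bot M (⊤ : Submodule (LocS e₁ e₂) (Ω[(LocS e₁ e₂)⁄C]))
    Module.Finite.fg_top htop hjac
  refine ⟨?_⟩
  have hb : ∀ w : Ω[(LocS e₁ e₂)⁄C], w = 0 := fun w => (Submodule.mem_bot (LocS e₁ e₂)).1 (this ▸ Submodule.mem_top)
  exact ⟨fun a b => (hb a).trans (hb b).symm⟩

/-- A transversal section through a rational point at which the closed subscheme is regular. -/
theorem exists_section {C D : Type u} [CommRing C] [IsDomain C] [Algebra k C] [Algebra.FiniteType k C]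
    [CommRing D] [IsDomain D] [Algebra k D] [Algebra.FiniteType k D] (p : C →ₐ[k] D)
    (hp : Function.Surjective p) (e₂ : D →ₐ[k] k) [(RingHom.ker e₂).IsPrime]
    [IsRegularLocalRing (Localization.AtPrime (RingHom.ker e₂))]
    {g b : ℕ} (hg : ringKrullDim C = g) (hb : ringKrullDim D = b) :
    ∃ (P : Ideal C) (_ : P.IsPrime), P ≤ RingHom.ker (e₂.comp p) ∧
      (∀ d, e₂ d = 0 → ∃ s, e₂ s ≠ 0 ∧ s * d ∈ P.map p) ∧
      ∃ w : ℕ, ringKrullDim (C ⧸ P) = w ∧ g ≤ w + b := by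
  classical
  have hmax : (RingHom.ker e₂).IsMaximal :=
    RingHom.ker_isMaximal_of_surjective _ fun c => ⟨algebraMap k _ c, by simp⟩
  let m : PrimeSpectrum D := ⟨RingHom.ker e₂, inferInstance⟩
  have hco : coheight m = 0 := by
    rw [coheight_eq_zero]
    intro q hq
    exact (PrimeSpectrum.ext (hmax.eq_of_le q.2.ne_top hq)).ge
  have hht : height m = (b : ℕ∞) := by
    have := VarDim.height_add_coheight_eq k b D hb m
    rwa [hco, add_zero] at this
  let Dm := Localization.AtPrime (RingHom.ker e₂)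
  have : IsNoetherianRing D := Algebra.FiniteType.isNoetherianRing k D
  have hdim : ringKrullDim Dm = (b : WithBot ℕ∞) := by
    rw [IsLocalization.AtPrime.ringKrullDim_eq_height (RingHom.ker e₂) Dm,
      PrimeSpectrum.height_eq_orderHeight m, hht]
    rfl
  have hfg : (IsLocalRing.maximalIdeal Dm).FG := IsNoetherian.noetherian _
  obtain ⟨G, hG, hGspan⟩ := Submodule.FG.exists_span_set_encard_eq_spanFinrank hfg
  have hGfin : G.Finite := by
    refine Set.encard_ne_top_iff.1 ?_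
    rw [hG]
    exact ENat.natCast_ne_top _
  have hGcard : G.ncard = b := by
    have h1 := (isRegularLocalRing_iff Dm).1 inferInstance
    rw [hdim] at h1
    have h2 : (IsLocalRing.maximalIdeal Dm).spanFinrank = b := by exact_mod_cast h1
    rw [Set.ncard_def, hG, h2, ENat.toNat_coe]
  have hnum : ∀ x ∈ G, ∃ t : D, e₂ t = 0 ∧ ∃ s : (RingHom.ker e₂).primeCompl,
      x * algebraMap D Dm s = algebraMap D Dm t := by
    intro x hx
    obtain ⟨⟨t, s⟩, hts⟩ := IsLocalization.surj (RingHom.ker e₂).primeCompl x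
    refine ⟨t, ?_, s, hts⟩
    have hxm : x ∈ IsLocalRing.maximalIdeal Dm := hGspan ▸ Submodule.subset_span hx
    have : algebraMap D Dm t ∈ IsLocalRing.maximalIdeal Dm := hts ▸ Ideal.mul_mem_right _ _ hxm
    rw [← Ideal.mem_comap, ← Ideal.under_def, IsLocalization.AtPrime.comap_maximalIdeal Dm (RingHom.ker e₂)] at this
    exact RingHom.mem_ker.1 this
  choose! t ht s hs using hnum
  choose f hf using fun x : D => hp x
  let T : Finset C := hGfin.toFinset.image fun x => f (t x)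
  have hTcard : T.card ≤ b := by
    refine Finset.card_image_le.trans ?_
    rw [← Set.ncard_eq_toFinset_card G hGfin, hGcard]
  have hTle : Ideal.span (T : Set C) ≤ RingHom.ker (e₂.comp p) := by
    rw [Ideal.span_le]
    intro c hc
    obtain ⟨x, hx, rfl⟩ := Finset.mem_image.1 (Finset.mem_coe.1 hc)
    rw [SetLike.mem_coe, RingHom.mem_ker, AlgHom.comp_apply, hf]
    exact ht x (hGfin.mem_toFinset.1 hx)
  have hkp : (RingHom.ker (e₂.comp p)).IsPrime := RingHom.ker_isPrime _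
  obtain ⟨P, hP, hPle⟩ := Ideal.exists_minimalPrimes_le hTle
  have hPp : P.IsPrime := hP.1.1
  refine ⟨P, hPp, hPle, ?_, ?_⟩
  · intro d hd
    have hTP : Ideal.span (t '' G) ≤ P.map p := by
      rw [Ideal.span_le]
      rintro _ ⟨x, hx, rfl⟩
      rw [← hf (t x)]
      exact Ideal.mem_map_of_mem _ (hP.1.2 (Ideal.subset_span (Finset.mem_coe.2
        (Finset.mem_image_of_mem _ (hGfin.mem_toFinset.2 hx)))))
    have hd' : algebraMap D Dm d ∈ (Ideal.span (t '' G)).map (algebraMap D Dm) := by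
      have hdm : algebraMap D Dm d ∈ IsLocalRing.maximalIdeal Dm := by
        rw [← Ideal.mem_comap, ← Ideal.under_def, IsLocalization.AtPrime.comap_maximalIdeal Dm (RingHom.ker e₂)]
        exact RingHom.mem_ker.2 hd
      rw [← hGspan] at hdm
      refine Ideal.span_le.2 ?_ hdm
      intro x hx
      rw [SetLike.mem_coe, ← Ideal.mul_unit_mem_iff_mem _ (IsLocalization.map_units Dm (s x)), hs x hx]
      exact Ideal.mem_map_of_mem _ (Ideal.subset_span ⟨x, hx, rfl⟩)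
    obtain ⟨⟨a, u⟩, hau⟩ := (IsLocalization.mem_map_algebraMap_iff (RingHom.ker e₂).primeCompl Dm).1 hd'
    rw [← map_mul] at hau
    obtain ⟨v, hv⟩ := (IsLocalization.eq_iff_exists (RingHom.ker e₂).primeCompl Dm).1 hau
    refine ⟨v * u, ?_, ?_⟩
    · rw [map_mul]
      exact mul_ne_zero (fun h => v.2 (RingHom.mem_ker.2 h)) (fun h => u.2 (RingHom.mem_ker.2 h))
    · have : (v : D) * u * d = v * a := by rw [← hv]; ring
      rw [this]
      exact hTP (Ideal.mul_mem_left _ _ a.2)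
  · obtain ⟨w, hw, -⟩ := VarDim.exists_dim_eq_trdeg k (C ⧸ P)
    refine ⟨w, hw, ?_⟩
    have : IsNoetherianRing C := Algebra.FiniteType.isNoetherianRing k C
    have hh : P.height ≤ (T.card : ℕ∞) := Ideal.height_le_card_of_mem_minimalPrimes_span_finset hP
    have hsum := VarDim.height_add_coheight_eq k g C hg ⟨P, hPp⟩
    have hco' : coheight (⟨P, hPp⟩ : PrimeSpectrum C) = (w : ℕ∞) :=
      WithBot.coe_inj.1 ((VarDim.coheight_eq_ringKrullDim_quotient _).trans hw)
    rw [← PrimeSpectrum.height_eq_orderHeight, hco'] at hsum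
    have : (g : ℕ∞) ≤ (b : ℕ∞) + w := by
      rw [← hsum]
      exact add_le_add (hh.trans (Nat.cast_le.2 hTcard)) le_rfl
    rw [← Nat.cast_add, Nat.cast_le, add_comm] at this
    exact this

/-- The tensor product has at least the sum of the dimensions. -/
theorem trdeg_tensor {C₁ D : Type u} [CommRing C₁] [IsDomain C₁] [Algebra k C₁] [Algebra.FiniteType k C₁]
    [CommRing D] [IsDomain D] [Algebra k D] [Algebra.FiniteType k D] [IsDomain (C₁ ⊗[k] D)]
    {w b : ℕ} (hw : ringKrullDim C₁ = w) (hb : ringKrullDim D = b) :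
    ringKrullDim (C₁ ⊗[k] D) = (w + b : ℕ) ∧ Algebra.trdeg k (C₁ ⊗[k] D) = (w + b : ℕ) := by
  have := finiteType_tensor (k := k) (C₁ := C₁) (D := D)
  obtain ⟨n, hn, hn'⟩ := VarDim.exists_dim_eq_trdeg k (C₁ ⊗[k] D)
  let z : PrimeSpectrum (C₁ ⊗[k] D) := ⟨⊥, Ideal.isPrime_bot⟩
  have hz : z.asIdeal ∈ minimalPrimes (C₁ ⊗[k] D) := ⟨⟨Ideal.isPrime_bot, le_rfl⟩, fun _ _ _ => bot_le⟩
  have h := VarDim.coheight_minimalPrime_tensor k C₁ D hw hb z hz
  have h0 : height z = 0 := by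
    rw [height_eq_zero]
    exact fun q _ => show z.asIdeal ≤ q.asIdeal from bot_le
  have := VarDim.height_add_coheight_eq k n _ hn z
  rw [h0, h, zero_add] at this
  have e : n = w + b := by exact_mod_cast this.symm
  subst e
  exact ⟨hn, hn'⟩

/-- An unramified map of the function fields of varieties of the same dimension is finite separable. -/
theorem injective_of_unramified {C F : Type u} [CommRing C] [IsDomain C] [Algebra k C]
    [Algebra.FiniteType k C] [Field F] [Algebra k F] [Algebra C F] [IsScalarTower k C F]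
    [Algebra.FormallyUnramified C F] [Algebra.EssFiniteType C F]
    {g : ℕ} (hg : ringKrullDim C = g) (hF : (g : Cardinal) ≤ Algebra.trdeg k F) :
    Function.Injective (algebraMap C F) := by
  let q : Ideal C := RingHom.ker (algebraMap C F)
  have hq : q.IsPrime := RingHom.ker_isPrime _
  let C' := C ⧸ q
  letI : Algebra C' F := (Ideal.Quotient.lift q (algebraMap C F) fun a ha => RingHom.mem_ker.1 ha).toAlgebra
  have : IsScalarTower C C' F := IsScalarTower.of_algebraMap_eq fun c => rfl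
  have : IsScalarTower k C' F := IsScalarTower.of_algebraMap_eq fun c =>
    IsScalarTower.algebraMap_apply k C F c
  have hinj : Function.Injective (algebraMap C' F) := RingHom.lift_injective_of_ker_le_ideal q _ le_rfl
  have : FaithfulSMul C' F := (faithfulSMul_iff_algebraMap_injective _ _).2 hinj
  letI : Algebra (FractionRing C') F := FractionRing.liftAlgebra C' F
  have : IsScalarTower C' (FractionRing C') F := FractionRing.isScalarTower_liftAlgebra C' F
  have : Algebra.FormallyUnramified C' F := Algebra.FormallyUnramified.of_restrictScalars C C' F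
  have : Algebra.FormallyUnramified (FractionRing C') F :=
    Algebra.FormallyUnramified.of_restrictScalars C' (FractionRing C') F
  have : Algebra.EssFiniteType C' F := Algebra.EssFiniteType.of_comp C C' F
  have : Algebra.EssFiniteType (FractionRing C') F := Algebra.EssFiniteType.of_comp C' (FractionRing C') F
  have hsep : Algebra.IsSeparable (FractionRing C') F :=
    Algebra.FormallyUnramified.isSeparable (FractionRing C') F
  have halg : Algebra.IsAlgebraic (FractionRing C') F := Algebra.IsSeparable.isAlgebraic _ _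
  have : Algebra.IsAlgebraic C' F :=
    (IsFractionRing.comap_isAlgebraic_iff (A := C') (K := FractionRing C') (C := F)).2 halg
  obtain ⟨n, hn, hn'⟩ := VarDim.exists_dim_eq_trdeg k C'
  have htr : Algebra.trdeg k F = n := by
    rw [← trdeg_add_eq k C' (A := F), trdeg_eq_zero (R := C'), add_zero, hn']
  rw [htr, Nat.cast_le] at hF
  have hco : coheight (⟨q, hq⟩ : PrimeSpectrum C) = (n : ℕ∞) :=
    WithBot.coe_inj.1 ((VarDim.coheight_eq_ringKrullDim_quotient _).trans hn)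
  have hsum := VarDim.height_add_coheight_eq k g C hg ⟨q, hq⟩
  rw [hco] at hsum
  have hh : height (⟨q, hq⟩ : PrimeSpectrum C) = 0 := by
    have hle : (n : ℕ∞) ≤ g := hsum ▸ le_add_self
    have hng : n = g := le_antisymm (by exact_mod_cast hle) hF
    subst hng
    exact (WithTop.add_right_cancel (ENat.natCast_ne_top n) (hsum.trans (zero_add _).symm))
  have hbot : q = ⊥ := by
    have := (height_eq_zero.1 hh) (b := ⟨⊥, Ideal.isPrime_bot⟩) (show (⊥ : Ideal C) ≤ q from bot_le)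
    exact le_bot_iff.1 this
  exact (RingHom.injective_iff_ker_eq_bot _).2 hbot

theorem trdeg_eq_of_isFractionRing (A K : Type u) [CommRing A] [IsDomain A] [Algebra k A] [Field K]
    [Algebra k K] [Algebra A K] [IsScalarTower k A K] [IsFractionRing A K] :
    Algebra.trdeg k K = Algebra.trdeg k A := by
  have : Algebra.IsAlgebraic A K := IsLocalization.isAlgebraic _ (nonZeroDivisors A)
  rw [← trdeg_add_eq k A (A := K), trdeg_eq_zero (R := A), add_zero]

end Groth.Agent.AVRosati.ReducAlg
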