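import Groth.Agent.AVRosati.Reduc
import Groth.Agent.GrpSchLib.RigidHom
import Groth.Agent.GrpSchLib.GeomIrr
import Groth.Agent.GrpSchLib.FieldComp
import Groth.Agent.GrpSchLib.AntiAffineHom
import Groth.Agent.GrpSchLib.SmoothReduced
import Groth.Agent.H23.EquidimFibres
import Groth.Agent.H23.MaxAbelian
import Groth.Agent.IsogLib.Kernel
import Groth.Agent.Lib.AVMulN
import Groth.Agent.SchTorsor.Props
import Groth.Agent.Triage.SchDense
import Groth.Agent.S7795
import Groth.Agent.S7782

/-!
Connected subgroups of abelian varieties over an arbitrary field contain an abelian subvariety with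
the same underlying space.
-/

noncomputable section

set_option linter.style.haveILetI false
set_option linter.unusedSectionVars false
set_option backward.isDefEq.respectTransparency false
set_option backward.isDefEq.respectTransparency.types false

universe u

open CategoryTheory CategoryTheory.Limits AlgebraicGeometry MonoidalCategory CartesianMonoidalCategory
open scoped MonObj

namespace Groth.Agent.AVRosati.SubAV

variable {k : Type u} [Field k]

/-- Poincaré reducibility: an abelian subvariety is a direct factor up to isogeny. -/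
theorem exists_retraction {A B : Over (Spec (CommRingCat.of k))} [GrpObj A] [IsProper A.hom]
    [GeometricallyIntegral A.hom] [GrpObj B] [IsProper B.hom] [GeometricallyIntegral B.hom] (i : B ⟶ A)
    [IsMonHom i] [IsClosedImmersion i.left] :
    ∃ (u : A ⟶ B) (n : ℕ), 0 < n ∧ IsMonHom u ∧ i ≫ u = 𝟙 B ^ n := by
  haveI : IsCommMonObj A := isCommMonObj_of_isProper_of_geometricallyIntegral A
  haveI : IsCommMonObj B := isCommMonObj_of_isProper_of_geometricallyIntegral B
  haveI : Smooth A.hom := Groth.Agent.S7795.result A
  haveI : Smooth B.hom := Groth.Agent.S7795.result B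
  obtain ⟨φ, n, hn, hφ⟩ := Reduc.exists_quasi_retraction (G := A) (A := B) i
  let u : A ⟶ B := φ * ((1 : A ⟶ A) ≫ φ)⁻¹
  haveI hu : IsMonHom u := by
    refine GrpSchLib.RigidHom.isMonHom_of_one u ?_
    simp only [u, MonObj.comp_mul, GrpObj.comp_inv, ← Category.assoc]
    rw [MonObj.comp_one η[A], MonObj.one_eq_one, mul_inv_cancel]
  refine ⟨u, n, hn, hu, ?_⟩
  have h := hφ B (1 : B ⟶ A) (𝟙 B)
  rw [_root_.one_mul, Category.id_comp] at h
  have h1 : i ≫ (1 : A ⟶ A) ≫ φ = (1 : B ⟶ A) ≫ φ := by rw [← Category.assoc, MonObj.comp_one]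
  simp only [u, MonObj.comp_mul, GrpObj.comp_inv, h1, h]
  rw [mul_comm ((1 : B ⟶ A) ≫ φ), mul_inv_cancel_right]

theorem mono_of_closed {X Y : Over (Spec (CommRingCat.of k))} (i : X ⟶ Y) [IsClosedImmersion i.left] : Mono i :=
  (Over.forget _).mono_of_mono_map (inferInstanceAs (Mono i.left))

theorem exists_lift_over {T X Y : Over (Spec (CommRingCat.of k))} [IsReduced T.left] (f : T ⟶ Y) (i : X ⟶ Y)
    [IsClosedImmersion i.left] (h : Set.range f.left ⊆ Set.range i.left) : ∃ l : T ⟶ X, l ≫ i = f := by
  obtain ⟨g, hg⟩ := H23.RedSub.exists_lift_closed f.left i.left h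
  refine ⟨Over.homMk g ?_, Over.OverMorphism.ext hg⟩
  rw [← Over.w i, ← Category.assoc, hg, Over.w]

theorem isCommMonObj_of_mono {G H : Over (Spec (CommRingCat.of k))} [GrpObj G] [GrpObj H] [IsCommMonObj H]
    (e : G ⟶ H) [IsMonHom e] [Mono e] : IsCommMonObj G :=
  (isCommMonObj_iff_isMulCommutative G).2 fun T => ⟨⟨fun a b => by
    rw [← cancel_mono e, MonObj.mul_comp, MonObj.mul_comp, mul_comm]⟩⟩

theorem isMonHom_of_comp_mono {X Y Z : Over (Spec (CommRingCat.of k))} [GrpObj X] [GrpObj Y] [GrpObj Z]
    (f : X ⟶ Y) (i : Y ⟶ Z) [IsMonHom i] [Mono i] [IsMonHom (f ≫ i)] : IsMonHom f where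
  one_hom := by rw [← cancel_mono i, Category.assoc, IsMonHom.one_hom (f ≫ i), IsMonHom.one_hom i]
  mul_hom := by
    rw [← cancel_mono i, Category.assoc, IsMonHom.mul_hom (f ≫ i), Category.assoc, IsMonHom.mul_hom i,
      MonoidalCategory.tensorHom_comp_tensorHom_assoc]

theorem surjective_of_range {X Y : Over (Spec (CommRingCat.of k))} {Z : Over (Spec (CommRingCat.of k))}
    (f : X ⟶ Y) (i : Y ⟶ Z) [IsClosedImmersion i.left] (h : Set.range i.left ⊆ Set.range (f ≫ i).left) :
    Surjective f.left := ⟨fun y => by
  obtain ⟨x, hx⟩ := h ⟨y, rfl⟩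
  refine ⟨x, i.left.isEmbedding.injective ?_⟩
  rw [Over.comp_left, Scheme.Hom.comp_apply] at hx
  exact hx⟩

section AlgClosed

variable {X Y : Over (Spec (CommRingCat.of k))} [GrpObj X] [IsProper X.hom] [GeometricallyIntegral X.hom]
  [GrpObj Y] [ConnectedSpace Y.left] (i : Y ⟶ X) [IsMonHom i] [IsClosedImmersion i.left]

include i in
theorem isProper_sub : IsProper Y.hom := by
  rw [← Over.w i]; infer_instance

include i in
theorem isCommMonObj_sub : IsCommMonObj Y := by
  haveI : IsCommMonObj X := isCommMonObj_of_isProper_of_geometricallyIntegral X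
  haveI := mono_of_closed i
  exact isCommMonObj_of_mono i

include i in
theorem geometricallyIrreducible_sub : GeometricallyIrreducible Y.hom := by
  haveI := isProper_sub i
  obtain ⟨g, hg, hge⟩ := GrpSchLib.exists_isMaxPt (η[Y].left (IsLocalRing.closedPoint k))
  have hu : closure ({g} : Set Y.left) = Set.univ := by
    rw [← GrpSchLib.connectedComponent_one hg hge]
    exact PreconnectedSpace.connectedComponent_eq_univ _
  haveI : IsClosedImmersion (𝟙 Y : Y ⟶ Y).left := by rw [Over.id_left]; infer_instance
  exact GrpSchLib.geometricallyIrreducible_one hg hge (𝟙 Y) (hu ▸ Set.range_eq_univ.2 fun x => ⟨x, rfl⟩)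

variable [IsAlgClosed k]

include i in
/-- Over an algebraically closed field a multiple of the identity of a connected subgroup factors through
the abelian subvariety with the same space. -/
theorem exists_pow_factor :
    ∃ (M : ℕ) (R : Over (Spec (CommRingCat.of k))) (_ : GrpObj R) (r : Y ⟶ R) (l : R ⟶ Y), 0 < M ∧
      IsMonHom l ∧ IsProper R.hom ∧ GeometricallyIntegral R.hom ∧ IsClosedImmersion l.left ∧ Surjective l.left ∧
      Surjective r.left ∧ r ≫ l = 𝟙 Y ^ M := by
  haveI := isProper_sub i
  haveI : IsCommMonObj Y := isCommMonObj_sub i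
  haveI : IsCommMonObj X := isCommMonObj_of_isProper_of_geometricallyIntegral X
  haveI := mono_of_closed i
  haveI := geometricallyIrreducible_sub i
  haveI : IrreducibleSpace Y.left := GeometricallyIrreducible.irreducibleSpace_of_subsingleton Y.hom
  have hirr : IsIrreducible (Set.range i.left) := by
    rw [← Set.image_univ]
    exact (IrreducibleSpace.isIrreducible_univ _).image _ i.left.continuous.continuousOn
  obtain ⟨V, em, hem, hVr, hVp, hVi, hVint⟩ :=
    H23.EquidimFibres.exists_integral_sub (X := X) i.left.isClosedEmbedding.isClosed_range hirr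
  haveI := hem
  haveI := hVp
  haveI := hVi
  haveI := hVint
  obtain ⟨emY, hemY⟩ := exists_lift_over em i hVr.subset
  obtain ⟨R, hRG, jR, hjR, hjRc, hRp, hRi, hjRr⟩ := H23.MaxAbelian.exists_image' em
    (by
      rw [hVr, ← IsMonHom.one_hom i, Over.comp_left]
      exact Set.range_comp_subset_range η[Y].left i.left)
    (by
      rw [hVr, ← hemY, ← Category.assoc, ← Category.assoc, ← MonObj.mul_comp, Over.comp_left]
      exact Set.range_comp_subset_range ((fst V V ≫ emY) * (snd V V ≫ emY)).left i.left)
    (by
      rw [hVr, ← hemY, ← GrpObj.inv_comp, Over.comp_left]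
      exact Set.range_comp_subset_range (emY⁻¹).left i.left)
  haveI := hjR
  haveI := hjRc
  haveI := hRp
  haveI := hRi
  haveI : IsIntegral R.left := H23.MaxAbelian.isIntegral_of_geometricallyIntegral
  haveI : IsCommMonObj R := isCommMonObj_of_isProper_of_geometricallyIntegral R
  obtain ⟨l, hl⟩ := exists_lift_over jR i (hjRr.trans hVr).subset
  haveI : IsMonHom (l ≫ i) := hl ▸ hjR
  haveI : IsMonHom l := isMonHom_of_comp_mono l i
  haveI : IsClosedImmersion l.left := by
    haveI : IsClosedImmersion (l.left ≫ i.left) := by rw [← Over.comp_left, hl]; exact hjRc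
    exact IsClosedImmersion.of_comp l.left i.left
  haveI : Surjective l.left := surjective_of_range l i (by rw [hl, hjRr, hVr])
  obtain ⟨u, n, hn, hu, hju⟩ := exists_retraction jR
  let q : Y ⟶ R := i ≫ u
  have hlq : l ≫ q = 𝟙 R ^ n := by rw [← Category.assoc, hl, hju]
  let g : Y ⟶ Y := 𝟙 Y ^ n * (q ≫ l)⁻¹
  have hgq : g ≫ q = 1 := by
    simp only [g, MonObj.mul_comp, MonObj.pow_comp, GrpObj.inv_comp, Category.id_comp, Category.assoc, hlq,
      MonObj.comp_pow, Category.comp_id]
    exact mul_inv_cancel _
  have hlg : l ≫ g = 1 := by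
    simp only [g, MonObj.comp_mul, MonObj.comp_pow, GrpObj.comp_inv, Category.comp_id]
    rw [← Category.assoc l q l, hlq, MonObj.pow_comp, Category.id_comp]
    exact mul_inv_cancel _
  have hgpt : ∀ y, g.left y = η[Y].left (IsLocalRing.closedPoint k) := by
    intro y
    obtain ⟨z, rfl⟩ := Scheme.Hom.surjective l.left y
    rw [← Scheme.Hom.comp_apply, ← Over.comp_left, hlg, Hom.one_def, Over.comp_left, Scheme.Hom.comp_apply]
    exact congrArg _ (Subsingleton.elim (α := PrimeSpectrum k) _ _)
  -- the kernel of `q`
  have hF : IsPullback (pullback.fst q η[R]) (toUnit (pullback q η[R])) q η[R] := by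
    have h := IsPullback.of_hasPullback q η[R]
    rwa [toUnit_unique (pullback.snd q η[R]) (toUnit _)] at h
  generalize pullback.fst q η[R] = incl at hF
  generalize pullback q η[R] = F at incl hF
  obtain ⟨_, hincl⟩ := IsogLib.exists_grpObj_kernel q hF
  haveI := hincl
  haveI : IsClosedImmersion incl.left := by
    have h := hF.map (Over.forget _)
    exact MorphismProperty.of_isPullback (P := @IsClosedImmersion)
      (show IsPullback incl.left (toUnit F).left q.left η[R].left from h).flip inferInstance
  haveI : IsProper F.hom := by rw [← Over.w incl]; infer_instance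
  haveI : IsCommMonObj F := by
    haveI := mono_of_closed incl
    exact isCommMonObj_of_mono incl
  have hkg : incl ≫ g = incl ^ n := by
    simp only [g, MonObj.comp_mul, MonObj.comp_pow, GrpObj.comp_inv, Category.comp_id]
    rw [← Category.assoc incl q l, IsogLib.kernel_comp q hF, MonObj.one_comp, inv_one, _root_.mul_one]
  haveI : Finite F.left := by
    have hfin := (AVMulN.isFinite_pow (A := X) n hn)
    let φ : F.left ⟶ X.left := (incl.left ≫ i.left) ≫ ((𝟙 X ^ n : X ⟶ X)).left
    haveI : IsFinite φ := inferInstance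
    have hφ : ∀ z, φ z = η[X].left (IsLocalRing.closedPoint k) := by
      intro z
      have h1 : incl ≫ i ≫ ((𝟙 X ^ n : X ⟶ X)) = (incl ≫ g) ≫ i := by
        rw [hkg, MonObj.pow_comp, MonObj.comp_pow, MonObj.comp_pow, Category.comp_id]
      have h2 := congr(($h1).left z)
      simp only [Over.comp_left, Scheme.Hom.comp_apply] at h2
      show ((𝟙 X ^ n : X ⟶ X)).left (i.left (incl.left z)) = _
      rw [h2, hgpt, ← IsMonHom.one_hom i, Over.comp_left, Scheme.Hom.comp_apply]
    have h := φ.finite_preimage_singleton (η[X].left (IsLocalRing.closedPoint k))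
    have : φ ⁻¹' {η[X].left (IsLocalRing.closedPoint k)} = Set.univ := Set.eq_univ_of_forall hφ
    rw [this] at h
    exact Set.finite_univ_iff.1 h
  haveI : IsFinite F.hom := by
    haveI : LocallyQuasiFinite F.hom :=
      LocallyQuasiFinite.of_finite_preimage_singleton _ fun _ => Set.toFinite _
    exact IsFinite.of_isProper_of_locallyQuasiFinite F.hom
  haveI : Subsingleton ↥(Spec (CommRingCat.of k)) := inferInstanceAs (Subsingleton (PrimeSpectrum k))
  haveI : Flat F.hom := inferInstance
  haveI : LocallyOfFinitePresentation F.hom := inferInstance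
  let m : ℕ := Scheme.Hom.finrank F.hom (IsLocalRing.closedPoint k)
  have hm : 0 < m := by
    haveI : Surjective F.hom := ⟨fun y => ⟨η[F].left (IsLocalRing.closedPoint k), Subsingleton.elim _ _⟩⟩
    exact (Scheme.Hom.one_le_finrank_iff_surjective F.hom).2 inferInstance _
  obtain ⟨g₁, hg₁⟩ := IsogLib.exists_kernel_lift q hF g hgq
  have hgm : g ^ m = 1 := by
    rw [← hg₁, ← MonObj.pow_comp,
      S7782.result F m (fun s => congrArg _ (Subsingleton.elim s _)) Y g₁, MonObj.one_comp]
  refine ⟨n * m, R, hRG, q ^ m, l, Nat.mul_pos hn hm, inferInstance, hRp, hRi, inferInstance, inferInstance, ?_, ?_⟩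
  · have h : l ≫ q ^ m = 𝟙 R ^ (n * m) := by rw [MonObj.comp_pow, hlq, ← pow_mul]
    haveI : Surjective (l.left ≫ (q ^ m).left) := by
      rw [← Over.comp_left, h]
      exact AVMulN.surjective_pow (A := R) _ (Nat.mul_pos hn hm)
    exact Surjective.of_comp l.left (q ^ m).left
  · have e : (𝟙 Y : Y ⟶ Y) ^ n = g * (q ≫ l) := (inv_mul_cancel_right _ _).symm
    rw [pow_mul, e, mul_pow, hgm, _root_.one_mul, MonObj.pow_comp]

end AlgClosed

/-- A connected subgroup of an abelian variety has the same space as an abelian subvariety. -/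
theorem exists_abelian_sub_of_connected {X Y : Over (Spec (CommRingCat.of k))} [GrpObj X] [IsProper X.hom]
    [GeometricallyIntegral X.hom] [GrpObj Y] [ConnectedSpace Y.left] (i : Y ⟶ X) [IsMonHom i]
    [IsClosedImmersion i.left] :
    ∃ (N : Over (Spec (CommRingCat.of k))) (_ : GrpObj N) (j : N ⟶ Y), IsMonHom j ∧ IsClosedImmersion j.left ∧
      Surjective j.left ∧ IsProper N.hom ∧ GeometricallyIntegral N.hom := by
  haveI := isProper_sub i
  haveI : IsCommMonObj Y := isCommMonObj_sub i
  let K := AlgebraicClosure k
  let φ := algebraMap k K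
  let σ := Spec.map (CommRingCat.ofHom φ)
  let F := Over.pullback σ
  haveI : Flat σ := GrpSchLib.flat_spec_map_field φ
  haveI : Surjective σ := ⟨fun y => ⟨IsLocalRing.closedPoint K, Subsingleton.elim (α := PrimeSpectrum k) _ _⟩⟩
  haveI : IsProper (Red.bc σ X).hom := MorphismProperty.pullback_snd (P := @IsProper) X.hom σ inferInstance
  haveI : GeometricallyIntegral (Red.bc σ X).hom :=
    MorphismProperty.pullback_snd (P := @GeometricallyIntegral) X.hom σ inferInstance
  haveI : ConnectedSpace ↥(Red.bc σ Y).left := GrpSchLib.AntiAffine.connectedSpace_bc Y φ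
  haveI : IsMonHom (F.map i) := inferInstance
  haveI : IsClosedImmersion (F.map i).left :=
    MorphismProperty.baseChange_map (P := @IsClosedImmersion) σ i inferInstance
  obtain ⟨M, R, _, r, l, hM, hl, hRp, hRi, hlc, hls, hrs, hrl⟩ := exists_pow_factor (F.map i)
  haveI := hlc
  haveI := hls
  haveI := hrs
  haveI := hRp
  haveI := hRi
  haveI : IsIntegral R.left := H23.MaxAbelian.isIntegral_of_geometricallyIntegral
  -- the image of multiplication by `M`
  let f : Y ⟶ Y := 𝟙 Y ^ M
  haveI : QuasiCompact f.left := by
    haveI : QuasiCompact (f.left ≫ Y.hom) := by rw [Over.w f]; infer_instance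
    exact QuasiCompact.of_comp f.left Y.hom
  let Z : Over (Spec (CommRingCat.of k)) := Over.mk (f.left.imageι ≫ Y.hom)
  let j : Z ⟶ Y := Over.homMk f.left.imageι rfl
  haveI : IsClosedImmersion j.left := inferInstanceAs (IsClosedImmersion f.left.imageι)
  let τ : Y ⟶ Z := Over.homMk f.left.toImage (by
    show f.left.toImage ≫ f.left.imageι ≫ Y.hom = Y.hom
    rw [Scheme.Hom.toImage_imageι_assoc, Over.w f])
  have hτ : τ ≫ j = f := Over.OverMorphism.ext f.left.toImage_imageι
  haveI : IsSchemeTheoreticallyDominant τ.left := Triage.SchDense.isSchemeTheoreticallyDominant_toImage f.left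
  haveI : QuasiCompact τ.left := inferInstanceAs (QuasiCompact f.left.toImage)
  haveI : IsProper Z.hom := inferInstanceAs (IsProper (f.left.imageι ≫ Y.hom))
  have hFf : F.map f = r ≫ l := by
    rw [hrl]
    show F.homMonoidHom (𝟙 Y ^ M) = _
    rw [map_pow]
    show F.map (𝟙 Y) ^ M = _
    rw [F.map_id]
  haveI : IsClosedImmersion (F.map j).left :=
    MorphismProperty.baseChange_map (P := @IsClosedImmersion) σ j inferInstance
  haveI : IsSchemeTheoreticallyDominant (F.map τ).left := by
    have hsq : IsPullback ((F.map τ).left) (pullback.fst Y.hom σ) (pullback.fst Z.hom σ) τ.left :=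
      IsPullback.of_right (show IsPullback ((F.map τ).left ≫ pullback.snd Z.hom σ) (pullback.fst Y.hom σ) σ
          (τ.left ≫ Z.hom) from by
        have e1 : (F.map τ).left ≫ pullback.snd Z.hom σ = pullback.snd Y.hom σ := Over.w (F.map τ)
        rw [e1, Over.w τ]
        exact (IsPullback.of_hasPullback Y.hom σ).flip) (pullback.lift_fst _ _ _)
        (IsPullback.of_hasPullback Z.hom σ).flip
    exact IsSchemeTheoreticallyDominant.of_isPullback hsq.flip
  haveI : QuasiCompact (F.map τ).left :=
    MorphismProperty.baseChange_map (P := @QuasiCompact) σ τ inferInstance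
  -- the image becomes the reduced subgroup
  let P := pullback (F.map j).left l.left
  let c : P ⟶ (F.obj Z).left := pullback.fst (F.map j).left l.left
  have hfac : (F.map τ).left ≫ (F.map j).left = r.left ≫ l.left := by
    rw [← Over.comp_left, ← F.map_comp, hτ, hFf, Over.comp_left]
  let t : (F.obj Y).left ⟶ P := pullback.lift (F.map τ).left r.left hfac
  have htc : t ≫ c = (F.map τ).left := pullback.lift_fst _ _ _
  haveI : IsClosedImmersion c := inferInstanceAs (IsClosedImmersion (pullback.fst (F.map j).left l.left))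
  haveI : IsIso c := by
    rw [IsClosedImmersion.isIso_iff_ker_eq_bot, eq_bot_iff]
    refine le_trans (Scheme.Hom.le_ker_comp t c) ?_
    rw [htc, Scheme.Hom.ker_eq_bot]
  haveI : Surjective (pullback.snd (F.map j).left l.left) := by
    haveI : Surjective (t ≫ pullback.snd (F.map j).left l.left) := by
      rw [pullback.lift_snd]; exact hrs
    exact Surjective.of_comp t _
  haveI : IsIso (pullback.snd (F.map j).left l.left) := isIso_of_isClosedImmersion_of_surjective _
  let e : (F.obj Z).left ≅ R.left := (asIso c).symm ≪≫ asIso (pullback.snd (F.map j).left l.left)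
  have hcomm : e.hom ≫ R.hom = pullback.snd Z.hom σ := by
    have h1 : e.hom ≫ l.left = (F.map j).left := by
      show (inv c ≫ pullback.snd (F.map j).left l.left) ≫ l.left = _
      rw [Category.assoc, ← pullback.condition, IsIso.inv_hom_id_assoc]
    rw [← Over.w l, ← Category.assoc, h1]
    exact Over.w (F.map j)
  haveI : Smooth R.hom := Groth.Agent.S7795.result R
  haveI : Smooth (pullback.snd Z.hom σ) := by rw [← hcomm]; infer_instance
  haveI : Smooth Z.hom :=
    MorphismProperty.of_isPullback_of_descendsAlong (P := @Smooth)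
      (Q := (@Surjective ⊓ @Flat ⊓ @QuasiCompact : MorphismProperty Scheme.{u}))
      (IsPullback.of_hasPullback Z.hom σ).flip
      ⟨⟨inferInstance, inferInstance⟩, inferInstance⟩ inferInstance
  haveI : IsIntegral (F.obj Z).left := H23.MaxAbelian.isIntegral_of_iso e
  haveI : GeometricallyIntegral Z.hom := by
    haveI : GeometricallyReduced Z.hom := GrpSchLib.geometricallyReduced_of_smooth Z.hom
    haveI : GeometricallyIrreducible Z.hom := GrpSchLib.geometricallyIrreducible_of_algClosure Z.hom
      (irreducibleSpace_of_isIntegral (X := (F.obj Z).left))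
    exact GeometricallyIntegral.of_geometricallyReduced_of_geometricallyIrreducible _
  haveI : IsIntegral Z.left := H23.MaxAbelian.isIntegral_of_geometricallyIntegral
  -- `j` is surjective
  haveI : Surjective j.left := by
    haveI : Surjective (F.map j).left := by
      haveI : Surjective ((F.map τ).left ≫ (F.map j).left) := by rw [hfac]; infer_instance
      exact Surjective.of_comp (F.map τ).left _
    haveI : Surjective (pullback.fst Y.hom σ) := MorphismProperty.pullback_fst (P := @Surjective) _ _ inferInstance
    haveI : Surjective (pullback.fst Z.hom σ ≫ j.left) := by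
      have h : (F.map j).left ≫ pullback.fst Y.hom σ = pullback.fst Z.hom σ ≫ j.left := pullback.lift_fst _ _ _
      rw [← h]
      infer_instance
    exact Surjective.of_comp (pullback.fst Z.hom σ) j.left
  have hrange : Set.range (j ≫ i).left = Set.range i.left := by
    rw [Over.comp_left]
    exact Set.Subset.antisymm (Set.range_comp_subset_range j.left i.left) (by
      rintro _ ⟨y, rfl⟩
      obtain ⟨z, rfl⟩ := Scheme.Hom.surjective j.left y
      exact ⟨z, rfl⟩)
  obtain ⟨N, hNG, jN, hjN, hjNc, hNp, hNi, hNr⟩ := H23.MaxAbelian.exists_image' (j ≫ i)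
    (by
      rw [hrange, ← IsMonHom.one_hom i, Over.comp_left]
      exact Set.range_comp_subset_range η[Y].left i.left)
    (by
      rw [hrange, ← Category.assoc, ← Category.assoc, ← MonObj.mul_comp, Over.comp_left]
      exact Set.range_comp_subset_range ((fst Z Z ≫ j) * (snd Z Z ≫ j)).left i.left)
    (by
      rw [hrange, ← GrpObj.inv_comp, Over.comp_left]
      exact Set.range_comp_subset_range (j⁻¹).left i.left)
  haveI := hNi
  haveI := hjN
  haveI := hjNc
  haveI := mono_of_closed i
  haveI : IsIntegral N.left := H23.MaxAbelian.isIntegral_of_geometricallyIntegral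
  obtain ⟨v, hv⟩ := exists_lift_over jN i (hNr.trans hrange).subset
  haveI : IsMonHom (v ≫ i) := hv ▸ hjN
  haveI : IsClosedImmersion v.left := by
    haveI : IsClosedImmersion (v.left ≫ i.left) := by rw [← Over.comp_left, hv]; exact hjNc
    exact IsClosedImmersion.of_comp v.left i.left
  exact ⟨N, hNG, v, isMonHom_of_comp_mono v i, inferInstance,
    surjective_of_range v i (by rw [hv, hNr, hrange]), hNp, hNi⟩

end Groth.Agent.AVRosati.SubAV
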