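import Groth.Agent.AVRosati.Pair
import Groth.Agent.AVRosati.DivPos
import Groth.Agent.AVDegPoly.Quad
import Groth.Agent.AVHomLib.Separating
import Groth.Agent.AVHomLib.CurveDegPos
import Groth.Agent.AmpleVan.Pull

/-!
The trace of an endomorphism as an intersection number, and sources of effective divisors.
-/

noncomputable section

set_option linter.style.haveILetI false
set_option linter.unusedSectionVars false
set_option backward.isDefEq.respectTransparency false
set_option backward.isDefEq.respectTransparency.types false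

universe u

open CategoryTheory CategoryTheory.Limits AlgebraicGeometry MonoidalCategory CartesianMonoidalCategory TopologicalSpace
open scoped MonObj

namespace Groth.Agent.AVRosati

open H23 AVDegPoly

open scoped Groth.Agent.H23.PicMul

attribute [local instance] AVDegPoly.overHom

/-- A section pulls back to a nonzero non-invertible section when its divisor and its complement meet the image. -/
theorem exists_section_pullback {X Y : Scheme.{u}} (f : Y ⟶ X) {M : X.Modules} (hM : PicF.IsInvertible M)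
    (s : Coh.structureModule X ⟶ M) {y₁ y₂ : Y} (h₁ : f y₁ ∈ CohB1.genLocus M s) (h₂ : f y₂ ∉ CohB1.genLocus M s) :
    ∃ t : Coh.structureModule Y ⟶ (Scheme.Modules.pullback f).obj M, t ≠ 0 ∧ ¬ IsIso t := by
  obtain ⟨e⟩ := PicClLib.nonempty_pullback_structureModule f
  have hg := InvX.genLocus_pullback f hM s e.symm
  refine ⟨e.symm.hom ≫ (Scheme.Modules.pullback f).map s, fun h => ?_, fun h => ?_⟩
  · rw [h, AVHomLib.genLocus_eq_bot_of_eq_zero (PicClLib.isInvertible_pullback f hM)] at hg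
    exact absurd (show y₁ ∈ f ⁻¹ᵁ CohB1.genLocus M s from h₁) (by rw [← hg]; exact id)
  · rw [genLocus_eq_top_of_isIso] at hg
    exact h₂ (show y₂ ∈ f ⁻¹ᵁ CohB1.genLocus M s from hg ▸ trivial)

variable {k : Type u} [Field k] {A : Over (Spec (CommRingCat.of k))}
  [GrpObj A] [IsCommMonObj A] [IsProper A.hom] [GeometricallyIntegral A.hom]

/-- A nonzero endomorphism pulls some power of an ample module back to an effective nonzero divisor. -/
theorem exists_section_of_ne_zero {L : A.left.Modules} (hL : CohB1.IsAmple L) (β : EndAV.End A) (hβ : β ≠ 0) :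
    ∃ (m : ℕ) (_ : 1 ≤ m)
      (t : Coh.structureModule A.left ⟶ (Scheme.Modules.pullback (EndAV.End.toHom β).left).obj (CohB1.tensorPow L m)),
      t ≠ 0 ∧ ¬ IsIso t := by
  haveI : IsIntegral A.left := GeometricallyIntegral.isIntegral_of_subsingleton A.hom
  haveI := AmpleX.isSeparated_of_isAmple hL
  obtain ⟨x₁, x₂, hne⟩ : ∃ x₁ x₂, (EndAV.End.toHom β).left x₁ ≠ (EndAV.End.toHom β).left x₂ := by
    by_contra! h
    refine hβ (EndAV.End.ext (AVHomLib.eq_one_of_range_subsingleton (EndAV.End.toHom β) ?_))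
    rintro _ ⟨a, rfl⟩ _ ⟨b, rfl⟩
    exact h a b
  wlog hsp : (EndAV.End.toHom β).left x₂ ∉ closure ({(EndAV.End.toHom β).left x₁} : Set A.left) generalizing x₁ x₂
  · refine this x₂ x₁ hne.symm fun h => hne ?_
    exact ((specializes_iff_mem_closure.2 h).antisymm (specializes_iff_mem_closure.2 (not_not.1 hsp))).eq.symm
  obtain ⟨m, hm, s, hs₂, hle, -⟩ := AmpleX.exists_genLocus_le hL
    (U := ⟨(closure ({(EndAV.End.toHom β).left x₁} : Set A.left))ᶜ, isClosed_closure.isOpen_compl⟩) hsp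
  exact ⟨m, hm, exists_section_pullback _ (InvX.isInvertible_tensorPow hL.1 m) s hs₂
    fun h => hle h (subset_closure rfl)⟩

theorem inv_comp_inv : ((𝟙 A)⁻¹ : A ⟶ A) ≫ (𝟙 A)⁻¹ = 𝟙 A := by
  rw [GrpObj.comp_inv, Category.comp_id, inv_inv]

instance isIso_neg : IsIso ((𝟙 A)⁻¹ : A ⟶ A).left :=
  ⟨((𝟙 A)⁻¹ : A ⟶ A).left, by rw [← Over.comp_left, inv_comp_inv]; rfl, by rw [← Over.comp_left, inv_comp_inv]; rfl⟩

/-- The symmetrised ample class is the class of an ample module. -/
theorem exists_ample_sym {L : A.left.Modules} (hL : CohB1.IsAmple L) :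
    ∃ L' : A.left.Modules, CohB1.IsAmple L' ∧
      ((pair (unitOf hL.1) (𝟙 A) (𝟙 A) : U A) : PicF.Cl A.left) = PicF.cl L' := by
  haveI : CompactSpace A.left := hL.2.1
  have h' := AmpleVan.isAmple_pullback_of_isEmbedding ((𝟙 A)⁻¹ : A ⟶ A).left
    (TopCat.homeoOfIso (asIso ((𝟙 A)⁻¹ : A ⟶ A).left.base)).isEmbedding hL
  refine ⟨_, AmpleX.isAmple_tensor hL h'.1 (fun x => ?_), ?_⟩
  · obtain ⟨-, -, hx⟩ := AmpleX.isAmple_iff.1 h'
    obtain ⟨a, ha, s, hxs, -⟩ := hx x
    obtain ⟨n, rfl⟩ := Nat.exists_eq_add_of_le' ha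
    exact ⟨n, s, hxs⟩
  · rw [pair_self (inv_unitOf hL.1), pb_id, Units.val_mul, PicMul.cl_tensor]
    rfl

/-- The volume of the symmetrised ample class is positive. -/
theorem vol_sym_pos {L : A.left.Modules} (hL : CohB1.IsAmple L) {g : ℕ} (hg : topologicalKrullDim A.left = g) :
    (0 : ℚ) < (volCl k A.left g ((pair (unitOf hL.1) (𝟙 A) (𝟙 A) : U A) : PicF.Cl A.left) : ℚ) := by
  haveI : IsIntegral A.left := GeometricallyIntegral.isIntegral_of_subsingleton A.hom
  obtain ⟨L', hL', he⟩ := exists_ample_sym hL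
  rw [he]
  exact_mod_cast volCl_pos k A.left hL' hg

/-- The trace of an endomorphism as an intersection number. -/
theorem coeff_trace {L : A.left.Modules} (hL : CohB1.IsAmple L) {g : ℕ} (hg : topologicalKrullDim A.left = g)
    (hg1 : 1 ≤ g) (ψ : EndAV.End A) (P : Polynomial ℚ) (hP0 : P ≠ 0)
    (hP : ∀ j : ℤ, (IsFinite (EndAV.End.toHom (ψ + (j : EndAV.End A))).left →
          ∀ a : A.left, (Scheme.Hom.finrank (EndAV.End.toHom (ψ + (j : EndAV.End A))).left a : ℚ) = P.eval (j : ℚ)) ∧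
        (¬ IsFinite (EndAV.End.toHom (ψ + (j : EndAV.End A))).left → P.eval (j : ℚ) = 0)) :
    P.coeff (2 * g - 1) * (volCl k A.left g ((pair (unitOf hL.1) (𝟙 A) (𝟙 A) : U A) : PicF.Cl A.left) : ℚ) =
      2 * lin k g (pair (unitOf hL.1) (𝟙 A) (𝟙 A)) (pair (unitOf hL.1) (EndAV.End.toHom ψ) (𝟙 A)) := by
  haveI : IsIntegral A.left := GeometricallyIntegral.isIntegral_of_subsingleton A.hom
  set c := unitOf hL.1
  have hc : Inv c := inv_unitOf hL.1
  set c' := pair c (𝟙 A) (𝟙 A)
  set V := (volCl k A.left g (c' : PicF.Cl A.left) : ℚ)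
  have h2 : (2 : ℚ) * lin k g c' (pair c (EndAV.End.toHom ψ) (𝟙 A)) =
      lin k g c' (pair c (EndAV.End.toHom ψ) (𝟙 A) ^ 2) := by
    exact ((lin_pow k hg.le (inv_pair hc _ _) (inv_pair hc _ _) 2).trans (by norm_num [c'])).symm
  show _ = 2 * lin k g c' _
  rw [h2, _root_.mul_comm, ← Polynomial.coeff_C_mul]
  refine coeff_parabola k hg.le hg1 (inv_pair hc _ _) (inv_pow (inv_pair hc _ _) 2)
    (e := pair c (EndAV.End.toHom ψ) (EndAV.End.toHom ψ)) (inv_pair hc _ _) _ ⟨{j : ℤ | P.eval (j : ℚ) ≠ 0}, ?_, fun j hj => ?_⟩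
  · refine Set.infinite_of_finite_compl (Set.Finite.subset
      ((Polynomial.finite_setOf_isRoot hP0).preimage Int.cast_injective.injOn) fun j hj => ?_)
    exact not_not.1 hj
  · haveI hfin : IsFinite (EndAV.End.toHom (ψ + (j : EndAV.End A))).left := not_not.1 fun h => hj ((hP j).2 h)
    let a : A.left := (η[A]).left (IsLocalRing.closedPoint k)
    have hv := vol_pullback (EndAV.End.toHom (ψ + (j : EndAV.End A))) hg hg (inv_pair hc (𝟙 A) (𝟙 A)) a
    change volCl k A.left g ((pb (EndAV.End.toHom (ψ + (j : EndAV.End A))) c' : U A) : PicF.Cl A.left) = _ at hv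
    have hu : pb (EndAV.End.toHom (ψ + (j : EndAV.End A))) c' =
        pair c (EndAV.End.toHom ψ) (EndAV.End.toHom ψ) * (pair c (EndAV.End.toHom ψ) (𝟙 A) ^ 2) ^ j * c' ^ (j * j) := by
      rw [pb_pair, Category.comp_id, EndAV.End.toHom_add, EndAV.End.toHom_intCast]
      have e1 : ∀ w : A ⟶ A, pair c (EndAV.End.toHom ψ * 𝟙 A ^ j) w = pair c (EndAV.End.toHom ψ) w * pair c (𝟙 A) w ^ j :=
        fun w => by rw [pair_mul_left hc, pair_pow_left hc]
      rw [e1, pair_comm c (EndAV.End.toHom ψ) (_ * _), pair_comm c (𝟙 A) (_ * _), e1, e1,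
        pair_comm c (𝟙 A) (EndAV.End.toHom ψ), mul_zpow, pow_two, mul_zpow, ← zpow_mul]
      show _ = _ * _ * c' ^ (j * j)
      simp only [c']
      generalize pair c (EndAV.End.toHom ψ) (EndAV.End.toHom ψ) = x
      generalize pair c (EndAV.End.toHom ψ) (𝟙 A) ^ j = y
      generalize pair c (𝟙 A) (𝟙 A) ^ (j * j) = z
      exact (show ∀ {G : Type (u + 1)} [CommMonoid G] (x y z : G), x * y * (y * z) = x * (y * y) * z from
        fun x y z => by ac_rfl) x y z
    rw [← hu, hv, Polynomial.eval_mul, Polynomial.eval_C, ← (hP j).1 hfin a]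
    push_cast
    ring

end Groth.Agent.AVRosati
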